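import Cfsg.Prelude.Def_HallClasses
import Cfsg.Prelude.Def_OddOrderLocal

/-!
# TEAM RV: row predicates for pronormality (S2223, S3851, S4311 (C)) (helper165)

For `2 ∈ π` and a finite nonabelian simple group `S`:

* `NRow π S` : for every Hall `π`-subgroup `H`, every Sylow `2`-subgroup `P ≤ H` and every automorphism `φ` of odd order
  which centralises `P`, some nontrivial normal subgroup `N` of `H` is `φ`-invariant (`N = H` is allowed);
* `BRow π S` : `N_S(P) ≤ P C_S(P)` for the Sylow `2`-subgroups `P`, or every Hall `π`-subgroup of `S` is pronormal;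
* `CRow π S` : automorphisms of `π'`-order preserve the classes of Hall `π`-subgroups.
-/

set_option autoImplicit false

namespace Cfsg.Agent.H165.RV

open Cfsg

universe u

/-- The `N`-row, for one Hall subgroup `H`. -/
def NAt {S : Type u} [Group S] (H : Subgroup S) : Prop :=
  ∀ P : Sylow 2 S, (P : Subgroup S) ≤ H → ∀ φ : MulAut S, Odd (orderOf φ) → (∀ x ∈ P, φ x = x) →
    ∃ N : Subgroup S, N ≠ ⊥ ∧ N ≤ H ∧ (∀ h ∈ H, ∀ n ∈ N, h * n * h⁻¹ ∈ N) ∧
      N.map (φ : S ≃* S).toMonoidHom = N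

/-- **The `N`-row.** -/
def NRow (π : Set ℕ) (S : Type u) [Group S] : Prop := ∀ H : Subgroup S, IsPiHall π H → NAt H

/-- **The `B`-row.** -/
def BRow (π : Set ℕ) (S : Type u) [Group S] : Prop :=
  (∀ P : Sylow 2 S, ∀ g ∈ Subgroup.normalizer ((P : Subgroup S) : Set S), ∃ t ∈ P,
    t⁻¹ * g ∈ Subgroup.centralizer ((P : Subgroup S) : Set S)) ∨
  ∀ H : Subgroup S, IsPiHall π H → IsPronormal H

/-- **The `C`-row.** -/
def CRow (π : Set ℕ) (S : Type u) [Group S] : Prop :=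
  ∀ H : Subgroup S, IsPiHall π H → ∀ φ : MulAut S, (∀ p : ℕ, p.Prime → p ∣ orderOf φ → p ∉ π) →
    ∃ s : S, H.map (φ : S ≃* S).toMonoidHom = H.map (MulAut.conj s).toMonoidHom

/-- `C_{Aut S}(P)` has no element of odd order -/
def NoOddAut (S : Type u) [Group S] : Prop :=
  ∀ P : Sylow 2 S, ∀ φ : MulAut S, Odd (orderOf φ) → (∀ x ∈ P, φ x = x) → φ = 1

/-- If no nontrivial automorphism of odd order centralises a Sylow `2`-subgroup, the `N`-row holds. -/
theorem NRow.of_noOddAut {π : Set ℕ} {S : Type u} [Group S] [Finite S] (h : NoOddAut S)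
    (h1 : ∀ H : Subgroup S, IsPiHall π H → H ≠ ⊥) : NRow π S := by
  intro H hH P _ φ hφ hP
  refine ⟨H, h1 H hH, le_rfl, fun h hh n hn => H.mul_mem (H.mul_mem hh hn) (H.inv_mem hh), ?_⟩
  rw [h P φ hφ hP]
  exact Subgroup.map_id H

/-- A nontrivial normal `2`-subgroup of `H` serves as `N`. -/
theorem NAt.of_two {S : Type u} [Group S] {H : Subgroup S}
    (h : ∀ P : Sylow 2 S, (P : Subgroup S) ≤ H → ∃ N : Subgroup S, N ≠ ⊥ ∧ N ≤ P ∧ ∀ h ∈ H, ∀ n ∈ N, h * n * h⁻¹ ∈ N) :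
    NAt H := by
  intro P hP φ _ hfix
  obtain ⟨N, h0, hN, hn⟩ := h P hP
  refine ⟨N, h0, hN.trans hP, hn, ?_⟩
  ext x
  constructor
  · rintro ⟨y, hy, rfl⟩
    have : (φ : S ≃* S).toMonoidHom y = y := hfix y (hN hy)
    rw [this]; exact hy
  · intro hx
    exact ⟨x, hx, hfix x (hN hx)⟩

/-- A nontrivial normal `2`-subgroup of `H` serves as `N`. -/
theorem NAt.of_isPGroup {S : Type u} [Group S] [Finite S] {H N : Subgroup S} (h0 : N ≠ ⊥) (_hN : N ≤ H)
    (hp : IsPGroup 2 N) (hn : ∀ h ∈ H, ∀ n ∈ N, h * n * h⁻¹ ∈ N) : NAt H := by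
  refine NAt.of_two fun P hP => ⟨N, h0, ?_, hn⟩
  have hnorm : ∀ g ∈ (P : Subgroup S), g ∈ Subgroup.normalizer (N : Set S) := by
    intro g hg
    rw [Subgroup.mem_normalizer_iff]
    intro n
    constructor
    · exact fun h => hn g (hP hg) n h
    · intro h
      have := hn g⁻¹ (H.inv_mem (hP hg)) _ h
      simpa [mul_assoc] using this
  have hsup : IsPGroup 2 (((P : Subgroup S) ⊔ N : Subgroup S)) := P.isPGroup'.to_sup_of_normal_right' hp hnorm
  exact le_sup_right.trans (le_of_eq (P.is_maximal' hsup le_sup_left))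

end Cfsg.Agent.H165.RV
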