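import Cfsg.Agent.H571.DExtB
import Cfsg.Agent.H165.RV.Defs

/-!
# TEAM RV: pronormality of Hall subgroups, elementary steps (helper165)

`Pr H g` : `H` and `g H g⁻¹` are conjugate in the subgroup they generate.

* `Pr.trans` : `x ∈ ⟨H, H^g⟩` and `Pr H (x⁻¹ g)` imply `Pr H g`;
* `exists_of_quot` : from `Pr` modulo a normal subgroup;
* `Pr.of_inter` : the Schur-Zassenhaus step.
-/

set_option autoImplicit false

namespace Cfsg.Agent.H165.RV

open Subgroup Cfsg Cfsg.Agent.H988.CPi Cfsg.Agent.H571.DExt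
open scoped Pointwise

universe u

variable {G : Type u} [Group G]

/-- `H` and `g H g⁻¹` are conjugate in the subgroup they generate. -/
def Pr (H : Subgroup G) (g : G) : Prop :=
  ∃ x ∈ H ⊔ MulAut.conj g • H, MulAut.conj g • H = MulAut.conj x • H

theorem cj_eq (g : G) (H : Subgroup G) : H.map (MulAut.conj g).toMonoidHom = MulAut.conj g • H := by
  ext x
  simp [Subgroup.mem_map, Subgroup.mem_smul_pointwise_iff_exists]

theorem isPronormal_iff {H : Subgroup G} : IsPronormal H ↔ ∀ g, Pr H g := by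
  unfold IsPronormal Pr
  constructor
  · intro h g
    obtain ⟨x, hx, he⟩ := h g
    refine ⟨x, ?_, ?_⟩
    · rw [← cj_eq]; exact hx
    · rw [← cj_eq, ← cj_eq]; exact he
  · intro h g
    obtain ⟨x, hx, he⟩ := h g
    refine ⟨x, ?_, ?_⟩
    · rw [cj_eq]; exact hx
    · rw [cj_eq, cj_eq]; exact he

theorem Pr.of_eq {H : Subgroup G} {g : G} (h : MulAut.conj g • H = H) : Pr H g :=
  ⟨1, one_mem _, by rw [h]; simp⟩

theorem Pr.of_mem {H : Subgroup G} {g : G} (h : g ∈ H ⊔ MulAut.conj g • H) : Pr H g := ⟨g, h, rfl⟩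

theorem smul_mul (a b : G) (H : Subgroup G) : MulAut.conj (a * b) • H = MulAut.conj a • MulAut.conj b • H := by
  rw [map_mul, mul_smul]

theorem smul_sup' (a : G) (H K : Subgroup G) : MulAut.conj a • (H ⊔ K) = MulAut.conj a • H ⊔ MulAut.conj a • K :=
  Subgroup.smul_sup _ _ _

theorem smul_eq_of_mem {H : Subgroup G} {h : G} (hh : h ∈ H) : MulAut.conj h • H = H :=
  Subgroup.conj_smul_eq_self_of_mem hh

theorem smul_normal (A : Subgroup G) [A.Normal] (g : G) : MulAut.conj g • A = A :=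
  Subgroup.Normal.conj_smul_eq_self g A

theorem smul_inf' (a : G) (H K : Subgroup G) : MulAut.conj a • (H ⊓ K) = MulAut.conj a • H ⊓ MulAut.conj a • K :=
  Subgroup.smul_inf _ _ _

theorem smul_congr {H K : Subgroup G} {a b c : G} (h : MulAut.conj a • H = MulAut.conj b • K) :
    MulAut.conj (c * a) • H = MulAut.conj (c * b) • K := by
  rw [smul_mul, smul_mul, h]

theorem conj_inv_smul_smul (a : G) (H : Subgroup G) : MulAut.conj a⁻¹ • MulAut.conj a • H = H := by
  rw [← smul_mul, inv_mul_cancel]; simp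

theorem conj_smul_inv_smul (a : G) (H : Subgroup G) : MulAut.conj a • MulAut.conj a⁻¹ • H = H := by
  rw [← smul_mul, mul_inv_cancel]; simp

/-- **The composition step.** -/
theorem Pr.trans {H : Subgroup G} {g x : G} (hx : x ∈ H ⊔ MulAut.conj g • H) (h : Pr H (x⁻¹ * g)) : Pr H g := by
  obtain ⟨z, hz, he⟩ := h
  have h1 : H ⊔ MulAut.conj (x⁻¹ * g) • H ≤ H ⊔ MulAut.conj g • H := by
    refine sup_le le_sup_left ?_
    rw [smul_mul]
    have h2 : MulAut.conj x⁻¹ • MulAut.conj g • H ≤ MulAut.conj x⁻¹ • (H ⊔ MulAut.conj g • H) :=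
      pointwise_smul_le_pointwise_smul_iff.mpr le_sup_right
    rwa [smul_eq_of_mem (inv_mem hx)] at h2
  refine ⟨x * z, mul_mem hx (h1 hz), ?_⟩
  rw [smul_mul, ← he, ← smul_mul]
  congr 2
  group

/-- right multiplication by an element of `H` -/
theorem Pr.mul_right {H : Subgroup G} {g h : G} (hh : h ∈ H) (hg : Pr H g) : Pr H (g * h) := by
  have h1 : MulAut.conj (g * h) • H = MulAut.conj g • H := by rw [smul_mul, smul_eq_of_mem hh]
  obtain ⟨x, hx, he⟩ := hg
  exact ⟨x, by rw [h1]; exact hx, by rw [h1]; exact he⟩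

/-- images -/
theorem map_smul' {G' : Type*} [Group G'] (f : G →* G') (a : G) (H : Subgroup G) :
    (MulAut.conj a • H).map f = MulAut.conj (f a) • H.map f := by
  rw [← cj_eq, ← cj_eq, Subgroup.map_map, Subgroup.map_map]
  congr 1
  ext x
  simp

/-- `Pr` passes from a subgroup to the group. -/
theorem Pr.of_subgroup {M : Subgroup G} {H : Subgroup M} {g : M} (h : Pr H g) :
    Pr (H.map M.subtype) (g : G) := by
  obtain ⟨x, hx, he⟩ := h
  refine ⟨x, ?_, ?_⟩
  · have h1 : M.subtype x ∈ (H ⊔ MulAut.conj g • H).map M.subtype := ⟨x, hx, rfl⟩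
    rw [Subgroup.map_sup, map_smul'] at h1
    exact h1
  · have h1 := congrArg (Subgroup.map M.subtype) he
    rw [map_smul', map_smul'] at h1
    exact h1

theorem Pr.of_subgroupOf {M H : Subgroup G} (hH : H ≤ M) {g : M} (h : Pr (H.subgroupOf M) g) : Pr H (g : G) := by
  have h1 := h.of_subgroup
  rwa [subgroupOf_map_subtype, inf_of_le_left hH] at h1

/-- **The quotient step.** -/
theorem exists_of_quot (A : Subgroup G) [A.Normal] {H : Subgroup G} {g : G}
    (h : Pr (H.map (QuotientGroup.mk' A)) (QuotientGroup.mk' A g)) :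
    ∃ x ∈ H ⊔ MulAut.conj g • H, MulAut.conj (x⁻¹ * g) • H ⊔ A = H ⊔ A := by
  obtain ⟨x', hx', he⟩ := h
  rw [← map_smul', ← Subgroup.map_sup] at hx'
  obtain ⟨x, hx, rfl⟩ := hx'
  refine ⟨x, hx, ?_⟩
  rw [← map_smul', ← map_smul'] at he
  have h1 : MulAut.conj g • H ⊔ A = MulAut.conj x • H ⊔ A := by
    have := congrArg (Subgroup.comap (QuotientGroup.mk' A)) he
    rwa [comap_map_eq, comap_map_eq, QuotientGroup.ker_mk'] at this
  have h2 := congrArg (fun K => MulAut.conj x⁻¹ • K) h1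
  simp only [smul_sup', smul_normal] at h2
  rw [conj_inv_smul_smul, ← smul_mul] at h2
  exact h2

theorem le_normalizer_inf (H A : Subgroup G) [A.Normal] : H ≤ normalizer ((H ⊓ A : Subgroup G) : Set G) := by
  intro h hh
  rw [mem_normalizer_iff]
  intro n
  constructor
  · rintro ⟨h1, h2⟩
    exact ⟨H.mul_mem (H.mul_mem hh h1) (H.inv_mem hh), (inferInstance : A.Normal).conj_mem _ h2 _⟩
  · rintro ⟨h1, h2⟩
    have h3 := H.mul_mem (H.mul_mem (H.inv_mem hh) h1) hh
    have h4 := (inferInstance : A.Normal).conj_mem _ h2 h⁻¹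
    refine ⟨?_, ?_⟩
    · simpa [mul_assoc] using h3
    · simpa [mul_assoc] using h4

variable [Finite G] {π : Set ℕ}

omit [Finite G] in
theorem card_smul (g : G) (H : Subgroup G) : Nat.card (MulAut.conj g • H : Subgroup G) = Nat.card H :=
  Cfsg.Agent.Solvable.SZ.card_conj_smul _ _

theorem relIndex_eq_of_card {H K J : Subgroup G} (hH : H ≤ J) (hK : K ≤ J) (h : Nat.card K = Nat.card H) :
    K.relIndex J = H.relIndex J := by
  have h1 := (H.subgroupOf J).card_mul_index
  have h2 := (K.subgroupOf J).card_mul_index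
  have c1 : Nat.card (H.subgroupOf J) = Nat.card H := by
    rw [← card_map_of_injective J.subtype_injective, subgroupOf_map_subtype, inf_of_le_left hH]
  have c2 : Nat.card (K.subgroupOf J) = Nat.card K := by
    rw [← card_map_of_injective J.subtype_injective, subgroupOf_map_subtype, inf_of_le_left hK]
  rw [c1] at h1
  rw [c2, h, ← h1] at h2
  exact Nat.eq_of_mul_eq_mul_left Nat.card_pos h2

/-- **The Schur-Zassenhaus step.** -/
theorem Pr.of_inter_eq (A : Subgroup G) [A.Normal] {H : Subgroup G} {y : G} (hπ : PiN π (Nat.card H))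
    (hA : PiN' π (H.relIndex A)) (hy : MulAut.conj y • H ⊔ A = H ⊔ A) (hR : MulAut.conj y • (H ⊓ A) = H ⊓ A) :
    Pr H y := by
  set J := H ⊔ MulAut.conj y • H with hJ
  have hHJ : H ≤ J := le_sup_left
  have hyJ : MulAut.conj y • H ≤ J := le_sup_right
  have hJA : J ≤ H ⊔ A := sup_le le_sup_left (by rw [← hy]; exact le_sup_left)
  -- `R = H ⊓ A` is normal in `J`
  have hRy : MulAut.conj y • H ⊓ A = H ⊓ A := by
    have h1 := hR
    rw [smul_inf', smul_normal A] at h1
    exact h1
  have hRJ : H ⊓ A ≤ J := inf_le_left.trans hHJ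
  have hNR : J ≤ normalizer ((H ⊓ A : Subgroup G) : Set G) := by
    refine sup_le (le_normalizer_inf H A) ?_
    have := le_normalizer_inf (MulAut.conj y • H) A
    rwa [hRy] at this
  have n1 : ((H ⊓ A).subgroupOf J).Normal := (normal_subgroupOf_iff_le_normalizer hRJ).mpr hNR
  have n2 : (A.subgroupOf J).Normal := inferInstance
  have hAHA : PiN π (A.relIndex (H ⊔ A)) := by
    rw [relIndex_sup_right]
    exact hπ.of_dvd (relIndex_dvd_card A H)
  have hC : IsCPiGroup π J := by
    refine cpi_of_chain ((H ⊓ A).subgroupOf J) (A.subgroupOf J) ?_ ?_ ?_ ?_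
    · intro x hx; exact hx.2
    · rw [← card_map_of_injective J.subtype_injective, subgroupOf_map_subtype, inf_of_le_left hRJ]
      exact hπ.of_dvd (card_dvd_of_le inf_le_left)
    · refine PiN'.of_dvd hA ?_
      have e1 : A.subgroupOf J = (A ⊓ J).subgroupOf J := by
        ext x; simp [mem_subgroupOf]
      rw [e1, relIndex_subgroupOf inf_le_right, ← inf_relIndex_right H A,
        ← relIndex_mul_relIndex (H ⊓ A) (A ⊓ J) A (le_inf inf_le_right hRJ) inf_le_left]
      exact dvd_mul_right _ _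
    · refine PiN.of_dvd hAHA ?_
      show A.relIndex J ∣ _
      rw [← relIndex_sup_right, ← relIndex_mul_relIndex A (J ⊔ A) (H ⊔ A) le_sup_right (sup_le hJA le_sup_right)]
      exact dvd_mul_right _ _
  have hrel : PiN' π (H.relIndex J) := by
    refine PiN'.of_dvd hA ?_
    rw [← relIndex_sup' H A, ← relIndex_mul_relIndex H J (H ⊔ A) hHJ hJA]
    exact dvd_mul_right _ _
  have hrel' : PiN' π ((MulAut.conj y • H).relIndex J) := by
    rw [relIndex_eq_of_card hHJ hyJ (card_smul y H)]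
    exact hrel
  obtain ⟨x, hx, he⟩ := conj_of_cpi hC hHJ hyJ hπ hrel (by rw [card_smul]; exact hπ) hrel'
  exact ⟨x, hx, he.symm⟩

/-- **The general extension step.** -/
theorem Pr.of_inter (A : Subgroup G) [A.Normal] {H : Subgroup G} {y : G} (hπ : PiN π (Nat.card H))
    (hA : PiN' π (H.relIndex A)) (hy : MulAut.conj y • H ⊔ A = H ⊔ A) (hR : Pr (H ⊓ A) y) : Pr H y := by
  obtain ⟨z, hz, he⟩ := hR
  have hle : H ⊓ A ⊔ MulAut.conj y • (H ⊓ A) ≤ H ⊔ MulAut.conj y • H := by
    refine sup_le (inf_le_left.trans le_sup_left) ?_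
    rw [smul_inf']
    exact inf_le_left.trans le_sup_right
  have hzA : z ∈ A := by
    have : H ⊓ A ⊔ MulAut.conj y • (H ⊓ A) ≤ A := by
      refine sup_le inf_le_right ?_
      rw [smul_inf', smul_normal A]
      exact inf_le_right
    exact this hz
  refine Pr.trans (hle hz) (Pr.of_inter_eq A hπ hA ?_ ?_)
  · rw [smul_mul]
    have h1 : MulAut.conj z⁻¹ • (MulAut.conj y • H ⊔ A) = MulAut.conj z⁻¹ • (H ⊔ A) := by rw [hy]
    rw [smul_sup', smul_normal A, smul_eq_of_mem (H := H ⊔ A) (inv_mem (mem_sup_right hzA))] at h1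
    exact h1
  · rw [smul_mul, he, conj_inv_smul_smul]

end Cfsg.Agent.H165.RV
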