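import Cfsg.Agent.H165.RV.PronGen

/-!
# TEAM RV: pronormality of Hall subgroups, the main induction (helper165)
-/

set_option autoImplicit false

namespace Cfsg.Agent.H165.RV

open Subgroup Cfsg Cfsg.Agent.H988.CPi Cfsg.Agent.H571.DExt
open scoped Pointwise

universe u

variable {π : Set ℕ} {G : Type u} [Group G] [Finite G]

/-- odd part of an element which centralises the Sylow subgroup -/
theorem exists_odd_part {T : Subgroup G} (t1 : IsPGroup 2 T) (t2 : ¬ 2 ∣ T.index) {c : G}
    (hc : ∀ t ∈ T, c * t * c⁻¹ = t) :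
    ∃ a t : G, c = a * t ∧ t ∈ T ∧ Odd (orderOf a) ∧ ∀ s ∈ T, a * s * a⁻¹ = s := by
  have : Fact (Nat.Prime 2) := ⟨Nat.prime_two⟩
  obtain ⟨k, m, hm, hk⟩ := Nat.exists_eq_pow_mul_and_not_dvd (orderOf_pos c).ne' 2 (by norm_num)
  have hco : Nat.Coprime (2 ^ k) m := Nat.Coprime.pow_left _ (Nat.prime_two.coprime_iff_not_dvd.2 hm)
  obtain ⟨e, hc1, hc2⟩ := Nat.chineseRemainder hco 0 1
  have h1 : 2 ^ k ∣ e := (Nat.modEq_zero_iff_dvd).1 hc1
  have hodd : (c ^ e) ^ m = 1 := by
    rw [← pow_mul]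
    obtain ⟨d, rfl⟩ := h1
    rw [show 2 ^ k * d * m = orderOf c * d by rw [hk]; ring, pow_mul, pow_orderOf_eq_one, one_pow]
  have hs : (c ^ ((1 : ℤ) - e)) ^ (2 ^ k) = 1 := by
    rw [← zpow_natCast, ← zpow_mul, ← orderOf_dvd_iff_zpow_eq_one, hk]
    have h2 : (m : ℤ) ∣ 1 - e := by
      have := (Nat.modEq_iff_dvd.1 hc2)
      exact_mod_cast this
    obtain ⟨d, hd⟩ := h2
    rw [hd]
    push_cast
    exact ⟨d, by ring⟩
  have hcen : ∀ t ∈ T, Commute c t := fun t ht => by
    have := hc t ht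
    show c * t = t * c
    calc c * t = c * t * c⁻¹ * c := by group
      _ = t * c := by rw [this]
  refine ⟨c ^ e, c ^ ((1 : ℤ) - e), ?_, ?_, ?_, ?_⟩
  · rw [← zpow_natCast, ← zpow_add]; simp
  · -- a 2-element of the centraliser is in `T`
    set w := c ^ ((1 : ℤ) - e) with hw
    have hwc : ∀ t ∈ T, Commute w t := fun t ht => (hcen t ht).zpow_left _
    have h2 : IsPGroup 2 (zpowers w) := by
      rw [IsPGroup.iff_orderOf]
      rintro ⟨x, hx⟩
      obtain ⟨j, hj⟩ := mem_zpowers_iff.mp hx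
      have h3 : x ^ 2 ^ k = 1 := by
        rw [← hj, ← zpow_natCast, ← zpow_mul, mul_comm, zpow_mul, zpow_natCast, hs, one_zpow]
      have h4 : (⟨x, hx⟩ : zpowers w) ^ 2 ^ k = 1 := Subtype.ext h3
      obtain ⟨i, _, hi⟩ := (Nat.dvd_prime_pow Nat.prime_two).mp (orderOf_dvd_of_pow_eq_one h4)
      exact ⟨i, hi⟩
    have h5 : T ≤ normalizer (zpowers w : Set G) := by
      intro t ht
      rw [mem_normalizer_iff]
      have h6 : ∀ x ∈ zpowers w, t * x * t⁻¹ = x := by
        intro x hx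
        obtain ⟨j, rfl⟩ := mem_zpowers_iff.mp hx
        have := ((hwc t ht).zpow_left j).eq
        calc t * w ^ j * t⁻¹ = w ^ j * t * t⁻¹ := by rw [this]
          _ = w ^ j := by group
      intro x
      constructor
      · intro hx
        show t * x * t⁻¹ ∈ zpowers w
        rw [h6 x hx]; exact hx
      · intro hx
        have h7 : t * (t * x * t⁻¹) = (t * x * t⁻¹) * t := by
          have := h6 _ hx
          calc t * (t * x * t⁻¹) = t * (t * x * t⁻¹) * t⁻¹ * t := by group
            _ = (t * x * t⁻¹) * t := by rw [this]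
        have h8 : t * x * t⁻¹ = x := by
          have h9 : t * (t * x * t⁻¹) = t * x := by rw [h7]; group
          exact mul_left_cancel h9
        rw [h8] at hx; exact hx
    have h6 : IsPGroup 2 (zpowers w ⊔ T : Subgroup G) := h2.to_sup_of_normal_left' t1 h5
    have h7 : T = zpowers w ⊔ T := by
      by_contra hne
      have hlt : T < zpowers w ⊔ T := lt_of_le_of_ne le_sup_right hne
      have h8 : T.relIndex (zpowers w ⊔ T) ≠ 1 := fun h => hne (le_antisymm le_sup_right (relIndex_eq_one.mp h))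
      obtain ⟨j, hj⟩ := (IsPGroup.iff_card.mp h6)
      have h9 : T.relIndex (zpowers w ⊔ T) ∣ 2 ^ j := hj ▸ relIndex_dvd_card _ _
      obtain ⟨i, _, hi⟩ := (Nat.dvd_prime_pow Nat.prime_two).mp h9
      have hi0 : i ≠ 0 := fun h => h8 (by rw [hi, h, pow_zero])
      exact t2 (((dvd_pow_self 2 hi0).trans (hi ▸ dvd_rfl)).trans ⟨_, (relIndex_mul_index (le_sup_right : T ≤ zpowers w ⊔ T)).symm⟩)
    rw [h7]
    exact mem_sup_left (mem_zpowers w)
  · exact Odd.of_dvd_nat (Nat.odd_iff.2 (by omega)) (orderOf_dvd_of_pow_eq_one hodd)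
  · intro s hs'
    have := ((hcen s hs').pow_left e).eq
    rw [this, mul_inv_cancel_right]

/-- A Hall subgroup with `2 ∈ π` contains a Sylow `2`-subgroup. -/
theorem exists_sylow_le (h2 : 2 ∈ π) {H : Subgroup G} (hH : IsPiHall π H) : ∃ P : Sylow 2 G, (P : Subgroup G) ≤ H := by
  have : Fact (Nat.Prime 2) := ⟨Nat.prime_two⟩
  obtain ⟨P⟩ : Nonempty (Sylow 2 H) := inferInstance
  have h3 : IsPGroup 2 ((P : Subgroup H).map H.subtype) := P.isPGroup'.map _
  have h4 : ¬ 2 ∣ ((P : Subgroup H).map H.subtype).index := by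
    rw [index_map_subtype]
    intro h
    rcases (Nat.prime_two.dvd_mul).mp h with h | h
    · exact P.not_dvd_index h
    · exact hH.2 2 Nat.prime_two h2 h
  exact ⟨h3.toSylow h4, map_subtype_le _⟩

/-- **Pronormality in a group from the claim and the `B`-row.** -/
theorem pronormal_of_claim (h2 : 2 ∈ π) (hB : BRow π G) (ih : Claim.{u} π (Nat.card G)) {H : Subgroup G}
    (hH : IsPiHall π H) : IsPronormal H := by
  rcases hB with hB | hB
  swap
  · exact hB H hH
  have : Fact (Nat.Prime 2) := ⟨Nat.prime_two⟩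
  rw [isPronormal_iff]
  intro g
  obtain ⟨P, hP⟩ := exists_sylow_le h2 hH
  -- make `g` normalise `P`
  set J := H ⊔ MulAut.conj g • H with hJ
  have hPJ : (P : Subgroup G) ≤ J := hP.trans le_sup_left
  have hgPJ : ((g • P : Sylow 2 G) : Subgroup G) ≤ J := by
    rw [Sylow.coe_subgroup_smul]
    exact (pointwise_smul_le_pointwise_smul_iff.mpr hP).trans le_sup_right
  obtain ⟨x, hx⟩ := MulAction.exists_smul_eq J (P.subtype hPJ) ((g • P).subtype hgPJ)
  have hx' : (x : G) • P = g • P := by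
    apply Sylow.ext
    have h3 := congrArg (fun Q : Sylow 2 J => (Q : Subgroup J).map J.subtype) hx
    simp only [Sylow.coe_subgroup_smul, Sylow.coe_subtype] at h3
    rw [subgroupOf_map_subtype, inf_of_le_left (by rw [Sylow.coe_subgroup_smul] at hgPJ; exact hgPJ)] at h3
    rw [Sylow.coe_subgroup_smul, Sylow.coe_subgroup_smul, ← h3, map_smul', subgroupOf_map_subtype,
      inf_of_le_left hPJ]
    rfl
  refine Pr.trans x.2 ?_
  set y := (x : G)⁻¹ * g with hy
  have hyP : y ∈ normalizer ((P : Subgroup G) : Set G) := by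
    apply normalizer_of_smul_eq
    have h4 := congrArg (fun Q : Sylow 2 G => (Q : Subgroup G)) hx'
    simp only [Sylow.coe_subgroup_smul] at h4
    rw [hy, smul_mul, ← h4, conj_inv_smul_smul]
  obtain ⟨t, ht, htc⟩ := hB P y hyP
  -- `y = c t` with `c ∈ C(P)`
  set c := y * t⁻¹ with hc
  have hcc : ∀ s ∈ (P : Subgroup G), c * s * c⁻¹ = s := by
    intro s hs
    have h3 : t⁻¹ * s * t ∈ (P : Subgroup G) := mul_mem (mul_mem (inv_mem ht) hs) ht
    have h4 := mem_centralizer_iff.mp htc _ h3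
    calc c * s * c⁻¹ = t * ((t⁻¹ * y) * (t⁻¹ * s * t)) * y⁻¹ := by rw [hc]; group
      _ = t * ((t⁻¹ * s * t) * (t⁻¹ * y)) * y⁻¹ := by rw [h4]
      _ = s := by group
  obtain ⟨a, s, hcas, hs, hodd, hacen⟩ := exists_odd_part (T := (P : Subgroup G)) P.isPGroup' P.not_dvd_index hcc
  have hyas : y = a * (s * t) := by
    calc y = c * t := by rw [hc]; group
      _ = a * (s * t) := by rw [hcas, mul_assoc]
  rw [hyas]
  refine Pr.mul_right (hP (mul_mem hs ht)) ?_
  refine ih G ⊤ H P a (card_top) ⟨?_, le_top, hH.1, ?_, hP, P.isPGroup', ?_, hodd, hacen⟩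
  · rw [mem_normalizer_iff]; intro z; simp
  · rw [relIndex_top_right]; exact hH.2
  · rw [relIndex_top_right]; exact P.not_dvd_index

/-- **The case of a simple group.** -/
theorem simple_step {K H T : Subgroup G} [K.Normal] (hs : IsSimpleGroup K) (hN : NRow π K) {g : G}
    (c : Conf π K H T g) (ih : ∀ k < Nat.card K, Claim.{u} π k) : Pr H g := by
  have : Fact (Nat.Prime 2) := ⟨Nat.prime_two⟩
  by_cases hHK : H = K
  · exact Pr.of_eq (by rw [hHK]; exact smul_normal K g)
  have hTK : T ≤ K := c.tH.trans c.hK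
  set P : Sylow 2 K := (c.t1.comap_subtype : IsPGroup 2 (T.subgroupOf K)).toSylow c.t2 with hP
  have hPT : (P : Subgroup K) = T.subgroupOf K := rfl
  set φ : MulAut K := MulAut.conjNormal g with hφ
  have hφodd : Odd (orderOf φ) := c.odd.of_dvd_nat (orderOf_map_dvd _ _)
  have hφP : ∀ x ∈ (P : Subgroup K), φ x = x := by
    intro x hx
    apply Subtype.ext
    rw [hφ, MulAut.conjNormal_apply]
    exact c.cen x (by rw [hPT] at hx; exact hx)
  have hH' : IsPiHall π (H.subgroupOf K) := by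
    refine ⟨?_, c.h2⟩
    have : Nat.card (H.subgroupOf K) = Nat.card H := by
      rw [← card_map_of_injective K.subtype_injective, subgroupOf_map_subtype, inf_of_le_left c.hK]
    rw [this]; exact c.h1
  obtain ⟨N, hN0, hNH, hNn, hNφ⟩ := hN (H.subgroupOf K) hH' P (by rw [hPT]; exact fun x hx => c.tH hx) φ hφodd hφP
  set N' := N.map K.subtype with hN'
  have hN'K : N' ≤ K := map_subtype_le _
  have hN'H : N' ≤ H := by
    rintro _ ⟨n, hn, rfl⟩
    exact hNH hn
  have hN'0 : N' ≠ ⊥ := by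
    intro h
    apply hN0
    rw [eq_bot_iff]
    intro n hn
    have : (K.subtype n) ∈ N' := ⟨n, hn, rfl⟩
    rw [h, mem_bot] at this
    exact mem_bot.mpr (K.subtype_injective (by rw [this, map_one]))
  have hHN : H ≤ normalizer (N' : Set G) := by
    have key : ∀ h ∈ H, ∀ n ∈ N', h * n * h⁻¹ ∈ N' := by
      rintro h hh _ ⟨n, hn, rfl⟩
      exact ⟨_, hNn ⟨h, c.hK hh⟩ hh n hn, rfl⟩
    intro h hh
    rw [mem_normalizer_iff]
    intro n
    refine ⟨key h hh n, fun hn => ?_⟩
    have := key h⁻¹ (inv_mem hh) _ hn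
    simpa [mul_assoc] using this
  have hgN : MulAut.conj g • N' = N' := by
    have h3 : ∀ n ∈ N', g * n * g⁻¹ ∈ N' := by
      rintro _ ⟨n, hn, rfl⟩
      refine ⟨φ n, ?_, ?_⟩
      · rw [← hNφ]; exact ⟨n, hn, rfl⟩
      · rw [hφ]; exact MulAut.conjNormal_apply g n
    apply eq_of_le_of_card_ge
    · rw [← cj_eq]
      rintro _ ⟨n, hn, rfl⟩
      exact h3 n hn
    · rw [card_smul]
  have hgN' : g ∈ normalizer (N' : Set G) := normalizer_of_smul_eq hgN
  set M := K ⊓ normalizer (N' : Set G) with hM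
  have hMK : M < K := by
    refine lt_of_le_of_ne inf_le_left fun h => hHK ?_
    have h3 : K ≤ normalizer (N' : Set G) := inf_eq_left.mp h
    have h4 : (N'.subgroupOf K).Normal := (normal_subgroupOf_iff_le_normalizer hN'K).mpr h3
    rcases hs.eq_bot_or_eq_top_of_normal _ h4 with h5 | h5
    · exact absurd (by rw [eq_bot_iff]; intro n hn; have : (⟨n, hN'K hn⟩ : K) ∈ N'.subgroupOf K := hn; rw [h5, mem_bot] at this; exact mem_bot.mpr (congrArg Subtype.val this)) hN'0
    · have h6 : K ≤ N' := subgroupOf_eq_top.mp h5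
      exact le_antisymm c.hK (h6.trans hN'H)
  have hgM : g ∈ normalizer (M : Set G) := by
    apply normalizer_of_smul_eq
    rw [hM, smul_inf', smul_normal K, smul_eq_of_mem hgN']
  have hlt : Nat.card M < Nat.card K := by
    by_contra hc
    exact hMK.ne (eq_of_le_of_card_ge hMK.le (not_lt.mp hc))
  exact ih _ hlt G M H T g rfl (c.of_le hMK.le (le_inf c.hK hHN) hgM)

/-- an abelian minimal normal subgroup is a `π`-group or a `π'`-group -/
theorem abelian_min (π : Set ℕ) {A : Subgroup G} [hA : A.Normal]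
    (hmin : ∀ B : Subgroup G, B.Normal → B ≤ A → B ≠ ⊥ → B = A) (hAb : ∀ x ∈ A, ∀ y ∈ A, Commute x y) :
    PiN π (Nat.card A) ∨ PiN' π (Nat.card A) := by
  by_cases h1 : PiN' π (Nat.card A)
  · exact Or.inr h1
  left
  unfold PiN' at h1
  push Not at h1
  obtain ⟨p, hp, hpπ, hd⟩ := h1
  have : Fact p.Prime := ⟨hp⟩
  set B : Subgroup G :=
    { carrier := {a | a ∈ A ∧ a ^ p = 1}
      mul_mem' := fun {a b} ha hb => ⟨mul_mem ha.1 hb.1, by
        rw [(hAb a ha.1 b hb.1).mul_pow, ha.2, hb.2, one_mul]⟩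
      one_mem' := ⟨one_mem _, one_pow _⟩
      inv_mem' := fun {a} ha => ⟨inv_mem ha.1, by rw [inv_pow, ha.2, inv_one]⟩ } with hB
  have hBn : B.Normal := ⟨fun b hb g => ⟨hA.conj_mem _ hb.1 g, by rw [conj_pow, hb.2]; group⟩⟩
  have hB0 : B ≠ ⊥ := by
    obtain ⟨a, ha⟩ := exists_prime_orderOf_dvd_card' p hd
    intro h
    have h3 : (a : G) ∈ B := ⟨a.2, by
      have := pow_orderOf_eq_one a
      rw [ha] at this
      exact_mod_cast congrArg Subtype.val this⟩
    rw [h, mem_bot] at h3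
    have h4 : a = 1 := Subtype.ext h3
    rw [h4, orderOf_one] at ha
    exact hp.one_lt.ne ha
  have hBA : B = A := hmin B hBn (fun b hb => hb.1) hB0
  have hpA : IsPGroup p A := by
    intro a
    refine ⟨1, Subtype.ext ?_⟩
    have : (a : G) ∈ B := by rw [hBA]; exact a.2
    rw [pow_one]
    exact this.2
  obtain ⟨k, hk⟩ := IsPGroup.iff_card.mp hpA
  intro q hq hqd
  rw [hk] at hqd
  rwa [(Nat.prime_dvd_prime_iff_eq hq hp).mp (hq.dvd_of_dvd_pow hqd)]

omit [Finite G] in
theorem smul_bot' (g : G) : MulAut.conj g • (⊥ : Subgroup G) = ⊥ := by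
  rw [← cj_eq]; exact Subgroup.map_bot _

theorem card_map_mul {A K : Subgroup G} [A.Normal] (hAK : A ≤ K) :
    Nat.card (K.map (QuotientGroup.mk' A)) * Nat.card A = Nat.card K := by
  have h1 := (K.map (QuotientGroup.mk' A)).card_mul_index
  rw [index_map_eq _ (QuotientGroup.mk'_surjective A) (by rw [QuotientGroup.ker_mk']; exact hAK)] at h1
  have h2 := K.card_mul_index
  have h3 : Nat.card (G ⧸ A) * Nat.card A = Nat.card G := (card_eq_card_quotient_mul_card_subgroup A).symm
  have h4 : K.index ≠ 0 := index_ne_zero_of_finite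
  apply Nat.eq_of_mul_eq_mul_right (Nat.pos_of_ne_zero h4)
  rw [h2, ← h3, ← h1]
  ring

/-- **The main step.** -/
theorem main_step (h2 : 2 ∈ π)
    (hN : ∀ (S : Type u) [Group S] [Finite S] [IsSimpleGroup S], ¬ IsMulCommutative S → NRow π S)
    (hB : ∀ (S : Type u) [Group S] [Finite S] [IsSimpleGroup S], ¬ IsMulCommutative S → BRow π S)
    {K H T : Subgroup G} [hK : K.Normal] {g : G} (c : Conf π K H T g) (ih : ∀ k < Nat.card K, Claim.{u} π k) :
    Pr H g := by
  by_cases hK0 : K = ⊥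
  · have hH0 : H = ⊥ := eq_bot_iff.mpr (hK0 ▸ c.hK)
    exact Pr.of_eq (by rw [hH0]; exact smul_bot' g)
  by_cases hKs : IsSimpleGroup K ∧ ¬ IsMulCommutative K
  · have := hKs.1
    exact simple_step hKs.1 (hN K hKs.2) c ih
  obtain ⟨A, hAn, hA0, hAK, hmin⟩ := Cfsg.Agent.H165.Wiel.exists_min_normal G K hK hK0
  have hKA : K ≤ normalizer (A : Set G) := le_normalizer_of_normal
  have hcA : 1 < Nat.card A := (one_lt_card_iff_ne_bot A).mpr hA0
  have hlt : Nat.card (K.map (QuotientGroup.mk' A)) < Nat.card K := by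
    rw [← card_map_mul hAK]
    exact lt_mul_of_one_lt_right Nat.card_pos hcA
  obtain ⟨x, hx, hxe⟩ := exists_of_quot A (ih _ hlt (G ⧸ A) _ _ _ _ rfl (c.quot A hAK))
  have hHA : PiN' π (H.relIndex A) := c.h2.of_dvd (relIndex_dvd' hAK hKA)
  refine Pr.trans hx (Pr.of_inter A c.h1 hHA hxe ?_)
  by_cases hab : ∀ x ∈ A, ∀ y ∈ A, Commute x y
  · rcases abelian_min π hmin hab with h3 | h3
    · have h4 : A ≤ H := relIndex_eq_one.mp (eq_one_of_both (h3.of_dvd (relIndex_dvd_card H A)) hHA)
      rw [inf_of_le_right h4]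
      exact Pr.of_eq (smul_normal A _)
    · have h4 : H ⊓ A = ⊥ := by
        apply card_eq_one.mp
        exact eq_one_of_both (c.h1.of_dvd (card_dvd_of_le inf_le_left)) (h3.of_dvd (card_dvd_of_le inf_le_right))
      rw [h4]
      exact Pr.of_eq (smul_bot' _)
  obtain ⟨m, L, e, hm, hsim, hnab, hinj, hLA, hAL, hperm, htr, hsing, hcoord⟩ :=
    Cfsg.Agent.PermutationGroups.OnanScott.exists_coordinates A (fun M hM hMA => by
      by_cases hMb : M = ⊥
      · exact Or.inl hMb
      · exact Or.inr (hmin M hM hMA hMb)) hab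
  have hperm' : ∀ (g : G) i, ∃ j, L j = MulAut.conj g • L i := fun g i => by
    obtain ⟨j, hj⟩ := hperm g i
    exact ⟨j, by rw [hj, cj_eq]⟩
  have hnc : ∀ i, ¬ IsMulCommutative (L i) := by
    intro i h
    obtain ⟨a, b, hab'⟩ := hnab i
    exact hab' (h.is_comm.comm a b)
  have hLK : ∀ i, Nat.card (L i) < Nat.card K := by
    intro i
    by_contra hcon
    have h3 : L i = K := eq_of_le_of_card_ge ((hLA i).trans hAK) (not_lt.mp hcon)
    have h4 := hsim i
    have h5 := hnc i
    rw [h3] at h4 h5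
    exact hKs ⟨h4, h5⟩
  -- `g` is in the stabiliser of the tuple of classes
  have hgood : g ∈ stabC L H hperm' := by
    intro i j hij
    have hev : 2 ∣ Nat.card (L i) := by
      by_contra hodd
      have := hsim i
      have hsol : Group.IsSolvable (L i) := by
        have := Cfsg.Agent.S0205.result (G := L i) (Nat.not_even_iff_odd.mp (fun h => hodd h.two_dvd))
        exact this
      exact hnc i ⟨⟨fun a b => IsSimpleGroup.comm_iff_isSolvable.mpr hsol a b⟩⟩
    have hT2 : ¬ 2 ∣ T.relIndex (L i) :=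
      fun h => c.t2 (h.trans ((relIndex_dvd' (hLA i) (hAL i)).trans (relIndex_dvd' hAK hKA)))
    have hTL : T ⊓ L i ≠ ⊥ := by
      intro h
      apply hT2
      rw [← inf_relIndex_right, h, relIndex_bot_left]
      exact hev
    obtain ⟨⟨t, ht⟩, ht1'⟩ := ne_bot_iff_exists_ne_one.mp hTL
    have ht1 : t ≠ 1 := fun h => ht1' (Subtype.ext h)
    have htj : t ∈ L j := by
      rw [hij, ← cj_eq]
      exact ⟨t, ht.2, c.cen t ht.1⟩
    have hij' : i = j := by
      by_contra hne
      have h3 : e.symm (Pi.mulSingle i ⟨t, ht.2⟩) = e.symm (Pi.mulSingle j ⟨t, htj⟩) := by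
        apply Subtype.ext
        rw [hsing, hsing]
      have h4 := congrFun (e.symm.injective h3) i
      rw [Pi.mulSingle_eq_same, Pi.mulSingle_eq_of_ne hne] at h4
      exact ht1 (congrArg Subtype.val h4)
    subst hij'
    have hgL : g ∈ normalizer (L i : Set G) := normalizer_of_smul_eq hij.symm
    obtain ⟨x, hx, he⟩ := ih _ (hLK i) G (L i) (H ⊓ L i) (T ⊓ L i) g rfl (c.inter hAK hKA (hLA i) (hAL i) hgL)
    refine ⟨x, ?_, he⟩
    have : (H ⊓ L i) ⊔ MulAut.conj g • (H ⊓ L i) ≤ L i := by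
      refine sup_le inf_le_right ?_
      rw [smul_inf', ← hij]
      exact inf_le_right
    exact this hx
  have hJ : H ⊔ MulAut.conj g • H ≤ stabC L H hperm' := by
    refine sup_le le_stabC ?_
    rw [← cj_eq]
    rintro _ ⟨h, hh, rfl⟩
    exact mul_mem (mul_mem hgood (le_stabC hh)) (inv_mem hgood)
  set y := x⁻¹ * g with hy
  have hyS : y ∈ stabC L H hperm' := mul_mem (inv_mem (hJ hx)) hgood
  refine pr_of_coord e hLA hAL hsing inf_le_right (c.h1.of_dvd (card_dvd_of_le inf_le_left))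
    (by rw [inf_relIndex_right]; exact hHA) fun j => ?_
  obtain ⟨i, hi⟩ := hperm' y⁻¹ j
  have hji : L j = MulAut.conj y • L i := by rw [hi, conj_smul_inv_smul]
  obtain ⟨s, hs, hse⟩ := hyS i j hji
  have e1 : H ⊓ A ⊓ L j = H ⊓ L j := by rw [inf_assoc, inf_of_le_right (hLA j)]
  have e2 : MulAut.conj y • (H ⊓ A) ⊓ L j = MulAut.conj s • (H ⊓ L j) := by
    rw [← hse, smul_inf', smul_inf', smul_normal A, inf_assoc, inf_of_le_right (hLA j), ← hji]
  rw [e1, e2]
  -- pronormality in `L j`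
  have := hsim j
  have hHall : IsPiHall π ((H ⊓ L j).subgroupOf (L j)) := by
    refine ⟨?_, ?_⟩
    · have : Nat.card ((H ⊓ L j).subgroupOf (L j)) = Nat.card (H ⊓ L j : Subgroup G) := by
        rw [← card_map_of_injective (L j).subtype_injective, subgroupOf_map_subtype, inf_of_le_left inf_le_right]
      rw [this]
      exact c.h1.of_dvd (card_dvd_of_le inf_le_left)
    · have : ((H ⊓ L j).subgroupOf (L j)).index = H.relIndex (L j) := by
        rw [inf_subgroupOf_right]; rfl
      rw [this]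
      exact hHA.of_dvd (relIndex_dvd' (hLA j) (hAL j))
  have hpro := pronormal_of_claim h2 (hB (L j) (hnc j)) (ih _ (hLK j)) hHall
  obtain ⟨z, hz, hze⟩ := Pr.of_subgroupOf inf_le_right (isPronormal_iff.mp hpro ⟨s, hs⟩)
  exact ⟨z, hz, hze⟩

/-- **THEOREM (PG).** -/
theorem pr_of_conf (h2 : 2 ∈ π)
    (hN : ∀ (S : Type u) [Group S] [Finite S] [IsSimpleGroup S], ¬ IsMulCommutative S → NRow π S)
    (hB : ∀ (S : Type u) [Group S] [Finite S] [IsSimpleGroup S], ¬ IsMulCommutative S → BRow π S) :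
    ∀ n : ℕ, Claim.{u} π n := by
  intro n
  induction n using Nat.strong_induction_on with
  | _ n ih =>
    intro G _ _ K H T g hn c
    have hKM : K ≤ normalizer (K : Set G) := le_normalizer
    have hnor : (K.subgroupOf (normalizer (K : Set G))).Normal := (normal_subgroupOf_iff_le_normalizer hKM).mpr le_rfl
    have hcard : Nat.card (K.subgroupOf (normalizer (K : Set G))) = Nat.card K := by
      rw [← card_map_of_injective (normalizer (K : Set G)).subtype_injective, subgroupOf_map_subtype, inf_of_le_left hKM]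
    have ih' : ∀ k < Nat.card (K.subgroupOf (normalizer (K : Set G))), Claim.{u} π k := by
      intro k hk
      rw [hcard, hn] at hk
      exact ih k hk
    have h3 : Pr (H.subgroupOf (normalizer (K : Set G))) (⟨g, c.gK⟩ : normalizer (K : Set G)) :=
      main_step h2 hN hB (c.subgroupOf hKM c.gK) ih'
    exact Pr.of_subgroupOf (M := normalizer (K : Set G)) (g := ⟨g, c.gK⟩) (c.hK.trans hKM) h3

/-- **Hall subgroups of even order of simple groups are pronormal (from the rows).** -/
theorem pronormal_simple (h2 : 2 ∈ π)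
    (hN : ∀ (S : Type u) [Group S] [Finite S] [IsSimpleGroup S], ¬ IsMulCommutative S → NRow π S)
    (hB : ∀ (S : Type u) [Group S] [Finite S] [IsSimpleGroup S], ¬ IsMulCommutative S → BRow π S)
    (S : Type u) [Group S] [Finite S] [IsSimpleGroup S] (hS : ¬ IsMulCommutative S) {H : Subgroup S}
    (hH : IsPiHall π H) : IsPronormal H :=
  pronormal_of_claim h2 (hB S hS) (pr_of_conf h2 hN hB _) hH

end Cfsg.Agent.H165.RV
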