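import Cfsg.Agent.H165.RV.BRowAll
import Cfsg.Agent.H408.Hall.SpRow

/-!
# TEAM RV: the `B`-row of all simple groups (helper165)
-/

set_option autoImplicit false

namespace Cfsg.Agent.H165.RV

open Subgroup Cfsg Cfsg.Agent.H408.Pron Cfsg.Agent.H408.Pron.RowsOdd

universe u

variable {π : Set ℕ} {G : Type u} [Group G] [Finite G] [IsSimpleGroup G]

theorem brow_special (h2 : 2 ∈ π) (h : Special G) : BRow π G := by
  obtain ⟨F, iF, iFin, n, hF, h1, -, ⟨e⟩⟩ := h
  obtain ⟨p, hc⟩ := CharP.exists F
  have hp : p.Prime := CharP.char_is_prime F p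
  have : Fact p.Prime := ⟨hp⟩
  have hp2 : p ≠ 2 := by
    rintro rfl
    have h3 := FiniteField.even_card_of_char_two (F := F) (ringChar.eq F 2)
    omega
  have h2n : 2 ≤ n := by
    rcases Nat.lt_or_ge n 2 with h | h
    · interval_cases n
      · exfalso
        have hs : Subsingleton (PSp 0 F) := by
          have : Subsingleton (Matrix.symplecticGroup (Fin 0) F) := ⟨fun a b => Subtype.ext (by
            ext i; exact Sum.elim (fun x => x.elim0) (fun x => x.elim0) i)⟩
          exact Quotient.instSubsingletonQuotient _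
        have := e.toEquiv.subsingleton
        exact not_subsingleton G this
      · exact absurd ⟨0, rfl⟩ h1
    · exact h
  exact H408.Hall.SpRow.bRow_psp hp2 ⟨F, iF, iFin, hc, n, h2n, fun _ => by omega, ⟨e⟩⟩ h2

/-- **The `B`-row of all known simple groups.** -/
theorem brow_fin (h2 : 2 ∈ π) (R : Main.Rest) (hna : ¬ IsMulCommutative G) (hK : IsKnownSimple' G) : BRow π G :=
  brow_all h2 R hna hK (brow_special h2)

end Cfsg.Agent.H165.RV
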