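import Cfsg.Agent.H165.RV.Aut
import Cfsg.Agent.H205.RV.OutTwo
import Cfsg.Agent.H89.RV.Psl
import Cfsg.Agent.H805.RV.PSp
import Cfsg.Agent.H486.RV.AoPsu
import Cfsg.Agent.H269.AO.Main
import Cfsg.Agent.H241.AO.Minus
import Cfsg.Agent.H261.AO.OOdd
import Cfsg.Agent.H42.RV.Ree
import Cfsg.Agent.H618.AO.E6
import Cfsg.Agent.OddHalf.Known

/-!
# TEAM RV: the `C`-row of all simple groups, assembly (helper165)

`CBoxes π` : the rows which are not used from a landed file by name (hypotheses of the assembly).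
-/

set_option autoImplicit false

namespace Cfsg.Agent.H165.RV

open Subgroup Cfsg Cfsg.Agent.H561.RV

universe u

/-- the rows `AutOdd` which are hypotheses of the assembly -/
structure ABoxes : Prop where
  g2 : ∀ (F : Type) [Field F] [Fintype F], Odd (Fintype.card F) → AutOdd (Lie.chevG2.group F)
  f4 : ∀ (F : Type) [Field F] [Fintype F], Odd (Fintype.card F) → AutOdd (Lie.chevF4.group F)
  e7 : ∀ (F : Type) [Field F] [Fintype F], Odd (Fintype.card F) → AutOdd (Lie.chevE7.group F)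
  e8 : ∀ (F : Type) [Field F] [Fintype F], Odd (Fintype.card F) → AutOdd (Lie.chevE8.group F)
  te6 : ∀ (K : Type) [Field K] [Fintype K] (q : ℕ), IsPrimePow q → Fintype.card K = q ^ 2 → Odd q →
    AutOdd (Lie.twistedE6 K q)
  td4 : ∀ (K : Type) [Field K] [Fintype K] (q : ℕ), IsPrimePow q → Fintype.card K = q ^ 3 → Odd q →
    AutOdd (Lie.twistedD4 K q)

/-- the boxes of the assembly of `CRow` -/
structure CBoxes (π : Set ℕ) : Prop where
  /-- own characteristic -/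
  own : ∀ (S : Type u) [Group S] [Finite S] [IsSimpleGroup S], ¬ IsMulCommutative S → ∀ p : ℕ, p.Prime → p ∈ π →
    IsLieTypeChar p S → CRow π S
  /-- `PΩ₈⁺(q)`, `p ∉ π` -/
  oEight : ∀ (S : Type u) [Group S] [Finite S] [IsSimpleGroup S], ∀ p : ℕ, p.Prime → p ∉ π →
    ∀ (F : Type) [Field F] [Fintype F] [CharP F p], Nonempty (S ≃* POmega F (quadFormPlus 4 F)) → CRow π S

variable {π : Set ℕ} {S : Type u} [Group S] [Finite S] [IsSimpleGroup S]

theorem odd_card {p : ℕ} {F : Type*} [Field F] [Fintype F] [CharP F p] (hp2 : p ≠ 2) : Odd (Fintype.card F) := by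
  refine Nat.odd_iff.2 (FiniteField.odd_card_of_char_ne_two ?_)
  rw [ringChar.eq F p]; exact hp2

omit [IsSimpleGroup S] in
/-- **`AutOdd` for the groups of Lie type of odd characteristic, with the exception of `PΩ₈⁺(q)`** -/
theorem autOdd_or (A : ABoxes) {p : ℕ} (hp2 : p ≠ 2) (h : IsLieTypeChar p S) :
    AutOdd S ∨ ∃ (F : Type) (_ : Field F) (_ : Fintype F) (_ : CharP F p),
      Nonempty (S ≃* POmega F (quadFormPlus 4 F)) := by
  rcases h with h | h | h | h | h | h | h | h | ⟨h, -⟩ | ⟨h, -⟩ | ⟨rfl, h⟩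
  · obtain ⟨F, iF, iFin, iC, n, hn, hn4, ⟨e⟩⟩ := h
    exact Or.inl (AutOdd.of_equiv e (H89.RV.autOdd_psl' (odd_card (p := p) hp2) hn))
  · obtain ⟨F, iF, iFin, iC, m, hm, -, ⟨e⟩⟩ := h
    exact Or.inl (AutOdd.of_equiv e (H805.RV.PSp.autOdd_psp (odd_card (p := p) hp2) hm))
  · obtain ⟨F, iF, iFin, iC, n, q, hq, hn, -, ⟨e⟩⟩ := h
    have hodd : Odd (Fintype.card F) := odd_card (p := p) hp2
    have hq' : Odd q := by
      rw [hq, pow_two] at hodd
      exact Nat.Odd.of_mul_left hodd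
    exact Or.inl (AutOdd.of_equiv e (H486.RV.autOdd_psu' hq hq' hn))
  · obtain ⟨F, iF, iFin, iC, m, hm, hodd, ⟨e⟩⟩ := h
    exact Or.inl (AutOdd.of_equiv e (H261.AO.OOdd.autOdd_oOdd hodd hm))
  · obtain ⟨F, iF, iFin, iC, m, hm, ⟨e⟩⟩ := h
    rcases Nat.lt_or_ge m 5 with h5 | h5
    · obtain rfl : m = 4 := by omega
      exact Or.inr ⟨F, iF, iFin, iC, ⟨e⟩⟩
    · exact Or.inl (AutOdd.of_equiv e (H269.AO.autOdd_oPlus (odd_card (p := p) hp2) h5))
  · obtain ⟨F, iF, iFin, iC, m, a, b, hm, hab, ⟨e⟩⟩ := h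
    exact Or.inl (AutOdd.of_equiv e (H241.AO.autOdd_oMinus (odd_card (p := p) hp2) (by omega) a b hab))
  · obtain ⟨F, iF, iFin, iC, h⟩ := h
    have hodd : Odd (Fintype.card F) := odd_card (p := p) hp2
    rcases h with ⟨-, ⟨e⟩⟩ | ⟨⟨e⟩⟩ | ⟨⟨e⟩⟩ | ⟨⟨e⟩⟩ | ⟨⟨e⟩⟩
    · exact Or.inl (AutOdd.of_equiv e (A.g2 F hodd))
    · exact Or.inl (AutOdd.of_equiv e (A.f4 F hodd))
    · exact Or.inl (AutOdd.of_equiv e (H618.AO.autOdd_e6 hodd))
    · exact Or.inl (AutOdd.of_equiv e (A.e7 F hodd))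
    · exact Or.inl (AutOdd.of_equiv e (A.e8 F hodd))
  · obtain ⟨K, iF, iFin, iC, q, hq, h⟩ := h
    have hodd : Odd (Fintype.card K) := odd_card (p := p) hp2
    rcases h with ⟨hK, ⟨e⟩⟩ | ⟨hK, ⟨e⟩⟩
    · exact Or.inl (AutOdd.of_equiv e (A.te6 K q hq hK (by
        rw [hK, pow_two] at hodd
        exact Nat.Odd.of_mul_left hodd)))
    · exact Or.inl (AutOdd.of_equiv e (A.td4 K q hq hK (by
        rw [hK, pow_succ] at hodd
        exact Nat.Odd.of_mul_right hodd)))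
  · exact absurd h hp2
  · exact absurd h hp2
  · exact Or.inl (H42.RV.autOdd_ree h)

/-- **The `C`-row of all known simple groups.** -/
theorem crow_all (A : ABoxes) (B : CBoxes.{u} π) (h2 : 2 ∈ π)
    (hN : ∀ (S : Type u) [Group S] [Finite S] [IsSimpleGroup S], ¬ IsMulCommutative S → NRow π S)
    (hB : ∀ (S : Type u) [Group S] [Finite S] [IsSimpleGroup S], ¬ IsMulCommutative S → BRow π S)
    (hna : ¬ IsMulCommutative S) (hK : IsKnownSimple' S) : CRow π S := by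
  rcases Cfsg.Agent.OddHalf.Known.classify hna hK with h | ⟨p, hp, hp2, h⟩ | (h | h) | h
  · exact crow_of_orow h2 (H205.RV.orow_isAlternating h)
  · by_cases hpπ : p ∈ π
    · exact B.own S hna p hp hpπ h
    · rcases autOdd_or A hp2 h with hA | ⟨F, iF, iFin, iC, he⟩
      · exact crow_of_autOdd h2 hN hB hna hA
      · exact B.oEight S p hp hpπ F he
  · exact B.own S hna 2 Nat.prime_two h2 h
  · exact crow_of_orow h2 (H205.RV.orow_tits h)
  · exact crow_of_orow h2 (H205.RV.orow_spor h)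

end Cfsg.Agent.H165.RV
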