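import Cfsg.Agent.H165.RV.CRowAll
import Cfsg.Agent.H81.AoChev
import Cfsg.Agent.H86.RV.D4F
import Cfsg.Agent.H686.AO.TwESix
import Cfsg.Agent.H449.RV.D4
import Cfsg.Agent.H565.RV.CRowOwn

/-!
# TEAM RV: the `C`-row of all simple groups (helper165)
-/

set_option autoImplicit false

namespace Cfsg.Agent.H165.RV

open Subgroup Cfsg Cfsg.Agent.H561.RV

universe u

theorem three_le_card {F : Type*} [Field F] [Fintype F] (h : Odd (Fintype.card F)) : 3 ≤ Fintype.card F := by
  have h2 : 2 ≤ Fintype.card F := Fintype.one_lt_card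
  obtain ⟨k, hk⟩ := h
  omega

/-- the rows `AutOdd` -/
theorem aBoxes : ABoxes where
  g2 := fun F _ _ h => H81.AoChev.autOdd_g2 (three_le_card h) h
  f4 := fun F _ _ h => H81.AoChev.autOdd_f4 h
  e7 := fun F _ _ h => H81.AoChev.autOdd_e7 h
  e8 := fun F _ _ h => H81.AoChev.autOdd_e8 h
  te6 := fun K _ _ q hq hK hodd => H686.AO.autOdd_2e6 hq hodd hK
  td4 := fun K _ _ q hq hK hodd => H86.RV.autOdd_3d4 hq hodd hK

variable {π : Set ℕ} {S : Type u} [Group S] [Finite S] [IsSimpleGroup S]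

/-- **The `C`-row of all known simple groups.** -/
theorem crow_fin (hOC : OddConj.{u}) (h2 : 2 ∈ π)
    (hN : ∀ (S : Type u) [Group S] [Finite S] [IsSimpleGroup S], ¬ IsMulCommutative S → NRow π S)
    (hB : ∀ (S : Type u) [Group S] [Finite S] [IsSimpleGroup S], ¬ IsMulCommutative S → BRow π S)
    (hna : ¬ IsMulCommutative S) (hK : IsKnownSimple' S) : CRow π S := by
  rcases Cfsg.Agent.OddHalf.Known.classify hna hK with h | ⟨p, hp, hp2, h⟩ | (h | h) | h
  · exact crow_of_orow h2 (H205.RV.orow_isAlternating h)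
  · by_cases hpπ : p ∈ π
    · exact H565.RV.cRow_own hp h h2 hpπ
    · rcases autOdd_or aBoxes hp2 h with hA | ⟨F, iF, iFin, iC, ⟨e⟩⟩
      · exact crow_of_autOdd h2 hN hB hna hA
      · exact H449.RV.crow_o8 h2 hOC hN hB hna hp hpπ e
  · exact H565.RV.cRow_own Nat.prime_two h h2 h2
  · exact crow_of_orow h2 (H205.RV.orow_tits h)
  · exact crow_of_orow h2 (H205.RV.orow_spor h)

end Cfsg.Agent.H165.RV
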