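import Cfsg.Agent.H165.RV.HexMain
import Cfsg.Agent.H710.LtwoG2
import Cfsg.Agent.S1027
import Cfsg.Agent.S1059

/-!
# TEAM RV: the two minimal parabolics of `G₂(2)` (helper165)
-/

set_option autoImplicit false

namespace Cfsg.Agent.H165.RV.G2T

open Subgroup Cfsg Cfsg.Lie
open Cfsg.Agent.ChevalleyStructure Cfsg.Agent.ChevalleyStructure.Elts
open Cfsg.Agent.ChevalleyStructure.LaurentWord
open Cfsg.Agent.ChevalleyStructure.LaurentNH
open Cfsg.Agent.ClassificationK.GTwoChev
open Cfsg.Agent.H710.GTwo (xx mat_xx xx_sq xx_zero hG2)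
open scoped Pointwise

/-- the field -/
abbrev k2 : Type := ZMod 2

/-- the group -/
abbrev GG : Type := ↥(chevG2.group k2)

/-- the root elements -/
noncomputable def y (r : ℕ) : GG := xx k2 r 1

theorem y_sq (r : ℕ) : y r * y r = 1 := xx_sq r 1

/-- a word of root elements -/
noncomputable def wd (w : List (ℕ × ℤ)) : GG := (w.map fun l => xx k2 l.1 (l.2 : k2)).prod

theorem wd_cons (r : ℕ) (c : ℤ) (w : List (ℕ × ℤ)) : wd ((r, c) :: w) = xx k2 r (c : k2) * wd w := rfl
theorem wd_nil : wd [] = 1 := rfl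

theorem mat_wd (w : List (ℕ × ℤ)) : mat (wd w) = chevG2.wordMat k2 (evW (1 : k2) 1 (w.map fun l => (l.1, l.2, 0, 0))) := by
  induction w with
  | nil => rfl
  | cons l w ih =>
    rw [wd_cons, mat_mul, ih, mat_xx]
    simp only [evW, List.map_cons, ChevalleyDatum.wordMat, List.prod_cons, evM, zpow_zero, mul_one]

theorem rel {w₁ w₂ : List (ℕ × ℤ)} (h : checkEq 14 12 (col chevG2) (w₁.map fun l => (l.1, l.2, 0, 0))
    (w₂.map fun l => (l.1, l.2, 0, 0)) = true) : wd w₁ = wd w₂ := by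
  apply mat_injective
  rw [mat_wd, mat_wd]
  exact wordMat_eq_of_checkEq chevG2 colsOK (one_ne_zero (α := k2)) (one_ne_zero (α := k2)) h

theorem odd_y (r : ℕ) {c : ℤ} (h : (c : k2) = 1) : xx k2 r (c : k2) = y r := by rw [h]; rfl
theorem even_y (r : ℕ) {c : ℤ} (h : (c : k2) = 0) : xx k2 r (c : k2) = 1 := by rw [h]; exact xx_zero r

theorem r4_6 : y 4 * y 6 = y 6 * y 4 := by
  have h : wd [(4, 1), (6, 1)] = wd [(6, 1), (4, 1)] := rel (by decide +kernel)
  simp only [wd_cons, wd_nil, mul_one] at h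
  simpa only [odd_y 4 (c := 1) (by decide), odd_y 6 (c := 1) (by decide), one_mul, mul_one, mul_assoc] using h

theorem r4_8 : y 4 * y 8 = y 6 * y 8 * y 4 := by
  have h : wd [(4, 1), (8, 1)] = wd [(6, -3), (8, 1), (4, 1)] := rel (by decide +kernel)
  simp only [wd_cons, wd_nil, mul_one] at h
  simpa only [odd_y 4 (c := 1) (by decide), odd_y 8 (c := 1) (by decide), odd_y 6 (c := -3) (by decide), one_mul, mul_one, mul_assoc] using h

theorem r4_9 : y 4 * y 9 = y 6 * y 11 * y 9 * y 4 := by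
  have h : wd [(4, 1), (9, 1)] = wd [(8, -2), (6, 3), (11, 3), (9, 1), (4, 1)] := rel (by decide +kernel)
  simp only [wd_cons, wd_nil, mul_one] at h
  simpa only [odd_y 4 (c := 1) (by decide), odd_y 9 (c := 1) (by decide), even_y 8 (c := -2) (by decide), odd_y 6 (c := 3) (by decide), odd_y 11 (c := 3) (by decide), one_mul, mul_one, mul_assoc] using h

theorem r4_10 : y 4 * y 10 = y 9 * y 8 * y 6 * y 10 * y 4 := by
  have h : wd [(4, 1), (10, 1)] = wd [(9, 1), (8, -1), (6, 1), (11, -2), (10, 1), (4, 1)] := rel (by decide +kernel)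
  simp only [wd_cons, wd_nil, mul_one] at h
  simpa only [odd_y 4 (c := 1) (by decide), odd_y 10 (c := 1) (by decide), odd_y 9 (c := 1) (by decide), odd_y 8 (c := -1) (by decide), odd_y 6 (c := 1) (by decide), even_y 11 (c := -2) (by decide), one_mul, mul_one, mul_assoc] using h

theorem r4_11 : y 4 * y 11 = y 11 * y 4 := by
  have h : wd [(4, 1), (11, 1)] = wd [(11, 1), (4, 1)] := rel (by decide +kernel)
  simp only [wd_cons, wd_nil, mul_one] at h
  simpa only [odd_y 4 (c := 1) (by decide), odd_y 11 (c := 1) (by decide), one_mul, mul_one, mul_assoc] using h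

theorem r5_7 : y 5 * y 7 = y 7 * y 5 := by
  have h : wd [(5, 1), (7, 1)] = wd [(7, 1), (5, 1)] := rel (by decide +kernel)
  simp only [wd_cons, wd_nil, mul_one] at h
  simpa only [odd_y 5 (c := 1) (by decide), odd_y 7 (c := 1) (by decide), one_mul, mul_one, mul_assoc] using h

theorem r5_8 : y 5 * y 8 = y 7 * y 9 * y 11 * y 10 * y 8 * y 5 := by
  have h : wd [(5, 1), (8, 1)] = wd [(7, 1), (9, 1), (11, 1), (10, -1), (8, 1), (5, 1)] := rel (by decide +kernel)
  simp only [wd_cons, wd_nil, mul_one] at h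
  simpa only [odd_y 5 (c := 1) (by decide), odd_y 8 (c := 1) (by decide), odd_y 7 (c := 1) (by decide), odd_y 9 (c := 1) (by decide), odd_y 11 (c := 1) (by decide), odd_y 10 (c := -1) (by decide), one_mul, mul_one, mul_assoc] using h

theorem r5_9 : y 5 * y 9 = y 9 * y 5 := by
  have h : wd [(5, 1), (9, 1)] = wd [(9, 1), (5, 1)] := rel (by decide +kernel)
  simp only [wd_cons, wd_nil, mul_one] at h
  simpa only [odd_y 5 (c := 1) (by decide), odd_y 9 (c := 1) (by decide), one_mul, mul_one, mul_assoc] using h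

theorem r5_10 : y 5 * y 10 = y 10 * y 5 := by
  have h : wd [(5, 1), (10, 1)] = wd [(10, 1), (5, 1)] := rel (by decide +kernel)
  simp only [wd_cons, wd_nil, mul_one] at h
  simpa only [odd_y 5 (c := 1) (by decide), odd_y 10 (c := 1) (by decide), one_mul, mul_one, mul_assoc] using h

theorem r5_11 : y 5 * y 11 = y 10 * y 11 * y 5 := by
  have h : wd [(5, 1), (11, 1)] = wd [(10, 1), (11, 1), (5, 1)] := rel (by decide +kernel)
  simp only [wd_cons, wd_nil, mul_one] at h
  simpa only [odd_y 5 (c := 1) (by decide), odd_y 11 (c := 1) (by decide), odd_y 10 (c := 1) (by decide), one_mul, mul_one, mul_assoc] using h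

theorem r6_7 : y 6 * y 7 = y 8 * y 9 * y 10 * y 11 * y 7 * y 6 := by
  have h : wd [(6, 1), (7, 1)] = wd [(8, 1), (9, -1), (10, -1), (11, 1), (7, 1), (6, 1)] := rel (by decide +kernel)
  simp only [wd_cons, wd_nil, mul_one] at h
  simpa only [odd_y 6 (c := 1) (by decide), odd_y 7 (c := 1) (by decide), odd_y 8 (c := 1) (by decide), odd_y 9 (c := -1) (by decide), odd_y 10 (c := -1) (by decide), odd_y 11 (c := 1) (by decide), one_mul, mul_one, mul_assoc] using h

theorem r6_8 : y 6 * y 8 = y 8 * y 6 := by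
  have h : wd [(6, 1), (8, 1)] = wd [(8, 1), (6, 1)] := rel (by decide +kernel)
  simp only [wd_cons, wd_nil, mul_one] at h
  simpa only [odd_y 6 (c := 1) (by decide), odd_y 8 (c := 1) (by decide), one_mul, mul_one, mul_assoc] using h

theorem r6_9 : y 6 * y 9 = y 9 * y 6 := by
  have h : wd [(6, 1), (9, 1)] = wd [(9, 1), (6, 1)] := rel (by decide +kernel)
  simp only [wd_cons, wd_nil, mul_one] at h
  simpa only [odd_y 6 (c := 1) (by decide), odd_y 9 (c := 1) (by decide), one_mul, mul_one, mul_assoc] using h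

theorem r6_10 : y 6 * y 10 = y 11 * y 10 * y 6 := by
  have h : wd [(6, 1), (10, 1)] = wd [(11, 1), (10, 1), (6, 1)] := rel (by decide +kernel)
  simp only [wd_cons, wd_nil, mul_one] at h
  simpa only [odd_y 6 (c := 1) (by decide), odd_y 10 (c := 1) (by decide), odd_y 11 (c := 1) (by decide), one_mul, mul_one, mul_assoc] using h

theorem r6_11 : y 6 * y 11 = y 11 * y 6 := by
  have h : wd [(6, 1), (11, 1)] = wd [(11, 1), (6, 1)] := rel (by decide +kernel)
  simp only [wd_cons, wd_nil, mul_one] at h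
  simpa only [odd_y 6 (c := 1) (by decide), odd_y 11 (c := 1) (by decide), one_mul, mul_one, mul_assoc] using h

theorem r7_6 : y 7 * y 6 = y 8 * y 9 * y 10 * y 6 * y 7 := by
  have h : wd [(7, 1), (6, 1)] = wd [(8, -1), (9, 1), (10, 1), (11, 2), (6, 1), (7, 1)] := rel (by decide +kernel)
  simp only [wd_cons, wd_nil, mul_one] at h
  simpa only [odd_y 7 (c := 1) (by decide), odd_y 6 (c := 1) (by decide), odd_y 8 (c := -1) (by decide), odd_y 9 (c := 1) (by decide), odd_y 10 (c := 1) (by decide), even_y 11 (c := 2) (by decide), one_mul, mul_one, mul_assoc] using h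

theorem r7_8 : y 7 * y 8 = y 10 * y 11 * y 8 * y 7 := by
  have h : wd [(7, 1), (8, 1)] = wd [(9, -2), (10, -3), (11, -3), (8, 1), (7, 1)] := rel (by decide +kernel)
  simp only [wd_cons, wd_nil, mul_one] at h
  simpa only [odd_y 7 (c := 1) (by decide), odd_y 8 (c := 1) (by decide), even_y 9 (c := -2) (by decide), odd_y 10 (c := -3) (by decide), odd_y 11 (c := -3) (by decide), one_mul, mul_one, mul_assoc] using h

theorem r7_9 : y 7 * y 9 = y 10 * y 9 * y 7 := by
  have h : wd [(7, 1), (9, 1)] = wd [(10, 3), (9, 1), (7, 1)] := rel (by decide +kernel)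
  simp only [wd_cons, wd_nil, mul_one] at h
  simpa only [odd_y 7 (c := 1) (by decide), odd_y 9 (c := 1) (by decide), odd_y 10 (c := 3) (by decide), one_mul, mul_one, mul_assoc] using h

theorem r7_10 : y 7 * y 10 = y 10 * y 7 := by
  have h : wd [(7, 1), (10, 1)] = wd [(10, 1), (7, 1)] := rel (by decide +kernel)
  simp only [wd_cons, wd_nil, mul_one] at h
  simpa only [odd_y 7 (c := 1) (by decide), odd_y 10 (c := 1) (by decide), one_mul, mul_one, mul_assoc] using h

theorem r7_11 : y 7 * y 11 = y 11 * y 7 := by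
  have h : wd [(7, 1), (11, 1)] = wd [(11, 1), (7, 1)] := rel (by decide +kernel)
  simp only [wd_cons, wd_nil, mul_one] at h
  simpa only [odd_y 7 (c := 1) (by decide), odd_y 11 (c := 1) (by decide), one_mul, mul_one, mul_assoc] using h

theorem r8_9 : y 8 * y 9 = y 11 * y 9 * y 8 := by
  have h : wd [(8, 1), (9, 1)] = wd [(11, 3), (9, 1), (8, 1)] := rel (by decide +kernel)
  simp only [wd_cons, wd_nil, mul_one] at h
  simpa only [odd_y 8 (c := 1) (by decide), odd_y 9 (c := 1) (by decide), odd_y 11 (c := 3) (by decide), one_mul, mul_one, mul_assoc] using h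

theorem r8_10 : y 8 * y 10 = y 10 * y 8 := by
  have h : wd [(8, 1), (10, 1)] = wd [(10, 1), (8, 1)] := rel (by decide +kernel)
  simp only [wd_cons, wd_nil, mul_one] at h
  simpa only [odd_y 8 (c := 1) (by decide), odd_y 10 (c := 1) (by decide), one_mul, mul_one, mul_assoc] using h

theorem r8_11 : y 8 * y 11 = y 11 * y 8 := by
  have h : wd [(8, 1), (11, 1)] = wd [(11, 1), (8, 1)] := rel (by decide +kernel)
  simp only [wd_cons, wd_nil, mul_one] at h
  simpa only [odd_y 8 (c := 1) (by decide), odd_y 11 (c := 1) (by decide), one_mul, mul_one, mul_assoc] using h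

theorem r9_10 : y 9 * y 10 = y 10 * y 9 := by
  have h : wd [(9, 1), (10, 1)] = wd [(10, 1), (9, 1)] := rel (by decide +kernel)
  simp only [wd_cons, wd_nil, mul_one] at h
  simpa only [odd_y 9 (c := 1) (by decide), odd_y 10 (c := 1) (by decide), one_mul, mul_one, mul_assoc] using h

theorem r9_11 : y 9 * y 11 = y 11 * y 9 := by
  have h : wd [(9, 1), (11, 1)] = wd [(11, 1), (9, 1)] := rel (by decide +kernel)
  simp only [wd_cons, wd_nil, mul_one] at h
  simpa only [odd_y 9 (c := 1) (by decide), odd_y 11 (c := 1) (by decide), one_mul, mul_one, mul_assoc] using h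

theorem r10_11 : y 10 * y 11 = y 11 * y 10 := by
  have h : wd [(10, 1), (11, 1)] = wd [(11, 1), (10, 1)] := rel (by decide +kernel)
  simp only [wd_cons, wd_nil, mul_one] at h
  simpa only [odd_y 10 (c := 1) (by decide), odd_y 11 (c := 1) (by decide), one_mul, mul_one, mul_assoc] using h

theorem n6_4 : y 3 = y 6 * y 5 * y 6 * y 4 * (y 6 * y 5 * y 6)⁻¹ := by
  have h : wd [(6, 1), (5, -1), (6, 1), (4, 1)] = wd [(3, 1), (6, 1), (5, -1), (6, 1)] := rel (by decide +kernel)
  simp only [wd_cons, wd_nil, mul_one] at h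
  rw [odd_y 6 (c := 1) (by decide), odd_y 5 (c := -1) (by decide), odd_y 4 (c := 1) (by decide), odd_y 3 (c := 1) (by decide)] at h
  rw [eq_mul_inv_iff_mul_eq]
  simpa only [mul_assoc] using h.symm

theorem n7_3 : y 2 = y 7 * y 4 * y 7 * y 3 * (y 7 * y 4 * y 7)⁻¹ := by
  have h : wd [(7, 1), (4, -1), (7, 1), (3, 1)] = wd [(2, 1), (7, 1), (4, -1), (7, 1)] := rel (by decide +kernel)
  simp only [wd_cons, wd_nil, mul_one] at h
  rw [odd_y 7 (c := 1) (by decide), odd_y 4 (c := -1) (by decide), odd_y 3 (c := 1) (by decide), odd_y 2 (c := 1) (by decide)] at h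
  rw [eq_mul_inv_iff_mul_eq]
  simpa only [mul_assoc] using h.symm

theorem n7_5 : y 1 = y 7 * y 4 * y 7 * y 5 * (y 7 * y 4 * y 7)⁻¹ := by
  have h : wd [(7, 1), (4, -1), (7, 1), (5, 1)] = wd [(1, 1), (7, 1), (4, -1), (7, 1)] := rel (by decide +kernel)
  simp only [wd_cons, wd_nil, mul_one] at h
  rw [odd_y 7 (c := 1) (by decide), odd_y 4 (c := -1) (by decide), odd_y 5 (c := 1) (by decide), odd_y 1 (c := 1) (by decide)] at h
  rw [eq_mul_inv_iff_mul_eq]
  simpa only [mul_assoc] using h.symm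

theorem n6_1 : y 0 = y 6 * y 5 * y 6 * y 1 * (y 6 * y 5 * y 6)⁻¹ := by
  have h : wd [(6, 1), (5, -1), (6, 1), (1, 1)] = wd [(0, 1), (6, 1), (5, -1), (6, 1)] := rel (by decide +kernel)
  simp only [wd_cons, wd_nil, mul_one] at h
  rw [odd_y 6 (c := 1) (by decide), odd_y 5 (c := -1) (by decide), odd_y 1 (c := 1) (by decide), odd_y 0 (c := 1) (by decide)] at h
  rw [eq_mul_inv_iff_mul_eq]
  simpa only [mul_assoc] using h.symm

/-! ### Subgroups generated by root elements -/

/-- the subgroup generated by some root elements -/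
noncomputable def cl (L : List ℕ) : Subgroup GG := closure {g | ∃ r ∈ L, g = y r}

theorem mem_cl {L : List ℕ} {r : ℕ} (h : r ∈ L) : y r ∈ cl L := subset_closure ⟨r, h, rfl⟩

theorem cl_le {L : List ℕ} {H : Subgroup GG} : cl L ≤ H ↔ ∀ r ∈ L, y r ∈ H := by
  constructor
  · intro h r hr
    exact h (mem_cl hr)
  · intro h
    refine (closure_le _).mpr ?_
    rintro _ ⟨r, hr, rfl⟩
    exact h r hr

theorem y_inv (r : ℕ) : (y r)⁻¹ = y r := inv_eq_of_mul_eq_one_right (y_sq r)

/-- `y r` normalises the subgroup -/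
def Nm (r : ℕ) (H : Subgroup GG) : Prop := ∀ u ∈ H, y r * u * (y r)⁻¹ ∈ H

theorem Nm.mem {r : ℕ} {H : Subgroup GG} (h : Nm r H) : y r ∈ normalizer (H : Set GG) := by
  rw [mem_normalizer_iff]
  intro u
  refine ⟨h u, fun hu => ?_⟩
  have h1 := h _ hu
  have h2 : y r * (y r * u * (y r)⁻¹) * (y r)⁻¹ = u := by
    rw [y_inv]
    have : y r * (y r * u * y r) * y r = (y r * y r) * u * (y r * y r) := by group
    rw [this, y_sq, one_mul, mul_one]
  rwa [h2] at h1

theorem Nm.of {r : ℕ} {L : List ℕ} (h : ∀ s ∈ L, ∃ w ∈ cl L, y r * y s = w * y r) : Nm r (cl L) := by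
  intro u hu
  have h1 : cl L ≤ (cl L).comap (MulAut.conj (y r)).toMonoidHom := by
    rw [cl_le]
    intro s hs
    obtain ⟨w, hw, hws⟩ := h s hs
    show y r * y s * (y r)⁻¹ ∈ cl L
    rw [hws, mul_inv_cancel_right]
    exact hw
  exact h1 hu

theorem Nm.of_mem {r : ℕ} {H : Subgroup GG} (h : y r ∈ H) : Nm r H :=
  fun _ hu => H.mul_mem (H.mul_mem h hu) (H.inv_mem h)

instance : Finite GG := inferInstance

theorem card_cons_le {r : ℕ} {L : List ℕ} (h : Nm r (cl L)) : Nat.card (cl (r :: L)) ≤ 2 * Nat.card (cl L) := by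
  have h1 : cl (r :: L) ≤ cl L ⊔ zpowers (y r) := by
    rw [cl_le]
    intro s hs
    rcases List.mem_cons.mp hs with rfl | hs
    · exact mem_sup_right (mem_zpowers _)
    · exact mem_sup_left (mem_cl hs)
  have h2 : ((cl L ⊔ zpowers (y r) : Subgroup GG) : Set GG) = (cl L : Set GG) * (zpowers (y r) : Set GG) :=
    Subgroup.coe_mul_of_right_le_normalizer_left _ _ (by rw [zpowers_le]; exact h.mem)
  have h3 : Nat.card ↥(cl L ⊔ zpowers (y r)) ≤ Nat.card (cl L) * Nat.card (zpowers (y r)) := by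
    have h4 : Nat.card ↥(cl L ⊔ zpowers (y r)) = Nat.card ((cl L : Set GG) * (zpowers (y r) : Set GG) : Set GG) := by
      rw [← h2]; rfl
    rw [h4]
    exact Set.natCard_mul_le
  have h5 : Nat.card (zpowers (y r)) ≤ 2 := by
    rw [Nat.card_zpowers]
    exact Nat.le_of_dvd (by norm_num) (orderOf_dvd_of_pow_eq_one (by rw [pow_two]; exact y_sq r))
  calc Nat.card (cl (r :: L)) ≤ Nat.card ↥(cl L ⊔ zpowers (y r)) := Subgroup.card_le_of_le h1
    _ ≤ Nat.card (cl L) * Nat.card (zpowers (y r)) := h3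
    _ ≤ Nat.card (cl L) * 2 := Nat.mul_le_mul_left _ h5
    _ = 2 * Nat.card (cl L) := mul_comm _ _

theorem card_nil : Nat.card (cl []) = 1 := by
  have : cl [] = ⊥ := by
    rw [eq_bot_iff, cl_le]
    intro r hr
    exact absurd hr (List.not_mem_nil)
  rw [this, Subgroup.card_bot]

/-! ### The two unipotent radicals -/

/-- `x_8, …, x_11` -/
abbrev L0 : List ℕ := [8, 9, 10, 11]
/-- the first radical -/
abbrev LA : List ℕ := [6, 8, 9, 10, 11]
/-- the second radical -/
abbrev LB : List ℕ := [7, 8, 9, 10, 11]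

theorem nm_11 : Nm 11 (cl []) := Nm.of (by simp)
theorem nm_10 : Nm 10 (cl [11]) := Nm.of fun s hs => by
  obtain rfl : s = 11 := by simpa using hs
  exact ⟨_, mem_cl (by simp), r10_11⟩
theorem nm_9 : Nm 9 (cl [10, 11]) := Nm.of fun s hs => by
  rcases List.mem_cons.mp hs with rfl | hs
  · exact ⟨_, mem_cl (by simp), r9_10⟩
  obtain rfl : s = 11 := by simpa using hs
  exact ⟨_, mem_cl (by simp), r9_11⟩
theorem nm_8 : Nm 8 (cl [9, 10, 11]) := Nm.of fun s hs => by
  rcases List.mem_cons.mp hs with rfl | hs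
  · exact ⟨y 11 * y 9, mul_mem (mem_cl (by simp)) (mem_cl (by simp)), r8_9⟩
  rcases List.mem_cons.mp hs with rfl | hs
  · exact ⟨_, mem_cl (by simp), r8_10⟩
  obtain rfl : s = 11 := by simpa using hs
  exact ⟨_, mem_cl (by simp), r8_11⟩
theorem nm_6 : Nm 6 (cl L0) := Nm.of fun s hs => by
  rcases List.mem_cons.mp hs with rfl | hs
  · exact ⟨_, mem_cl (by simp), r6_8⟩
  rcases List.mem_cons.mp hs with rfl | hs
  · exact ⟨_, mem_cl (by simp), r6_9⟩
  rcases List.mem_cons.mp hs with rfl | hs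
  · exact ⟨y 11 * y 10, mul_mem (mem_cl (by simp)) (mem_cl (by simp)), by rw [r6_10]⟩
  obtain rfl : s = 11 := by simpa using hs
  exact ⟨_, mem_cl (by simp), r6_11⟩
theorem nm_7 : Nm 7 (cl L0) := Nm.of fun s hs => by
  rcases List.mem_cons.mp hs with rfl | hs
  · refine ⟨y 10 * y 11 * y 8, mul_mem (mul_mem (mem_cl (by simp)) (mem_cl (by simp))) (mem_cl (by simp)), ?_⟩
    rw [r7_8]
  rcases List.mem_cons.mp hs with rfl | hs
  · exact ⟨y 10 * y 9, mul_mem (mem_cl (by simp)) (mem_cl (by simp)), by rw [r7_9]⟩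
  rcases List.mem_cons.mp hs with rfl | hs
  · exact ⟨_, mem_cl (by simp), r7_10⟩
  obtain rfl : s = 11 := by simpa using hs
  exact ⟨_, mem_cl (by simp), r7_11⟩

theorem nm_7A : Nm 7 (cl LA) := Nm.of fun s hs => by
  rcases List.mem_cons.mp hs with rfl | hs
  · refine ⟨y 8 * y 9 * y 10 * y 6, mul_mem (mul_mem (mul_mem (mem_cl (by simp)) (mem_cl (by simp))) (mem_cl (by simp)))
      (mem_cl (by simp)), ?_⟩
    rw [r7_6]
  rcases List.mem_cons.mp hs with rfl | hs
  · refine ⟨y 10 * y 11 * y 8, mul_mem (mul_mem (mem_cl (by simp)) (mem_cl (by simp))) (mem_cl (by simp)), ?_⟩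
    rw [r7_8]
  rcases List.mem_cons.mp hs with rfl | hs
  · exact ⟨y 10 * y 9, mul_mem (mem_cl (by simp)) (mem_cl (by simp)), by rw [r7_9]⟩
  rcases List.mem_cons.mp hs with rfl | hs
  · exact ⟨_, mem_cl (by simp), r7_10⟩
  obtain rfl : s = 11 := by simpa using hs
  exact ⟨_, mem_cl (by simp), r7_11⟩

theorem nm_4A : Nm 4 (cl LA) := Nm.of fun s hs => by
  rcases List.mem_cons.mp hs with rfl | hs
  · exact ⟨_, mem_cl (by simp), r4_6⟩
  rcases List.mem_cons.mp hs with rfl | hs
  · exact ⟨y 6 * y 8, mul_mem (mem_cl (by simp)) (mem_cl (by simp)), by rw [r4_8]⟩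
  rcases List.mem_cons.mp hs with rfl | hs
  · exact ⟨y 6 * y 11 * y 9, mul_mem (mul_mem (mem_cl (by simp)) (mem_cl (by simp))) (mem_cl (by simp)), by rw [r4_9]⟩
  rcases List.mem_cons.mp hs with rfl | hs
  · exact ⟨y 9 * y 8 * y 6 * y 10, mul_mem (mul_mem (mul_mem (mem_cl (by simp)) (mem_cl (by simp))) (mem_cl (by simp)))
      (mem_cl (by simp)), by rw [r4_10]⟩
  obtain rfl : s = 11 := by simpa using hs
  exact ⟨_, mem_cl (by simp), r4_11⟩

theorem nm_6B : Nm 6 (cl LB) := Nm.of fun s hs => by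
  rcases List.mem_cons.mp hs with rfl | hs
  · refine ⟨y 8 * y 9 * y 10 * y 11 * y 7, mul_mem (mul_mem (mul_mem (mul_mem (mem_cl (by simp)) (mem_cl (by simp)))
      (mem_cl (by simp))) (mem_cl (by simp))) (mem_cl (by simp)), ?_⟩
    rw [r6_7]
  rcases List.mem_cons.mp hs with rfl | hs
  · exact ⟨_, mem_cl (by simp), r6_8⟩
  rcases List.mem_cons.mp hs with rfl | hs
  · exact ⟨_, mem_cl (by simp), r6_9⟩
  rcases List.mem_cons.mp hs with rfl | hs
  · exact ⟨y 11 * y 10, mul_mem (mem_cl (by simp)) (mem_cl (by simp)), by rw [r6_10]⟩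
  obtain rfl : s = 11 := by simpa using hs
  exact ⟨_, mem_cl (by simp), r6_11⟩

theorem nm_5B : Nm 5 (cl LB) := Nm.of fun s hs => by
  rcases List.mem_cons.mp hs with rfl | hs
  · exact ⟨_, mem_cl (by simp), r5_7⟩
  rcases List.mem_cons.mp hs with rfl | hs
  · refine ⟨y 7 * y 9 * y 11 * y 10 * y 8, mul_mem (mul_mem (mul_mem (mul_mem (mem_cl (by simp)) (mem_cl (by simp)))
      (mem_cl (by simp))) (mem_cl (by simp))) (mem_cl (by simp)), ?_⟩
    rw [r5_8]
  rcases List.mem_cons.mp hs with rfl | hs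
  · exact ⟨_, mem_cl (by simp), r5_9⟩
  rcases List.mem_cons.mp hs with rfl | hs
  · exact ⟨_, mem_cl (by simp), r5_10⟩
  obtain rfl : s = 11 := by simpa using hs
  exact ⟨y 10 * y 11, mul_mem (mem_cl (by simp)) (mem_cl (by simp)), by rw [r5_11]⟩

theorem card_L0 : Nat.card (cl L0) ≤ 16 := by
  have h1 := card_cons_le nm_11
  have h2 := card_cons_le nm_10
  have h3 := card_cons_le nm_9
  have h4 := card_cons_le nm_8
  rw [card_nil] at h1
  show Nat.card (cl [8, 9, 10, 11]) ≤ 16
  omega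

theorem card_LA_le : Nat.card (cl LA) ≤ 32 := by
  have h1 := card_cons_le nm_6
  have h2 := card_L0
  show Nat.card (cl (6 :: L0)) ≤ 32
  omega

theorem card_LB_le : Nat.card (cl LB) ≤ 32 := by
  have h1 := card_cons_le nm_7
  have h2 := card_L0
  show Nat.card (cl (7 :: L0)) ≤ 32
  omega

/-- the Sylow `2`-subgroup -/
abbrev LP : List ℕ := [6, 7, 8, 9, 10, 11]

theorem pos_le : chevG2.posUnipotent k2 ≤ (cl LP).map (chevG2.group k2).subtype := by
  unfold ChevalleyDatum.posUnipotent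
  rw [closure_le]
  rintro g ⟨r, t, hr, hg⟩
  have hr' : r ∈ LP := by
    have h1 : r < 12 := hr.1
    have h2 : ∀ r < 12, chevG2.IsPosRoot r → r ∈ LP := by decide +kernel
    exact h2 r h1 hr
  have ht : t = 0 ∨ t = 1 := by
    have : ∀ t : ZMod 2, t = 0 ∨ t = 1 := by decide
    exact this t
  have hg' : g = ((xx k2 r t : GG) : GL chevG2.Idx k2) := Units.ext (hg.trans rfl)
  rcases ht with rfl | rfl
  · rw [xx_zero] at hg'
    rw [hg']
    exact one_mem _
  · exact ⟨y r, mem_cl hr', hg'.symm⟩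

theorem card_LP_ge : 64 ≤ Nat.card (cl LP) := by
  have h1 : Nat.card (chevG2.posUnipotent k2) = 64 := by
    rw [Cfsg.Agent.S1027.result (F := k2) chevG2 (by simp), ZMod.card]
    rfl
  have h2 := Subgroup.card_le_of_le pos_le
  have h3 : Nat.card ((cl LP).map (chevG2.group k2).subtype) = Nat.card (cl LP) :=
    (Nat.card_congr ((cl LP).equivMapOfInjective _ (chevG2.group k2).subtype_injective).toEquiv).symm
  rw [h1, h3] at h2
  exact h2

theorem cl_perm {L L' : List ℕ} (h : ∀ r, r ∈ L ↔ r ∈ L') : cl L = cl L' := by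
  refine le_antisymm (cl_le.mpr fun r hr => mem_cl ((h r).1 hr)) (cl_le.mpr fun r hr => mem_cl ((h r).2 hr))

theorem LP_eq : cl (7 :: LA) = cl LP := cl_perm fun r => by simp; tauto
theorem LP_eq' : cl (6 :: LB) = cl LP := rfl

theorem card_LA : Nat.card (cl LA) = 32 := by
  have h1 := card_cons_le nm_7A
  rw [LP_eq] at h1
  have h2 := card_LP_ge
  have h3 := card_LA_le
  omega

theorem card_LB : Nat.card (cl LB) = 32 := by
  have h1 := card_cons_le nm_6B
  rw [LP_eq'] at h1
  have h2 := card_LP_ge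
  have h3 := card_LB_le
  omega

theorem card_LP : Nat.card (cl LP) = 64 := by
  have h1 := card_cons_le nm_6B
  rw [LP_eq'] at h1
  have h2 := card_LP_ge
  have h3 := card_LB_le
  omega

theorem inv_gen (L : List ℕ) : cl L = Subgroup.closure {x | x ∈ cl L ∧ x * x = 1} := by
  refine le_antisymm (cl_le.mpr fun r hr => Subgroup.subset_closure ⟨mem_cl hr, y_sq r⟩) ?_
  rw [Subgroup.closure_le]
  rintro x ⟨hx, -⟩
  exact hx

/-! ### Generation -/

theorem gen_top {J : Subgroup GG} (h : ∀ r, 4 ≤ r → r < 12 → y r ∈ J) : J = ⊤ := by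
  have h3 : y 3 ∈ J := by
    rw [n6_4]
    exact J.mul_mem (J.mul_mem (J.mul_mem (J.mul_mem (h 6 (by norm_num) (by norm_num)) (h 5 (by norm_num) (by norm_num)))
      (h 6 (by norm_num) (by norm_num))) (h 4 (by norm_num) (by norm_num))) (J.inv_mem (J.mul_mem (J.mul_mem
      (h 6 (by norm_num) (by norm_num)) (h 5 (by norm_num) (by norm_num))) (h 6 (by norm_num) (by norm_num))))
  have h2 : y 2 ∈ J := by
    rw [n7_3]
    exact J.mul_mem (J.mul_mem (J.mul_mem (J.mul_mem (h 7 (by norm_num) (by norm_num)) (h 4 (by norm_num) (by norm_num)))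
      (h 7 (by norm_num) (by norm_num))) h3) (J.inv_mem (J.mul_mem (J.mul_mem
      (h 7 (by norm_num) (by norm_num)) (h 4 (by norm_num) (by norm_num))) (h 7 (by norm_num) (by norm_num))))
  have h1 : y 1 ∈ J := by
    rw [n7_5]
    exact J.mul_mem (J.mul_mem (J.mul_mem (J.mul_mem (h 7 (by norm_num) (by norm_num)) (h 4 (by norm_num) (by norm_num)))
      (h 7 (by norm_num) (by norm_num))) (h 5 (by norm_num) (by norm_num))) (J.inv_mem (J.mul_mem (J.mul_mem
      (h 7 (by norm_num) (by norm_num)) (h 4 (by norm_num) (by norm_num))) (h 7 (by norm_num) (by norm_num))))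
  have h0 : y 0 ∈ J := by
    rw [n6_1]
    exact J.mul_mem (J.mul_mem (J.mul_mem (J.mul_mem (h 6 (by norm_num) (by norm_num)) (h 5 (by norm_num) (by norm_num)))
      (h 6 (by norm_num) (by norm_num))) h1) (J.inv_mem (J.mul_mem (J.mul_mem
      (h 6 (by norm_num) (by norm_num)) (h 5 (by norm_num) (by norm_num))) (h 6 (by norm_num) (by norm_num))))
  have hall : ∀ r < 12, y r ∈ J := by
    intro r hr
    by_cases h4 : 4 ≤ r
    · exact h r h4 hr
    · have : r = 0 ∨ r = 1 ∨ r = 2 ∨ r = 3 := by omega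
      rcases this with rfl | rfl | rfl | rfl
      · exact h0
      · exact h1
      · exact h2
      · exact h3
  have key : chevG2.group k2 ≤ J.map (chevG2.group k2).subtype := by
    unfold ChevalleyDatum.group
    rw [Subgroup.closure_le]
    rintro g ⟨r, t, hg⟩
    have ht : t = 0 ∨ t = 1 := by
      have : ∀ t : ZMod 2, t = 0 ∨ t = 1 := by decide
      exact this t
    have hx : chevG2.x k2 r.1 t = chevG2.xMat k2 r t := by
      unfold ChevalleyDatum.x
      rw [dif_pos r.2]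
    have hg' : g = ((xx k2 r.1 t : GG) : GL chevG2.Idx k2) := Units.ext ((hg.trans hx.symm).trans rfl)
    rcases ht with rfl | rfl
    · rw [xx_zero] at hg'
      rw [hg']
      exact one_mem _
    · exact ⟨y r.1, hall _ r.2, hg'.symm⟩
  rw [eq_top_iff]
  intro x _
  obtain ⟨z, hz, hzx⟩ := key x.2
  rwa [← Subtype.ext hzx]

/-! ### The statement -/

/-- half of the statement -/
structure Half {X : Type*} [Group X] (P U : Subgroup X) : Prop where
  le : U ≤ P
  nm : ∀ x ∈ P, ∀ u ∈ U, x * u * x⁻¹ ∈ U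
  card : Nat.card U = 32
  gen : U = Subgroup.closure {x | x ∈ U ∧ x * x = 1}

/-- the pair of radicals -/
def Par {X : Type*} [Group X] (P : Subgroup X) : Prop :=
  ∃ U₁ U₂ : Subgroup X, Half P U₁ ∧ Half P U₂ ∧ normalizer (U₁ : Set X) ⊔ normalizer (U₂ : Set X) = ⊤

theorem Half.map {X Y : Type*} [Group X] [Group Y] (e : X ≃* Y) {P U : Subgroup X} (h : Half P U) :
    Half (P.map e.toMonoidHom) (U.map e.toMonoidHom) := by
  refine ⟨Subgroup.map_mono h.le, ?_, ?_, ?_⟩
  · rintro _ ⟨x, hx, rfl⟩ _ ⟨u, hu, rfl⟩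
    exact ⟨x * u * x⁻¹, h.nm x hx u hu, by simp⟩
  · rw [← h.card]
    exact (Nat.card_congr (U.equivMapOfInjective _ e.injective).toEquiv).symm
  · conv_lhs => rw [h.gen]
    rw [MonoidHom.map_closure]
    congr 1
    ext x
    constructor
    · rintro ⟨u, ⟨hu, hu2⟩, rfl⟩
      refine ⟨⟨u, hu, rfl⟩, ?_⟩
      rw [← map_mul, hu2, map_one]
    · rintro ⟨⟨u, hu, rfl⟩, h2⟩
      refine ⟨u, ⟨hu, ?_⟩, rfl⟩
      apply e.injective
      rw [map_mul, map_one]
      exact h2

theorem Par.map {X Y : Type*} [Group X] [Group Y] (e : X ≃* Y) {P : Subgroup X} (h : Par P) :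
    Par (P.map e.toMonoidHom) := by
  obtain ⟨U₁, U₂, h1, h2, h3⟩ := h
  refine ⟨_, _, h1.map e, h2.map e, ?_⟩
  have key : ∀ U : Subgroup X, (normalizer (U : Set X)).map e.toMonoidHom ≤
      normalizer ((U.map e.toMonoidHom : Subgroup Y) : Set Y) := by
    rintro U _ ⟨n, hn, rfl⟩
    rw [mem_normalizer_iff]
    intro z
    obtain ⟨z, rfl⟩ := e.surjective z
    have h4 : ∀ w : X, e w ∈ U.map e.toMonoidHom ↔ w ∈ U := by
      intro w
      constructor
      · rintro ⟨v, hv, hvw⟩
        rwa [← e.injective hvw]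
      · intro hw; exact ⟨w, hw, rfl⟩
    have h5 := (mem_normalizer_iff.mp hn) z
    show e z ∈ U.map e.toMonoidHom ↔ e n * e z * (e n)⁻¹ ∈ U.map e.toMonoidHom
    rw [← map_mul, ← map_inv, ← map_mul, h4, h4]
    exact h5
  rw [eq_top_iff, ← Subgroup.map_top_of_surjective e.toMonoidHom e.surjective, ← h3, Subgroup.map_sup]
  exact sup_le_sup (key _) (key _)

theorem half_A : Half (cl LP) (cl LA) := by
  refine ⟨cl_le.mpr fun r hr => mem_cl ?_, ?_, card_LA, inv_gen _⟩
  · simp only [LA, LP, List.mem_cons, List.not_mem_nil, or_false] at hr ⊢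
    tauto
  · have h1 : cl LP ≤ normalizer (cl LA : Set GG) := by
      rw [cl_le]
      intro r hr
      simp only [LP, List.mem_cons, List.not_mem_nil, or_false] at hr
      rcases hr with rfl | rfl | rfl | rfl | rfl | rfl
      · exact (Nm.of_mem (mem_cl (by simp))).mem
      · exact nm_7A.mem
      all_goals exact (Nm.of_mem (mem_cl (by simp))).mem
    intro x hx u hu
    exact ((mem_normalizer_iff.mp (h1 hx)) u).mp hu

theorem half_B : Half (cl LP) (cl LB) := by
  refine ⟨cl_le.mpr fun r hr => mem_cl ?_, ?_, card_LB, inv_gen _⟩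
  · simp only [LB, LP, List.mem_cons, List.not_mem_nil, or_false] at hr ⊢
    tauto
  · have h1 : cl LP ≤ normalizer (cl LB : Set GG) := by
      rw [cl_le]
      intro r hr
      simp only [LP, List.mem_cons, List.not_mem_nil, or_false] at hr
      rcases hr with rfl | rfl | rfl | rfl | rfl | rfl
      · exact nm_6B.mem
      all_goals exact (Nm.of_mem (mem_cl (by simp))).mem
    intro x hx u hu
    exact ((mem_normalizer_iff.mp (h1 hx)) u).mp hu

theorem par_LP : Par (cl LP) := by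
  refine ⟨cl LA, cl LB, half_A, half_B, gen_top fun r h4 h12 => ?_⟩
  have hA : ∀ r ∈ LA, y r ∈ normalizer (cl LA : Set GG) := fun r hr => (Nm.of_mem (mem_cl hr)).mem
  interval_cases r
  · exact mem_sup_left nm_4A.mem
  · exact mem_sup_right nm_5B.mem
  · exact mem_sup_left (hA 6 (by simp))
  · exact mem_sup_left nm_7A.mem
  · exact mem_sup_left (hA 8 (by simp))
  · exact mem_sup_left (hA 9 (by simp))
  · exact mem_sup_left (hA 10 (by simp))
  · exact mem_sup_left (hA 11 (by simp))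

theorem card_GG : Nat.card GG = 12096 := by
  have h := Cfsg.Agent.S1059.result (F := ZMod 2) (q := 2) (ZMod.card 2)
  simpa using h

/-- **`T2`** -/
theorem twoPar {X : Type*} [Group X] [Finite X] (h : Nonempty (X ≃* ↥(chevG2.group (ZMod 2)))) : Hex.TwoPar X := by
  have := Fact.mk Nat.prime_two
  obtain ⟨e⟩ := h
  intro P
  let P₁ : Subgroup X := (cl LP).map e.symm.toMonoidHom
  have hc : Nat.card P₁ = 64 := by
    rw [← card_LP]
    exact (Nat.card_congr ((cl LP).equivMapOfInjective _ e.symm.injective).toEquiv).symm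
  have hpg : IsPGroup 2 P₁ := IsPGroup.of_card (n := 6) (by rw [hc]; rfl)
  have hidx : ¬ 2 ∣ P₁.index := by
    have h1 := P₁.card_mul_index
    rw [hc, Nat.card_congr e.toEquiv, card_GG] at h1
    omega
  let Q : Sylow 2 X := hpg.toSylow hidx
  have hQ : (Q : Subgroup X) = P₁ := rfl
  obtain ⟨g, hg⟩ := MulAction.exists_smul_eq X Q P
  have hgP : (P : Subgroup X) = P₁.map (MulAut.conj g).toMonoidHom := by
    rw [← hg, Sylow.coe_subgroup_smul, hQ]
    rfl
  have hP : Par (P : Subgroup X) := by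
    rw [hgP]
    exact (par_LP.map e.symm).map (MulAut.conj g)
  obtain ⟨U₁, U₂, h1, h2, h3⟩ := hP
  exact ⟨U₁, U₂, ⟨h1.le, h1.nm, h1.card, h1.gen⟩, ⟨h2.le, h2.nm, h2.card, h2.gen⟩, h3⟩

end Cfsg.Agent.H165.RV.G2T
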