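import Cfsg.Agent.H165.RV.CpiA
import Cfsg.Agent.H561.RV.Defs
import Cfsg.Agent.H988.CopCyc.Red
import Cfsg.Agent.H207.RV.Equi

/-!
# TEAM RV: Hall subgroups of `C_π`-groups are pronormal (S3851), from S4311 and the rows (helper165)
-/

set_option autoImplicit false

namespace Cfsg.Agent.H165.RV

open Subgroup Cfsg Cfsg.Agent.H988.CPi Cfsg.Agent.H571.DExt Cfsg.Agent.H553.ExtRed Cfsg.Agent.H561.RV
open scoped Pointwise

universe u

variable {π : Set ℕ} {G : Type u} [Group G] [Finite G]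

/-- An element of `Y` which normalises `L` fixes the class of `H ∩ L`: `D` a normal subgroup of `Y` of `π'`-index whose
elements normalising `L` fix the class. -/
theorem fixC_of_crow {L H D Y : Subgroup G} (hH1 : PiN π (Nat.card H)) (hH2 : PiN' π (H.relIndex L))
    (hC : CRow π L) (hDY : D ≤ Y) (hYD : Y ≤ normalizer (D : Set G)) (hi : PiN' π (D.relIndex Y))
    (hD : ∀ v ∈ D, MulAut.conj v • L = L → ∃ s ∈ L, MulAut.conj v • (H ⊓ L) = MulAut.conj s • (H ⊓ L))
    {v : G} (hv : v ∈ Y) (hvL : MulAut.conj v • L = L) :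
    ∃ s ∈ L, MulAut.conj v • (H ⊓ L) = MulAut.conj s • (H ⊓ L) := by
  have hvn : v ∈ normalizer (L : Set G) := normalizer_of_smul_eq hvL
  set ψ : normalizer (L : Set G) →* MulAut L := L.normalizerMonoidHom with hψ
  have hψa : ∀ (w : normalizer (L : Set G)) (x : L), ((ψ w x : L) : G) = w * x * (w : G)⁻¹ := fun w x => rfl
  -- translation
  have key : ∀ w : normalizer (L : Set G), FixC (ψ w) (H.subgroupOf L) ↔
      ∃ s ∈ L, MulAut.conj (w : G) • (H ⊓ L) = MulAut.conj s • (H ⊓ L) := by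
    intro w
    have e1 : ((H.subgroupOf L).map (ψ w : L ≃* L).toMonoidHom).map L.subtype = MulAut.conj (w : G) • (H ⊓ L) := by
      rw [← cj_eq, ← subgroupOf_map_subtype, map_map, map_map]
      congr 1
    have e2 : ∀ s : L, ((H.subgroupOf L).map (MulAut.conj s).toMonoidHom).map L.subtype = MulAut.conj (s : G) • (H ⊓ L) := by
      intro s
      rw [← cj_eq, ← subgroupOf_map_subtype, map_map, map_map]
      congr 1
    constructor
    · rintro ⟨s, hs⟩
      refine ⟨s, s.2, ?_⟩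
      rw [← e1, ← e2, hs]
    · rintro ⟨s, hs, he⟩
      refine ⟨⟨s, hs⟩, ?_⟩
      apply map_injective L.subtype_injective
      rw [e1, e2]
      exact he
  have hfin : Finite (MulAut L) := Finite.of_injective (fun f : MulAut L => (f : L → L)) DFunLike.coe_injective
  rw [← key ⟨v, hvn⟩]
  set n := D.relIndex Y with hn
  have hn0 : n ≠ 0 := by
    rw [hn]
    exact ne_zero_of_dvd_ne_zero index_ne_zero_of_finite (dvd_refl (D.subgroupOf Y).index)
  -- `v ^ n ∈ D`
  have hvnD : v ^ n ∈ D := by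
    have n1 : (D.subgroupOf Y).Normal := (normal_subgroupOf_iff_le_normalizer hDY).mpr hYD
    have := Subgroup.pow_index_mem (D.subgroupOf Y) (⟨v, hv⟩ : Y)
    exact this
  set w : normalizer (L : Set G) := ⟨v, hvn⟩ with hw
  obtain ⟨a, b, hab, -, hnb, hpr⟩ := Cfsg.Agent.H988.CopCyc.exists_part n (orderOf (ψ w)) (orderOf_pos _).ne'
  have h1 : ψ w ^ n ∈ fixer (H.subgroupOf L) := by
    rw [← map_pow]
    refine (key (w ^ n)).mpr (hD _ ?_ ?_)
    · exact hvnD
    · exact smul_eq_of_normalizer (w ^ n).2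
  have h2 : ψ w ^ b ∈ fixer (H.subgroupOf L) := by
    refine hC _ ⟨?_, hH2⟩ _ ?_
    · have : Nat.card (H.subgroupOf L) ∣ Nat.card H := by
        rw [← card_map_of_injective L.subtype_injective, subgroupOf_map_subtype]
        exact card_dvd_of_le inf_le_left
      exact hH1.of_dvd this
    · intro p hp hd hpπ
      have h3 : (ψ w ^ b) ^ a = 1 := by rw [← pow_mul, mul_comm, ← hab, pow_orderOf_eq_one]
      exact hi p hp hpπ (hpr p hp (hd.trans (orderOf_dvd_of_pow_eq_one h3)))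
  exact mem_of_pow_mem hnb h1 h2

/-- pronormality in the factors -/
theorem pr_of_good (h2 : 2 ∈ π)
    (hN : ∀ (S : Type u) [Group S] [Finite S] [IsSimpleGroup S], ¬ IsMulCommutative S → NRow π S)
    (hB : ∀ (S : Type u) [Group S] [Finite S] [IsSimpleGroup S], ¬ IsMulCommutative S → BRow π S)
    {m : ℕ} {A : Subgroup G} [A.Normal] {L : Fin m → Subgroup G} (e : A ≃* (∀ i, L i)) (hLA : ∀ i, L i ≤ A)
    (hAL : ∀ i, A ≤ normalizer (L i : Set G)) (hs : ∀ i (t : L i), ((e.symm (Pi.mulSingle i t) : A) : G) = t)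
    (hsim : ∀ i, IsSimpleGroup (L i)) (hnc : ∀ i, ¬ IsMulCommutative (L i)) {H : Subgroup G}
    (h1 : PiN π (Nat.card H)) (hHA : PiN' π (H.relIndex A)) {hperm : ∀ (g : G) i, ∃ j, L j = MulAut.conj g • L i}
    {y : G} (hy : y ∈ stabC L H hperm) : Pr (H ⊓ A) y := by
  refine pr_of_coord e hLA hAL hs inf_le_right (h1.of_dvd (card_dvd_of_le inf_le_left))
    (by rw [inf_relIndex_right]; exact hHA) fun j => ?_
  obtain ⟨i, hi⟩ := hperm y⁻¹ j
  have hji : L j = MulAut.conj y • L i := by rw [hi, conj_smul_inv_smul]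
  obtain ⟨s, hs, hse⟩ := hy i j hji
  have e1 : H ⊓ A ⊓ L j = H ⊓ L j := by rw [inf_assoc, inf_of_le_right (hLA j)]
  have e2 : MulAut.conj y • (H ⊓ A) ⊓ L j = MulAut.conj s • (H ⊓ L j) := by
    rw [← hse, smul_inf', smul_inf', smul_normal A, inf_assoc, inf_of_le_right (hLA j), ← hji]
  rw [e1, e2]
  have := hsim j
  have hHall : IsPiHall π ((H ⊓ L j).subgroupOf (L j)) := by
    refine ⟨?_, ?_⟩
    · have : Nat.card ((H ⊓ L j).subgroupOf (L j)) = Nat.card (H ⊓ L j : Subgroup G) := by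
        rw [← card_map_of_injective (L j).subtype_injective, subgroupOf_map_subtype, inf_of_le_left inf_le_right]
      rw [this]
      exact h1.of_dvd (card_dvd_of_le inf_le_left)
    · have : ((H ⊓ L j).subgroupOf (L j)).index = H.relIndex (L j) := by
        rw [inf_subgroupOf_right]; rfl
      rw [this]
      exact hHA.of_dvd (relIndex_dvd' (hLA j) (hAL j))
  have hpro := pronormal_simple h2 hN hB (L j) (hnc j) hHall
  obtain ⟨z, hz, hze⟩ := Pr.of_subgroupOf inf_le_right (isPronormal_iff.mp hpro ⟨s, hs⟩)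
  exact ⟨z, hz, hze⟩

/-- **The step.** `G ∈ C_π`, `A` a nonabelian minimal normal subgroup, `y` normalises `H A`. -/
theorem cpi_step (h2 : 2 ∈ π)
    (hN : ∀ (S : Type u) [Group S] [Finite S] [IsSimpleGroup S], ¬ IsMulCommutative S → NRow π S)
    (hB : ∀ (S : Type u) [Group S] [Finite S] [IsSimpleGroup S], ¬ IsMulCommutative S → BRow π S)
    (hC : ∀ (S : Type u) [Group S] [Finite S] [IsSimpleGroup S], ¬ IsMulCommutative S → CRow π S)
    {H : Subgroup G} (hH : IsPiHall π H) (hcpi : IsCPiGroup π G) (A : Subgroup G) [hA : A.Normal]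
    (hmin : ∀ B : Subgroup G, B.Normal → B ≤ A → B = ⊥ ∨ B = A) (hab : ¬ ∀ x ∈ A, ∀ y ∈ A, Commute x y)
    {y : G} (hy : MulAut.conj y • (H ⊔ A) = H ⊔ A) : Pr (H ⊓ A) y := by
  classical
  obtain ⟨m, L, e, hm, hsim, hnab, hinj, hLA, hAL, hperm, htr, hsing, hcoord⟩ :=
    Cfsg.Agent.PermutationGroups.OnanScott.exists_coordinates A hmin hab
  have hperm' : ∀ (g : G) i, ∃ j, L j = MulAut.conj g • L i := fun g i => by
    obtain ⟨j, hj⟩ := hperm g i
    exact ⟨j, by rw [hj, cj_eq]⟩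
  have hnc : ∀ i, ¬ IsMulCommutative (L i) := by
    intro i h
    obtain ⟨a, b, hab'⟩ := hnab i
    exact hab' (h.is_comm.comm a b)
  set D := H ⊔ A with hDdef
  set Y := normalizer (D : Set G) with hY
  have hyY : y ∈ Y := normalizer_of_smul_eq hy
  have hAD : A ≤ D := le_sup_right
  have hHD : H ≤ D := le_sup_left
  have hDY : D ≤ Y := le_normalizer
  have hHA : PiN' π (H.relIndex A) := by
    have h3 := relIndex_mul_sup_index H A
    exact PiN'.of_dvd hH.2 ⟨_, h3.symm⟩
  have hDi : PiN' π D.index := PiN'.of_dvd hH.2 (index_dvd_of_le hHD)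
  have hDYi : PiN' π (D.relIndex Y) := hDi.of_dvd (relIndex_dvd_index_of_le hDY)
  have hAi : PiN π (A.relIndex D) := by
    rw [hDdef, relIndex_sup_right]
    exact PiN.of_dvd hH.1 (relIndex_dvd_card A H)
  have hHL : ∀ i, PiN' π (H.relIndex (L i)) := fun i => hHA.of_dvd (relIndex_dvd' (hLA i) (hAL i))
  -- the elements of `D`
  have hDfix : ∀ i, ∀ v ∈ D, MulAut.conj v • L i = L i → ∃ s ∈ L i, MulAut.conj v • (H ⊓ L i) = MulAut.conj s • (H ⊓ L i) := by
    intro i v hv hvL
    have hv' : v ∈ ((A ⊔ H : Subgroup G) : Set G) := by rw [sup_comm]; exact hv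
    rw [Subgroup.normal_mul] at hv'
    obtain ⟨a, ha, h, hh, rfl⟩ := hv'
    have hhL : MulAut.conj h • L i = L i := by
      have h3 : MulAut.conj a • L i = L i := smul_eq_of_normalizer (hAL i ha)
      have h4 : MulAut.conj a⁻¹ • MulAut.conj (a * h) • L i = MulAut.conj a⁻¹ • L i := by rw [hvL]
      rw [← smul_mul, inv_mul_cancel_left] at h4
      rw [h4]
      exact smul_eq_of_normalizer (inv_mem (hAL i ha))
    have h5 : MulAut.conj h • (H ⊓ L i) = H ⊓ L i := by
      rw [smul_inf', smul_eq_of_mem hh, hhL]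
    refine ⟨(e ⟨a, ha⟩ i : G), (e ⟨a, ha⟩ i).2, ?_⟩
    rw [smul_mul, h5]
    have h6 := conj_coord e hLA hsing (e ⟨a, ha⟩) i (inf_le_right : H ⊓ L i ≤ L i)
    rw [e.symm_apply_apply] at h6
    exact h6
  -- the action on the indices
  choose σ hσ using hperm'
  let actΩ : MulAction Y (Fin m) :=
    { smul := fun p i => σ p i
      one_smul := fun i => by
        apply hinj
        show L (σ ((1 : Y) : G) i) = L i
        rw [hσ]; simp
      mul_smul := fun p q i => by
        apply hinj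
        show L (σ ((p * q : Y) : G) i) = L (σ p (σ q i))
        rw [hσ, hσ, hσ, Subgroup.coe_mul, smul_mul] }
  let actB : MulAction Y (Subgroup G) := MulAction.compHom (Subgroup G) ((MulAut.conj : G →* MulAut G).comp Y.subtype)
  have hsΩ : ∀ (p : Y) (i : Fin m), L (p • i) = MulAut.conj (p : G) • L i := fun p i => hσ p i
  have hsB : ∀ (p : Y) (K : Subgroup G), p • K = MulAut.conj (p : G) • K := fun _ _ => rfl
  let cls : Fin m → Subgroup G → Set (Subgroup G) := fun i R => {K | ∃ s ∈ L i, K = MulAut.conj s • R}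
  have hcls : ∀ (p : Y) (i : Fin m) (R : Subgroup G), p • cls i R = cls (p • i) (MulAut.conj (p : G) • R) := by
    intro p i R
    ext K
    constructor
    · rintro ⟨K', ⟨s, hs, rfl⟩, rfl⟩
      refine ⟨p * s * (p : G)⁻¹, ?_, ?_⟩
      · rw [hsΩ, ← cj_eq]
        exact ⟨s, hs, rfl⟩
      · show p • (MulAut.conj s • R) = _
        rw [hsB, ← smul_mul, ← smul_mul]
        congr 2
        group
    · rintro ⟨s, hs, rfl⟩
      rw [hsΩ, ← cj_eq] at hs
      obtain ⟨s', hs', rfl⟩ := hs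
      refine ⟨MulAut.conj s' • R, ⟨s', hs', rfl⟩, ?_⟩
      show p • (MulAut.conj s' • R) = _
      rw [hsB, ← smul_mul, ← smul_mul]
      congr 2
      simp
  obtain ⟨f, hf1, hf2⟩ := Cfsg.Agent.H207.RV.exists_equivariant (P := Y) (Ω := Fin m) (B := Set (Subgroup G))
    (fun i b => ∃ R : Subgroup G, R ≤ L i ∧ PiN π (Nat.card R) ∧ PiN' π (R.relIndex (L i)) ∧ b = cls i R) (by
      rintro p i b ⟨R, h3, h4, h5, rfl⟩
      refine ⟨MulAut.conj (p : G) • R, ?_, ?_, ?_, hcls p i R⟩
      · rw [hsΩ]; exact smul_mono_right _ h3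
      · rw [card_smul]; exact h4
      · rw [hsΩ, relIndex_pointwise_smul]; exact h5) (by
      intro i
      refine ⟨cls i (H ⊓ L i), ⟨H ⊓ L i, inf_le_right, PiN.of_dvd hH.1 (card_dvd_of_le inf_le_left), ?_, rfl⟩, ?_⟩
      · rw [inf_relIndex_right]; exact hHL i
      · intro p hp
        have hpL : MulAut.conj (p : G) • L i = L i := by rw [← hsΩ, hp]
        have := hsim i
        obtain ⟨s, hs, he⟩ := fixC_of_crow hH.1 (hHL i) (hC (L i) (hnc i)) hDY le_rfl hDYi (hDfix i) p.2 hpL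
        rw [hcls, hp, he]
        ext K
        constructor
        · rintro ⟨t, ht, rfl⟩
          exact ⟨t * s, mul_mem ht hs, by rw [smul_mul]⟩
        · rintro ⟨t, ht, rfl⟩
          refine ⟨t * s⁻¹, mul_mem ht (inv_mem hs), ?_⟩
          rw [← smul_mul]
          congr 2
          group)
  choose R hRL hR1 hR2 hRe using hf1
  -- the invariance of the tuple
  have hinv : ∀ v ∈ Y, ∀ i j, L j = MulAut.conj v • L i → ∃ s ∈ L j, MulAut.conj v • R i = MulAut.conj s • R j := by
    intro v hv i j hij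
    have h3 : (⟨v, hv⟩ : Y) • i = j := hinj (by rw [hsΩ, hij])
    have h4 := hf2 ⟨v, hv⟩ i
    rw [h3, hRe i, hRe j, hcls, h3] at h4
    have h5 : MulAut.conj v • R i ∈ cls j (MulAut.conj v • R i) := ⟨1, one_mem _, by simp⟩
    have h6 : MulAut.conj v • R i ∈ cls j (R j) := by rw [h4]; exact h5
    exact h6
  -- the Hall subgroup of `A`
  set RR := ⨆ i, R i with hRR
  have hRRA : RR ≤ A := iSup_le fun i => (hRL i).trans (hLA i)
  obtain ⟨hRR1, hRR2⟩ := hall_iSup e hLA hsing hRL hR1 hR2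
  have hF : ∀ v ∈ D, ∃ a ∈ A, MulAut.conj v • RR = MulAut.conj a • RR := by
    intro v hv
    have hvY : v ∈ Y := hDY hv
    -- for each `j` an element `s j ∈ L j`
    have h3 : ∀ j, ∃ s : L j, ∃ i, L j = MulAut.conj v • L i ∧ MulAut.conj v • R i = MulAut.conj (s : G) • R j := by
      intro j
      obtain ⟨s, hs, he⟩ := hinv v hvY (σ v⁻¹ j) j (by rw [hσ, conj_smul_inv_smul])
      exact ⟨⟨s, hs⟩, σ v⁻¹ j, by rw [hσ, conj_smul_inv_smul], he⟩
    choose s i hi he using h3
    refine ⟨((e.symm s : A) : G), (e.symm s).2, ?_⟩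
    rw [hRR, smul_iSup', smul_iSup']
    apply le_antisymm
    · refine iSup_le fun k => ?_
      -- `k = i (σ v k)`
      have h4 : i (σ v k) = k := by
        apply hinj
        have h5 := hi (σ v k)
        rw [hσ] at h5
        have h6 : MulAut.conj v⁻¹ • MulAut.conj v • L k = MulAut.conj v⁻¹ • MulAut.conj v • L (i (σ v k)) := by rw [← h5]
        rw [conj_inv_smul_smul, conj_inv_smul_smul] at h6
        exact h6.symm
      refine le_trans (le_of_eq ?_) (le_iSup _ (σ v k))
      rw [conj_coord e hLA hsing s (σ v k) (hRL _), ← he, h4]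
    · refine iSup_le fun k => ?_
      rw [conj_coord e hLA hsing s k (hRL k), ← he]
      exact le_iSup (fun i => MulAut.conj v • R i) (i k)
  obtain ⟨H', hH', hH'D, hRH', hH'A⟩ := exists_hall_over hAD hRRA hRR1 hRR2 hF hAi hDi
  obtain ⟨u, hu⟩ := hcpi.2 H H' hH hH'
  rw [cj_eq] at hu
  have huD : MulAut.conj u • D = D := by
    conv_rhs => rw [← hH'A, hu]
    rw [hDdef, smul_sup', smul_normal A]
  have huY : u ∈ Y := normalizer_of_smul_eq huD
  have hint : ∀ i j, L j = MulAut.conj u • L i → MulAut.conj u • (H ⊓ L i) = R j := by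
    intro i j hij
    rw [smul_inf', ← hu, ← hij]
    exact inf_eq_of_hall (hRL j) ((le_iSup R j).trans hRH') hH'.1 (hR2 j)
  have hgood : y ∈ stabC L H (fun g i => ⟨σ g i, hσ g i⟩) := by
    intro i j hij
    have h3 : L (σ u j) = MulAut.conj (u * y * u⁻¹) • L (σ u i) := by
      rw [hσ, hσ, hij, ← smul_mul, ← smul_mul]
      congr 2
      group
    obtain ⟨s, hs, he⟩ := hinv (u * y * u⁻¹) (mul_mem (mul_mem huY hyY) (inv_mem huY)) _ _ h3
    rw [← hint i _ (hσ u i), ← hint j _ (hσ u j)] at he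
    refine ⟨u⁻¹ * s * u, ?_, ?_⟩
    · rw [hσ, ← cj_eq] at hs
      obtain ⟨s', hs', rfl⟩ := hs
      have : u⁻¹ * (MulAut.conj u).toMonoidHom s' * u = s' := by simp [mul_assoc]
      rw [this]; exact hs'
    · have h4 : MulAut.conj u⁻¹ • MulAut.conj (u * y * u⁻¹) • MulAut.conj u • (H ⊓ L i)
          = MulAut.conj u⁻¹ • MulAut.conj s • MulAut.conj u • (H ⊓ L j) := by rw [he]
      rw [← smul_mul, ← smul_mul, ← smul_mul, ← smul_mul] at h4
      have h5 : u⁻¹ * (u * y * u⁻¹) * u = y := by group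
      rw [h5] at h4
      exact h4
  exact pr_of_good h2 hN hB e hLA hAL hsing hsim hnc (hH.1 : PiN π _) hHA hgood

/-- the lifting of Hall subgroups (S4311) -/
def LiftHall (π : Set ℕ) : Prop :=
  ∀ (G : Type u) [Group G] [Finite G] (A : Subgroup G) [A.Normal], IsEPiGroup π G → ∀ K : Subgroup (G ⧸ A), IsPiHall π K →
    ∃ H : Subgroup G, IsPiHall π H ∧ H.map (QuotientGroup.mk' A) = K

/-- `C_π` passes to quotients -/
theorem cpi_quot (hl : LiftHall.{u} π) (hG : IsCPiGroup π G) (A : Subgroup G) [A.Normal] : IsCPiGroup π (G ⧸ A) := by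
  refine ⟨?_, ?_⟩
  · obtain ⟨H, hH⟩ := hG.1
    exact ⟨_, isPiHall_map_mk hH A⟩
  · intro H K hH hK
    obtain ⟨H₁, hH₁, rfl⟩ := hl G A hG.1 H hH
    obtain ⟨K₁, hK₁, rfl⟩ := hl G A hG.1 K hK
    obtain ⟨g, hg⟩ := hG.2 H₁ K₁ hH₁ hK₁
    refine ⟨QuotientGroup.mk' A g, ?_⟩
    rw [hg, cj_eq, cj_eq, map_smul']

/-- **S3851 from S4311 and the rows (`2 ∈ π`).** -/
theorem pronormal_of_cpi (h2 : 2 ∈ π)
    (hN : ∀ (S : Type u) [Group S] [Finite S] [IsSimpleGroup S], ¬ IsMulCommutative S → NRow π S)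
    (hB : ∀ (S : Type u) [Group S] [Finite S] [IsSimpleGroup S], ¬ IsMulCommutative S → BRow π S)
    (hC : ∀ (S : Type u) [Group S] [Finite S] [IsSimpleGroup S], ¬ IsMulCommutative S → CRow π S)
    (hl : LiftHall.{u} π) (n : ℕ) : ∀ (G : Type u) [Group G] [Finite G], Nat.card G = n → IsCPiGroup π G →
      ∀ H : Subgroup G, IsPiHall π H → IsPronormal H := by
  induction n using Nat.strong_induction_on with
  | _ n ih =>
    intro G _ _ hn hG H hH
    rw [isPronormal_iff]
    intro g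
    by_cases htop : (⊤ : Subgroup G) = ⊥
    · have hH0 : H = ⊥ := eq_bot_iff.mpr (htop ▸ le_top)
      exact Pr.of_eq (by rw [hH0]; exact smul_bot' g)
    obtain ⟨A, hAn, hA0, -, hmin⟩ := Cfsg.Agent.H165.Wiel.exists_min_normal G ⊤ inferInstance htop
    have hlt : Nat.card (G ⧸ A) < n := by
      rw [← hn]; exact Cfsg.Agent.H165.Wiel.card_quotient_lt hA0
    have h3 := ih _ hlt (G ⧸ A) rfl (cpi_quot hl hG A) _ (isPiHall_map_mk hH A)
    obtain ⟨x, hx, hxe⟩ := exists_of_quot A (isPronormal_iff.mp h3 (QuotientGroup.mk' A g))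
    have hHA : PiN' π (H.relIndex A) := by
      have h3 := relIndex_mul_sup_index H A
      exact PiN'.of_dvd hH.2 ⟨_, h3.symm⟩
    refine Pr.trans hx (Pr.of_inter A hH.1 hHA hxe ?_)
    by_cases hab : ∀ x ∈ A, ∀ y ∈ A, Commute x y
    · rcases abelian_min π hmin hab with h3 | h3
      · have h4 : A ≤ H := relIndex_eq_one.mp (eq_one_of_both (h3.of_dvd (relIndex_dvd_card H A)) hHA)
        rw [inf_of_le_right h4]
        exact Pr.of_eq (smul_normal A _)
      · have h4 : H ⊓ A = ⊥ := by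
          apply card_eq_one.mp
          exact eq_one_of_both (PiN.of_dvd hH.1 (card_dvd_of_le inf_le_left)) (h3.of_dvd (card_dvd_of_le inf_le_right))
        rw [h4]
        exact Pr.of_eq (smul_bot' _)
    · refine cpi_step h2 hN hB hC hH hG A (fun M hM hMA => ?_) hab ?_
      · by_cases hMb : M = ⊥
        · exact Or.inl hMb
        · exact Or.inr (hmin M hM hMA hMb)
      · rw [smul_sup', smul_normal A]
        exact hxe

end Cfsg.Agent.H165.RV
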