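import Cfsg.Agent.H165.RV.HexLin
import Cfsg.Agent.Lib.KleinGen
import Cfsg.Agent.S0205

/-!
# Centralisers of involutions in `G₂(q)` and `³D₄(q)`, `q` odd (helper165)

`CenP z F₁ F₄` : the centraliser of the involution `z` is `(SL₂(F₁) ∘ SL₂(F₄)).2`.

* `ofHex`, `CenP.conj`, `CenP.symm`;
* `CenP.sq_comm` : `X ≤ C(z)` of odd order prime to the characteristic, `g ∈ C(z)` normalises `X`: then `g²` centralises `X`;
* `lemA` : Lemma A;
* `no_sixteen` : no elementary abelian subgroup of order `16`;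
* `two_of_gen` : if `U` is generated by involutions, `z ∈ U` and `|U|` is large, then `C(U)` is a `2`-group.
-/

set_option autoImplicit false

namespace Cfsg.Agent.H165.RV.Hex

open Matrix Subgroup Cfsg.Agent.Lib.SL2Mat Cfsg.Agent.Cit.HexBase

universe u

/-- the centraliser of `z` is `(SL₂(F₁) ∘ SL₂(F₄)).2` -/
structure CenP {L : Type u} [Group L] (z : L) (F1 F4 : Type*) [Field F1] [Field F4] where
  r1 : SL F1 →* L
  r4 : SL F4 →* L
  inj1 : Function.Injective r1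
  inj4 : Function.Injective r4
  comm : ∀ x y, r1 x * r4 y = r4 y * r1 x
  z1 : r1 ng = z
  z4 : r4 ng = z
  act1 : ∀ g, g * z = z * g → ∃ M : GL (Fin 2) F1, ∀ w, g * r1 w * g⁻¹ = r1 (conjGL M w)
  act4 : ∀ g, g * z = z * g → ∃ M : GL (Fin 2) F4, ∀ w, g * r4 w * g⁻¹ = r4 (conjGL M w)
  sq : ∀ g, g * z = z * g → ∃ x y, g * g = r1 x * r4 y
  cen1 : ∀ g, (∀ x, g * r1 x = r1 x * g) → ∃ y, r4 y = g
  cen4 : ∀ g, (∀ y, g * r4 y = r4 y * g) → ∃ x, r1 x = g

/-- the groups `G₂(q)` and `³D₄(q)` -/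
noncomputable def ofHex {E : Type*} [Field E] [Finite E] {σ : E ≃+* E} {L : Type u} [Group L] (c : HexGrp σ L)
    (h2 : (2 : E) ≠ 0) : CenP c.z E ↥(fx σ) where
  r1 := c.pb
  r4 := c.p4
  inj1 := c.pb_inj h2
  inj4 := c.p4_inj
  comm := c.comm_pb_p4
  z1 := rfl
  z4 := c.z_eq_p4.symm
  act1 := by
    intro g hg
    obtain ⟨x, y, t, ht, rfl⟩ := c.mem_CZ_form h2 hg
    refine ⟨Matrix.SpecialLinearGroup.toGL x * dgl (t : E)⁻¹ (c.act_a t ht).ne1, fun w => ?_⟩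
    rw [map_mul, MulAut.mul_apply, conjGL_toGL, map_mul, map_mul, map_inv, ← c.pa_dg_pb t ht w]
    obtain ⟨w', hw'⟩ : ∃ w', c.pa (dg t ht) * c.pb w * (c.pa (dg t ht))⁻¹ = c.pb w' := ⟨_, c.pa_dg_pb t ht w⟩
    have h1 := c.comm_pb_p4 w' y
    calc c.pb x * c.p4 y * c.pa (dg t ht) * c.pb w * (c.pb x * c.p4 y * c.pa (dg t ht))⁻¹
        = c.pb x * (c.p4 y * (c.pa (dg t ht) * c.pb w * (c.pa (dg t ht))⁻¹)) * (c.p4 y)⁻¹ * (c.pb x)⁻¹ := by group
      _ = c.pb x * (c.pa (dg t ht) * c.pb w * (c.pa (dg t ht))⁻¹) * (c.pb x)⁻¹ := by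
        rw [hw', ← h1]; group
  act4 := by
    intro g hg
    obtain ⟨x, y, t, ht, rfl⟩ := c.mem_CZ_form h2 hg
    refine ⟨Matrix.SpecialLinearGroup.toGL y * dgl t ht, fun w => ?_⟩
    rw [map_mul, MulAut.mul_apply, conjGL_toGL, map_mul, map_mul, map_inv, ← c.pa_dg_p4 h2 t ht w]
    obtain ⟨w', hw'⟩ : ∃ w', c.pa (dg t ht) * c.p4 w * (c.pa (dg t ht))⁻¹ = c.p4 w' := ⟨_, c.pa_dg_p4 h2 t ht w⟩
    have h1 := c.comm_pb_p4 x (y * w' * y⁻¹)
    rw [map_mul, map_mul, map_inv] at h1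
    calc c.pb x * c.p4 y * c.pa (dg t ht) * c.p4 w * (c.pb x * c.p4 y * c.pa (dg t ht))⁻¹
        = c.pb x * (c.p4 y * (c.pa (dg t ht) * c.p4 w * (c.pa (dg t ht))⁻¹) * (c.p4 y)⁻¹) * (c.pb x)⁻¹ := by group
      _ = c.p4 y * (c.pa (dg t ht) * c.p4 w * (c.pa (dg t ht))⁻¹) * (c.p4 y)⁻¹ := by
        rw [hw', h1]; group
  sq := by
    intro g hg
    obtain ⟨x, y, t, ht, rfl⟩ := c.mem_CZ_form h2 hg
    obtain ⟨x', hx'⟩ : ∃ x', c.pa (dg t ht) * c.pb x * (c.pa (dg t ht))⁻¹ = c.pb x' := ⟨_, c.pa_dg_pb t ht x⟩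
    obtain ⟨y', hy'⟩ : ∃ y', c.pa (dg t ht) * c.p4 y * (c.pa (dg t ht))⁻¹ = c.p4 y' := ⟨_, c.pa_dg_p4 h2 t ht y⟩
    have h3 : c.pa (dg t ht) * c.pa (dg t ht) = c.pa (dg (t ^ 2) (pow_ne_zero 2 ht)) := by
      rw [← map_mul]
      congr 1
      refine ext_ent ?_ ?_ ?_ ?_ <;> simp [ent_mul, pow_two]
    rw [c.pa_dg_sq t ht] at h3
    refine ⟨x * x' * (dg (t : E) fun h => ht (Subtype.ext h))⁻¹, y * y' * dg t ht, ?_⟩
    obtain ⟨u, hu⟩ : ∃ u, u = (dg (t : E) fun h => ht (Subtype.ext h))⁻¹ := ⟨_, rfl⟩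
    rw [← map_inv, ← hu] at h3
    rw [← hu]
    have k1 := c.comm_pb_p4 x' y
    have k2 := c.comm_pb_p4 u (y * y')
    simp only [map_mul] at k2 ⊢
    calc c.pb x * c.p4 y * c.pa (dg t ht) * (c.pb x * c.p4 y * c.pa (dg t ht))
        = c.pb x * c.p4 y * (c.pa (dg t ht) * c.pb x * (c.pa (dg t ht))⁻¹) *
            (c.pa (dg t ht) * c.p4 y * (c.pa (dg t ht))⁻¹) * (c.pa (dg t ht) * c.pa (dg t ht)) := by group
      _ = c.pb x * (c.p4 y * c.pb x') * c.p4 y' * (c.pb u * c.p4 (dg t ht)) := by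
        rw [hx', hy', h3]; group
      _ = c.pb x * c.pb x' * ((c.p4 y * c.p4 y') * c.pb u) * c.p4 (dg t ht) := by rw [← k1]; group
      _ = _ := by rw [← k2]; group
  cen1 := fun g hg => c.centralizer_K1 h2 hg
  cen4 := fun g hg => c.centralizer_K4 h2 hg

namespace CenP

variable {L : Type u} [Group L] {z : L} {F1 F4 : Type*} [Field F1] [Field F4]

/-- interchange the factors -/
def symm (c : CenP z F1 F4) : CenP z F4 F1 where
  r1 := c.r4
  r4 := c.r1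
  inj1 := c.inj4
  inj4 := c.inj1
  comm := fun x y => (c.comm y x).symm
  z1 := c.z4
  z4 := c.z1
  act1 := c.act4
  act4 := c.act1
  sq := by
    intro g hg
    obtain ⟨x, y, h⟩ := c.sq g hg
    exact ⟨y, x, by rw [h, c.comm]⟩
  cen1 := c.cen4
  cen4 := c.cen1

/-- conjugates -/
def conj (c : CenP z F1 F4) (g : L) : CenP (g * z * g⁻¹) F1 F4 where
  r1 := (MulAut.conj g).toMonoidHom.comp c.r1
  r4 := (MulAut.conj g).toMonoidHom.comp c.r4
  inj1 := (MulAut.conj g).injective.comp c.inj1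
  inj4 := (MulAut.conj g).injective.comp c.inj4
  comm := by
    intro x y
    show g * c.r1 x * g⁻¹ * (g * c.r4 y * g⁻¹) = g * c.r4 y * g⁻¹ * (g * c.r1 x * g⁻¹)
    have h := c.comm x y
    calc _ = g * (c.r1 x * c.r4 y) * g⁻¹ := by group
      _ = _ := by rw [h]; group
  z1 := by
    show g * c.r1 ng * g⁻¹ = g * z * g⁻¹
    rw [c.z1]
  z4 := by
    show g * c.r4 ng * g⁻¹ = g * z * g⁻¹
    rw [c.z4]
  act1 := by
    intro a ha
    have h1 : (g⁻¹ * a * g) * z = z * (g⁻¹ * a * g) := by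
      calc (g⁻¹ * a * g) * z = g⁻¹ * (a * (g * z * g⁻¹)) * g := by group
        _ = _ := by rw [ha]; group
    obtain ⟨M, hM⟩ := c.act1 _ h1
    refine ⟨M, fun w => ?_⟩
    show a * (g * c.r1 w * g⁻¹) * a⁻¹ = g * c.r1 (conjGL M w) * g⁻¹
    rw [← hM w]; group
  act4 := by
    intro a ha
    have h1 : (g⁻¹ * a * g) * z = z * (g⁻¹ * a * g) := by
      calc (g⁻¹ * a * g) * z = g⁻¹ * (a * (g * z * g⁻¹)) * g := by group
        _ = _ := by rw [ha]; group
    obtain ⟨M, hM⟩ := c.act4 _ h1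
    refine ⟨M, fun w => ?_⟩
    show a * (g * c.r4 w * g⁻¹) * a⁻¹ = g * c.r4 (conjGL M w) * g⁻¹
    rw [← hM w]; group
  sq := by
    intro a ha
    have h1 : (g⁻¹ * a * g) * z = z * (g⁻¹ * a * g) := by
      calc (g⁻¹ * a * g) * z = g⁻¹ * (a * (g * z * g⁻¹)) * g := by group
        _ = _ := by rw [ha]; group
    obtain ⟨x, y, h⟩ := c.sq _ h1
    refine ⟨x, y, ?_⟩
    show a * a = g * c.r1 x * g⁻¹ * (g * c.r4 y * g⁻¹)
    calc a * a = g * ((g⁻¹ * a * g) * (g⁻¹ * a * g)) * g⁻¹ := by group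
      _ = _ := by rw [h]; group
  cen1 := by
    intro a ha
    obtain ⟨y, hy⟩ := c.cen1 (g⁻¹ * a * g) (fun x => by
      have h1 : a * (g * c.r1 x * g⁻¹) = g * c.r1 x * g⁻¹ * a := ha x
      calc g⁻¹ * a * g * c.r1 x = g⁻¹ * (a * (g * c.r1 x * g⁻¹)) * g := by group
        _ = _ := by rw [h1]; group)
    refine ⟨y, ?_⟩
    show g * c.r4 y * g⁻¹ = a
    rw [hy]; group
  cen4 := by
    intro a ha
    obtain ⟨y, hy⟩ := c.cen4 (g⁻¹ * a * g) (fun x => by
      have h1 : a * (g * c.r4 x * g⁻¹) = g * c.r4 x * g⁻¹ * a := ha x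
      calc g⁻¹ * a * g * c.r4 x = g⁻¹ * (a * (g * c.r4 x * g⁻¹)) * g := by group
        _ = _ := by rw [h1]; group)
    refine ⟨y, ?_⟩
    show g * c.r1 y * g⁻¹ = a
    rw [hy]; group

variable (c : CenP z F1 F4)

include c in
theorem z_sq : z * z = 1 := by
  rw [← c.z1, ← map_mul, ng_sq, map_one]

include c in
theorem z_ne (h2 : (2 : F1) ≠ 0) : z ≠ 1 := by
  intro h
  apply ng_ne h2
  apply c.inj1
  exact (c.z1.trans h).trans (map_one c.r1).symm

theorem z_r1 (x : SL F1) : c.r1 x * z = z * c.r1 x := by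
  have h := congrArg c.r1 (ng_mul x)
  rw [map_mul, map_mul, c.z1] at h
  exact h.symm

theorem z_r4 (y : SL F4) : c.r4 y * z = z * c.r4 y := c.symm.z_r1 y

/-- `K₁ ∩ K₄ = ⟨z⟩` -/
theorem eq_of_inter {x : SL F1} {y : SL F4} (h : c.r1 x = c.r4 y) : x = 1 ∨ x = ng := by
  apply central_cases
  intro w
  apply c.inj1
  rw [map_mul, map_mul, h, c.comm]

include c in
theorem sq_comm_aux (h2 : (2 : F1) ≠ 0) {X : Subgroup L} {m : ℕ} (hodd : Odd m) (hp : ((m : ℕ) : F1) ≠ 0)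
    (hXm : ∀ x ∈ X, x ^ m = 1) (hXs : Group.IsSolvable X)
    {g : L} (hg : g * z = z * g) (hn : ∀ x ∈ X, g * x * g⁻¹ ∈ X)
    (M : GL (Fin 2) F1) (hM : ∀ w, g * c.r1 w * g⁻¹ = c.r1 (conjGL M w)) (a : SL F1) (b : SL F4)
    (hab : c.r1 a * c.r4 b ∈ X) : conjGL M (conjGL M a) = a := by
  -- the homomorphism `SL₂ × SL₂ → L`
  let f : SL F1 × SL F4 →* L :=
    { toFun := fun w => c.r1 w.1 * c.r4 w.2
      map_one' := by simp
      map_mul' := by
        rintro ⟨x, y⟩ ⟨x', y'⟩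
        show c.r1 (x * x') * c.r4 (y * y') = c.r1 x * c.r4 y * (c.r1 x' * c.r4 y')
        rw [map_mul, map_mul]
        have := c.comm x' y
        calc _ = c.r1 x * (c.r1 x' * c.r4 y) * c.r4 y' := by group
          _ = _ := by rw [this]; group }
  -- the subgroup `B` of first components
  let B : Subgroup (SL F1) := (X.comap f).map (MonoidHom.fst _ _)
  have hB : ∀ x : SL F1, x ∈ B ↔ ∃ y, c.r1 x * c.r4 y ∈ X := by
    intro x
    constructor
    · rintro ⟨⟨x', y⟩, hxy, rfl⟩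
      exact ⟨y, hxy⟩
    · rintro ⟨y, hy⟩
      exact ⟨(x, y), hy, rfl⟩
  have hpow : ∀ x ∈ B, x ^ (2 * m) = 1 := by
    intro x hx
    obtain ⟨y, hy⟩ := (hB x).mp hx
    have h1 := hXm _ hy
    have hc : Commute (c.r1 x) (c.r4 y) := c.comm x y
    rw [hc.mul_pow, ← map_pow, ← map_pow] at h1
    have h3 : c.r1 (x ^ m) = c.r4 (y ^ m)⁻¹ := by
      rw [map_inv]
      exact eq_inv_of_mul_eq_one_left h1
    rcases c.eq_of_inter h3 with h4 | h4
    · rw [mul_comm, pow_mul, h4, one_pow]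
    · rw [mul_comm, pow_mul, h4, pow_two, ng_sq]
  have hBs : Group.IsSolvable B := by
    have h1 : Group.IsSolvable (X.comap f) := by
      let f' : X.comap f →* X := (f.comp (X.comap f).subtype).codRestrict X (fun w => w.2)
      have hker : Group.IsSolvable f'.ker := by
        apply Group.isSolvable_of_comm
        rintro ⟨⟨⟨x, y⟩, hw⟩, hx⟩ ⟨⟨⟨x', y'⟩, hw'⟩, hx'⟩
        have h5 : c.r1 x * c.r4 y = 1 := congrArg Subtype.val hx
        have h6 : c.r1 x = c.r4 y⁻¹ := by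
          rw [map_inv]; exact eq_inv_of_mul_eq_one_left h5
        have h7 : c.symm.r1 y = c.symm.r4 x⁻¹ := by
          show c.r4 y = c.r1 x⁻¹
          rw [map_inv]; exact eq_inv_of_mul_eq_one_right h5
        have h8 : x * x' = x' * x := by
          rcases c.eq_of_inter h6 with rfl | rfl
          · rw [one_mul, mul_one]
          · rw [ng_mul]
        have h9 : y * y' = y' * y := by
          rcases c.symm.eq_of_inter h7 with rfl | rfl
          · rw [one_mul, mul_one]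
          · rw [ng_mul]
        apply Subtype.ext
        apply Subtype.ext
        exact Prod.ext h8 h9
      exact Group.isSolvable_of_ker_le_range f'.ker.subtype f' (by rw [range_subtype])
    let π : X.comap f →* B := (MonoidHom.fst (SL F1) (SL F4)).subgroupMap (X.comap f)
    have hπ : Function.Surjective π := MonoidHom.subgroupMap_surjective _ _
    exact Group.isSolvable_of_surjective hπ
  have hm2 : ((2 * m : ℕ) : F1) ≠ 0 := by
    push_cast
    exact mul_ne_zero h2 hp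
  have hBc : ∀ x ∈ B, ∀ y ∈ B, x * y = y * x := by
    intro x hx y hy
    have := comm_of_solvable h2 B.subtype B.subtype_injective hodd hm2 (fun w => hpow w w.2) hBs ⟨x, hx⟩ ⟨y, hy⟩
    exact congrArg Subtype.val this
  have hBM : ∀ x ∈ B, conjGL M x ∈ B := by
    intro x hx
    obtain ⟨y, hy⟩ := (hB x).mp hx
    rw [hB]
    obtain ⟨N, hN⟩ := c.act4 g hg
    refine ⟨conjGL N y, ?_⟩
    rw [← hM, ← hN]
    have := hn _ hy
    have h3 : g * c.r1 x * g⁻¹ * (g * c.r4 y * g⁻¹) = g * (c.r1 x * c.r4 y) * g⁻¹ := by group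
    rw [h3]
    exact this
  exact conjGL_sq h2 hm2 hpow hBc hBM a ((hB a).mpr ⟨b, hab⟩)

/-- elements of odd order of the centraliser lie in the central product -/
theorem exists_form {m : ℕ} (hodd : Odd m) {x : L} (hx : x * z = z * x) (hxm : x ^ m = 1) :
    ∃ a b, x = c.r1 a * c.r4 b := by
  obtain ⟨k, hk⟩ := hodd
  have h1 : x = x ^ (k + 1) * x ^ (k + 1) := by
    calc x = x ^ m * x := by rw [hxm, one_mul]
      _ = x ^ (k + 1) * x ^ (k + 1) := by
        rw [hk, ← pow_succ, ← pow_add]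
        congr 1
        ring
  have hc : Commute x z := hx
  obtain ⟨a, b, h⟩ := c.sq (x ^ (k + 1)) (hc.pow_left _)
  exact ⟨a, b, h1.trans h⟩

include c in
/-- **Squares of normalising elements centralise the coprime subgroups of odd order.** -/
theorem sq_comm (h2 : (2 : F1) ≠ 0) (h2' : (2 : F4) ≠ 0) [Finite L] {X : Subgroup L} (hX : ∀ x ∈ X, x * z = z * x)
    (hodd : Odd (Nat.card X)) (hp : ((Nat.card X : ℕ) : F1) ≠ 0) (hp' : ((Nat.card X : ℕ) : F4) ≠ 0)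
    {g : L} (hg : g * z = z * g) (hn : ∀ x ∈ X, g * x * g⁻¹ ∈ X) : ∀ x ∈ X, g * g * x = x * (g * g) := by
  obtain ⟨m, hm⟩ : ∃ m, m = Nat.card X := ⟨_, rfl⟩
  rw [← hm] at hodd hp hp'
  have hXm : ∀ x ∈ X, x ^ m = 1 := by
    intro x hx
    have h0 : ((⟨x, hx⟩ : X) ^ Nat.card X : X) = 1 := pow_card_eq_one'
    rw [← hm] at h0
    exact congrArg Subtype.val h0
  have hXs : Group.IsSolvable X := Cfsg.Agent.S0205.result (hm ▸ hodd)
  intro x hx
  obtain ⟨a, b, rfl⟩ := c.exists_form hodd (hX x hx) (hXm x hx)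
  obtain ⟨M, hM⟩ := c.act1 g hg
  obtain ⟨N, hN⟩ := c.act4 g hg
  have k1 := c.sq_comm_aux h2 hodd hp hXm hXs hg hn M hM a b hx
  have k2 := c.symm.sq_comm_aux h2' hodd hp' hXm hXs hg hn N hN b a (by
    show c.r4 b * c.r1 a ∈ X
    rw [← c.comm]; exact hx)
  have e1 : g * g * c.r1 a * (g * g)⁻¹ = c.r1 a := by
    calc g * g * c.r1 a * (g * g)⁻¹ = g * (g * c.r1 a * g⁻¹) * g⁻¹ := by group
      _ = c.r1 a := by rw [hM, hM, k1]
  have e2 : g * g * c.r4 b * (g * g)⁻¹ = c.r4 b := by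
    calc g * g * c.r4 b * (g * g)⁻¹ = g * (g * c.r4 b * g⁻¹) * g⁻¹ := by group
      _ = c.r4 b := by rw [hN, hN, k2]
  calc g * g * (c.r1 a * c.r4 b) = (g * g * c.r1 a * (g * g)⁻¹) * (g * g * c.r4 b * (g * g)⁻¹) * (g * g) := by group
    _ = _ := by rw [e1, e2]

end CenP

end Cfsg.Agent.H165.RV.Hex
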