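import Cfsg.Agent.H165.RV.HexCen

/-!
# `G₂(q)`, `³D₄(q)`, `q` odd: Lemma A, `2`-rank `3`, centralisers of large `2`-subgroups (helper165)
-/

set_option autoImplicit false

namespace Cfsg.Agent.H165.RV.Hex

open Matrix Subgroup Cfsg.Agent.Lib.SL2Mat Cfsg.Agent.Cit.HexBase

universe u

namespace CenP

variable {L : Type u} [Group L] {z : L} {F1 F4 : Type*} [Field F1] [Field F4] (c : CenP z F1 F4)

theorem cast_ne {F : Type*} [Field F] {X R : Subgroup L} (h : X ≤ R) [Finite L] (hp : ((Nat.card R : ℕ) : F) ≠ 0) :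
    ((Nat.card X : ℕ) : F) ≠ 0 := by
  obtain ⟨k, hk⟩ := Subgroup.card_dvd_of_le h
  rw [hk] at hp
  push_cast at hp
  exact left_ne_zero_of_mul hp

include c in
/-- **Lemma A.** -/
theorem lemA [Finite L] (hall : ∀ t : L, t * t = 1 → t ≠ 1 → Nonempty (CenP t F1 F4))
    (h2 : (2 : F1) ≠ 0) (h2' : (2 : F4) ≠ 0) {R : Subgroup L}
    (hodd : Odd (Nat.card R)) (hp : ((Nat.card R : ℕ) : F1) ≠ 0) (hp' : ((Nat.card R : ℕ) : F4) ≠ 0)
    {y1 y4 : L} (hy1 : y1 ∈ c.r1.range) (h1 : y1 * y1 = z) (hy4 : y4 ∈ c.r4.range) (h4 : y4 * y4 = z)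
    (hn1 : ∀ x ∈ R, y1 * x * y1⁻¹ ∈ R) (hn4 : ∀ x ∈ R, y4 * x * y4⁻¹ ∈ R) : ∀ x ∈ R, z * x = x * z := by
  have hz2 := c.z_sq
  have hz1 := c.z_ne h2
  have hc : y1 * y4 = y4 * y1 := by
    obtain ⟨a, rfl⟩ := hy1
    obtain ⟨b, rfl⟩ := hy4
    exact c.comm a b
  have h1z : y1 * z = z * y1 := by rw [← h1, mul_assoc]
  have h4z : y4 * z = z * y4 := by rw [← h4, mul_assoc]
  obtain ⟨e, he⟩ : ∃ e, e = y1 * y4 := ⟨_, rfl⟩
  have hee : e * e = 1 := by
    calc e * e = y1 * (y4 * y1) * y4 := by rw [he]; group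
      _ = (y1 * y1) * (y4 * y4) := by rw [← hc]; group
      _ = 1 := by rw [h1, h4, hz2]
  have hez : e * z = z * e := by
    rw [he, mul_assoc, h4z, ← mul_assoc, h1z, mul_assoc]
  have hzeze : z * e * (z * e) = 1 := by
    calc z * e * (z * e) = z * (e * z) * e := by group
      _ = (z * z) * (e * e) := by rw [hez]; group
      _ = 1 := by rw [hz2, hee, mul_one]
  -- `y1` does not lie in `K₄`
  have hnot : ∀ w ∈ c.r4.range, y1 ≠ w := by
    rintro _ ⟨b, rfl⟩ hb
    obtain ⟨a, rfl⟩ := hy1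
    apply hz1
    rw [← h1, ← map_mul]
    rcases c.eq_of_inter hb with rfl | rfl
    · rw [one_mul, map_one]
    · rw [ng_sq, map_one]
  have hzr4 : z ∈ c.r4.range := ⟨_, c.z4⟩
  have he1 : e ≠ 1 := by
    intro h
    apply hnot y4⁻¹ (inv_mem hy4)
    rw [he] at h
    exact eq_inv_of_mul_eq_one_left h
  have hze1 : z * e ≠ 1 := by
    intro h
    apply hnot (z⁻¹ * y4⁻¹) (mul_mem (inv_mem hzr4) (inv_mem hy4))
    rw [he] at h
    calc y1 = z⁻¹ * (z * (y1 * y4)) * y4⁻¹ := by group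
      _ = z⁻¹ * y4⁻¹ := by rw [h, mul_one]
  have hnz : ∀ x ∈ R, z * x * z⁻¹ ∈ R := by
    intro x hx
    have h3 := hn1 _ (hn1 x hx)
    have h5 : y1 * (y1 * x * y1⁻¹) * y1⁻¹ = (y1 * y1) * x * (y1 * y1)⁻¹ := by group
    rw [h5, h1] at h3
    exact h3
  have hne : ∀ x ∈ R, e * x * e⁻¹ ∈ R := by
    intro x hx
    have h3 := hn1 _ (hn4 x hx)
    have h5 : y1 * (y4 * x * y4⁻¹) * y1⁻¹ = (y1 * y4) * x * (y1 * y4)⁻¹ := by group
    rw [h5, ← he] at h3
    exact h3
  have hmem : ∀ t : L, t * t = 1 → t ≠ 1 → y1 * t = t * y1 → R ⊓ centralizer {t} ≤ R ⊓ centralizer {z} := by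
    intro t ht ht1 hyt x hx
    obtain ⟨ct⟩ := hall t ht ht1
    have hX : ∀ x ∈ R ⊓ centralizer {t}, x * t = t * x := fun x hx => mem_centralizer_singleton_iff.mp hx.2
    have h3 := ct.sq_comm h2 h2' hX (Odd.of_dvd_nat hodd (Subgroup.card_dvd_of_le inf_le_left))
      (cast_ne inf_le_left hp) (cast_ne inf_le_left hp') hyt (by
        intro x hx
        refine ⟨hn1 x hx.1, mem_centralizer_singleton_iff.mpr ?_⟩
        have hxt := hX x hx
        calc y1 * x * y1⁻¹ * t = y1 * x * (y1⁻¹ * t * y1) * y1⁻¹ := by group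
          _ = y1 * (x * t) * y1⁻¹ := by
            have : y1⁻¹ * t * y1 = t := by rw [mul_assoc, ← hyt]; group
            rw [this]; group
          _ = (y1 * t) * x * y1⁻¹ := by rw [hxt]; group
          _ = t * (y1 * x * y1⁻¹) := by rw [hyt]; group) x hx
    rw [h1] at h3
    exact ⟨hx.1, mem_centralizer_singleton_iff.mpr h3.symm⟩
  have hye : y1 * e = e * y1 := by
    have : Commute y1 e := by
      rw [he]
      exact (Commute.refl y1).mul_right hc
    exact this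
  have hfin := Cfsg.Agent.Lib.KleinGen.le_of_klein R (R ⊓ centralizer {z}) hodd z e hz2 hee hez.symm hnz hne le_rfl
    (hmem e hee he1 hye) (hmem (z * e) hzeze hze1 (by
      calc y1 * (z * e) = (y1 * z) * e := by group
        _ = z * (y1 * e) := by rw [h1z]; group
        _ = z * e * y1 := by rw [hye]; group))
  intro x hx
  exact (mem_centralizer_singleton_iff.mp (hfin hx).2).symm

/-- the action of an element `≠ 1, z` of order `2` -/
theorem inv_act (h2' : (2 : F4) ≠ 0) {e : L} (he : e * e = 1) (he1 : e ≠ 1) (hez : e ≠ z)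
    {M : GL (Fin 2) F1} (hM : ∀ w, e * c.r1 w * e⁻¹ = c.r1 (conjGL M w)) : conjGL M ≠ 1 ∧ conjGL M * conjGL M = 1 := by
  constructor
  · intro h
    obtain ⟨y, rfl⟩ := c.cen1 e (fun x => by
      have h1 := hM x
      rw [h, MulAut.one_apply] at h1
      exact mul_inv_eq_iff_eq_mul.mp h1)
    rw [← map_mul] at he
    have h3 : y * y = 1 := c.inj4 (by rw [he, map_one])
    rcases sl_sq_one h2' h3 with h4 | h4
    · exact he1 (by rw [h4, map_one])
    · exact hez (by rw [h4]; exact c.z4)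
  · ext1 w
    apply c.inj1
    rw [MulAut.mul_apply, ← hM, ← hM]
    calc e * (e * c.r1 w * e⁻¹) * e⁻¹ = (e * e) * c.r1 w * (e * e)⁻¹ := by group
      _ = c.r1 w := by rw [he]; group

/-- **The `2`-rank is at most `3`.** -/
theorem no_sixteen [Finite L] (hall : ∀ t : L, t * t = 1 → t ≠ 1 → Nonempty (CenP t F1 F4))
    (h2 : (2 : F1) ≠ 0) (h2' : (2 : F4) ≠ 0) {E : Subgroup L} (hE : ∀ x ∈ E, x * x = 1) (h16 : 16 ≤ Nat.card E) :
    False := by
  classical
  have := Fintype.ofFinite L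
  let S : Finset L := Finset.univ.filter (· ∈ E)
  have hS : S.card = Nat.card E := by
    rw [Nat.card_eq_fintype_card, Fintype.card_subtype]
  have hpick : ∀ T : Finset L, T.card < 16 → ∃ x ∈ E, x ∉ T := by
    intro T hT
    obtain ⟨x, hx, hxT⟩ := Finset.exists_mem_notMem_of_card_lt_card (s := T) (t := S) (by omega)
    exact ⟨x, (Finset.mem_filter.mp hx).2, hxT⟩
  have hcomm : ∀ x ∈ E, ∀ y ∈ E, x * y = y * x := by
    intro x hx y hy
    have h1 := hE _ (E.mul_mem hx hy)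
    have hx1 : x⁻¹ = x := inv_eq_of_mul_eq_one_left (hE x hx)
    have hy1 : y⁻¹ = y := inv_eq_of_mul_eq_one_left (hE y hy)
    calc x * y = (x * y)⁻¹ := (inv_eq_of_mul_eq_one_left h1).symm
      _ = y * x := by rw [_root_.mul_inv_rev, hx1, hy1]
  obtain ⟨z, hzE, hz⟩ := hpick {1} (by simp)
  rw [Finset.mem_singleton] at hz
  obtain ⟨c⟩ := hall z (hE z hzE) hz
  obtain ⟨a, haE, ha⟩ := hpick {1, z} (lt_of_le_of_lt (Finset.card_le_two) (by norm_num))
  obtain ⟨b, hbE, hb⟩ := hpick {1, z, a, z * a} (lt_of_le_of_lt (Finset.card_le_four) (by norm_num))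
  obtain ⟨d, hdE, hd⟩ := hpick ({1, z, a, z * a, b, z * b} ∪ {a * b, z * (a * b)})
    (lt_of_le_of_lt (Finset.card_union_le _ _) (by
      have h1 : Finset.card {a * b, z * (a * b)} ≤ 2 := Finset.card_le_two
      have h3 : Finset.card {1, z, a, z * a, b, z * b} ≤ 6 := Finset.card_le_six
      omega))
  simp only [Finset.mem_insert, Finset.mem_singleton, Finset.mem_union, not_or] at ha hb hd
  have hact : ∀ g ∈ E, ∃ M : GL (Fin 2) F1, ∀ w, g * c.r1 w * g⁻¹ = c.r1 (conjGL M w) :=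
    fun g hg => c.act1 g (hcomm g hg z hzE)
  obtain ⟨A, hA⟩ := hact a haE
  obtain ⟨B, hB⟩ := hact b hbE
  obtain ⟨D, hD⟩ := hact d hdE
  have hmul : ∀ {g h : L} {M N : GL (Fin 2) F1}, (∀ w, g * c.r1 w * g⁻¹ = c.r1 (conjGL M w)) →
      (∀ w, h * c.r1 w * h⁻¹ = c.r1 (conjGL N w)) → ∀ w, (g * h) * c.r1 w * (g * h)⁻¹ = c.r1 (conjGL (M * N) w) := by
    intro g h M N hM hN w
    rw [map_mul, MulAut.mul_apply, ← hM, ← hN]
    group
  have key : ∀ g ∈ E, g ≠ 1 → g ≠ z → ∀ M : GL (Fin 2) F1, (∀ w, g * c.r1 w * g⁻¹ = c.r1 (conjGL M w)) →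
      conjGL M ≠ 1 ∧ conjGL M * conjGL M = 1 := fun g hg h1 h3 M hM => c.inv_act h2' (hE g hg) h1 h3 hM
  have ne_of : ∀ {x y w : L}, x ∈ E → y ∈ E → w ∈ E → y ≠ w * x → x * y ≠ w := by
    intro x y w hx hy hw h h1
    apply h
    have hx1 : x⁻¹ = x := inv_eq_of_mul_eq_one_left (hE x hx)
    calc y = x⁻¹ * (x * y) := by group
      _ = w * x := by rw [h1, hx1, hcomm x hx w hw]
  have hab : a * b ≠ 1 := ne_of haE hbE E.one_mem (by rw [one_mul]; exact hb.2.2.1)
  have habz : a * b ≠ z := ne_of haE hbE hzE hb.2.2.2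
  have had : a * d ≠ 1 := ne_of haE hdE E.one_mem (by rw [one_mul]; exact hd.1.2.2.1)
  have hadz : a * d ≠ z := ne_of haE hdE hzE hd.1.2.2.2.1
  have hbd : b * d ≠ 1 := ne_of hbE hdE E.one_mem (by rw [one_mul]; exact hd.1.2.2.2.2.1)
  have hbdz : b * d ≠ z := ne_of hbE hdE hzE hd.1.2.2.2.2.2
  have habd : a * b * d ≠ 1 := ne_of (E.mul_mem haE hbE) hdE E.one_mem (by rw [one_mul]; exact hd.2.1)
  have habdz : a * b * d ≠ z := ne_of (E.mul_mem haE hbE) hdE hzE hd.2.2
  refine no_eight h2 (A := A) (B := B) (C := D) ?_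
  intro M hM
  simp only [Set.mem_insert_iff, Set.mem_singleton_iff] at hM
  rcases hM with rfl | rfl | rfl | rfl | rfl | rfl | rfl
  · exact key a haE ha.1 ha.2 _ hA
  · exact key b hbE hb.1 hb.2.1 _ hB
  · exact key d hdE hd.1.1 hd.1.2.1 _ hD
  · exact key (a * b) (E.mul_mem haE hbE) hab habz _ (hmul hA hB)
  · exact key (a * d) (E.mul_mem haE hdE) had hadz _ (hmul hA hD)
  · exact key (b * d) (E.mul_mem hbE hdE) hbd hbdz _ (hmul hB hD)
  · exact key (a * b * d) (E.mul_mem (E.mul_mem haE hbE) hdE) habd habdz _ (hmul (hmul hA hB) hD)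

theorem ng_pow {m : ℕ} (hm : Odd m) : (ng : SL F1) ^ m = ng := by
  obtain ⟨k, rfl⟩ := hm
  rw [pow_succ, pow_mul, pow_two, ng_sq, one_pow, one_mul]

theorem exists_form_odd {m : ℕ} (hodd : Odd m) {x : L} (hx : x * z = z * x) (hxm : x ^ m = 1) :
    ∃ a b, x = c.r1 a * c.r4 b ∧ a ^ m = 1 ∧ b ^ m = 1 := by
  obtain ⟨a, b, h⟩ := c.exists_form hodd hx hxm
  rw [h] at hxm
  have hc : Commute (c.r1 a) (c.r4 b) := c.comm a b
  rw [hc.mul_pow, ← map_pow, ← map_pow] at hxm
  have h3 : c.r1 (a ^ m) = c.r4 (b ^ m)⁻¹ := by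
    rw [map_inv]
    exact eq_inv_of_mul_eq_one_left hxm
  rcases c.eq_of_inter h3 with h4 | h4
  · refine ⟨a, b, h, h4, ?_⟩
    rw [h4, map_one] at h3
    exact inv_eq_one.mp (c.inj4 (by rw [← h3, map_one]))
  · have h5 : b ^ m = ng := by
      rw [h4, c.z1] at h3
      have h6 : (b ^ m)⁻¹ = ng := c.inj4 (h3.symm.trans c.z4.symm)
      rw [inv_eq_iff_eq_inv] at h6
      rw [h6]
      exact inv_eq_of_mul_eq_one_left ng_sq
    refine ⟨ng * a, ng * b, ?_, ?_, ?_⟩
    · have h6 := c.z_r1 a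
      rw [map_mul, map_mul, c.z1, c.z4, ← h6, h]
      calc c.r1 a * c.r4 b = c.r1 a * (z * z) * c.r4 b := by rw [c.z_sq, mul_one]
        _ = c.r1 a * z * (z * c.r4 b) := by group
    · have hcm : Commute (ng : SL F1) a := ng_mul _
      rw [hcm.mul_pow, h4, ng_pow hodd, ng_sq]
    · have hcm : Commute (ng : SL F4) b := ng_mul _
      rw [hcm.mul_pow, h5]
      have : (ng : SL F4) ^ m = ng := by
        obtain ⟨k, rfl⟩ := hodd
        rw [pow_succ, pow_mul, pow_two, ng_sq, one_pow, one_mul]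
      rw [this, ng_sq]

theorem card_le_aux [Finite L] (h2 : (2 : F1) ≠ 0) (h2' : (2 : F4) ≠ 0) {U : Subgroup L} (hUz : ∀ u ∈ U, u * z = z * u)
    (hU2 : IsPGroup 2 U) (hgen : U ≤ closure {x | x ∈ U ∧ x * x = 1}) {N : ℕ}
    (hN : ∀ T : Subgroup L, T ≤ c.r4.range → IsPGroup 2 T → Nat.card T ≤ N) {m : ℕ} (hm : Odd m) {a : SL F1} {b : SL F4}
    (ha : a ^ m = 1) (ha1 : a ≠ 1) (hcomm : ∀ u ∈ U, u * (c.r1 a * c.r4 b) = (c.r1 a * c.r4 b) * u) :
    Nat.card U ≤ 2 * N := by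
  classical
  have hang : a ≠ ng := by
    rintro rfl
    rw [ng_pow hm] at ha
    exact ng_ne h2 ha
  -- `u` fixes `a`
  have hfix : ∀ u ∈ U, ∀ M : GL (Fin 2) F1, (∀ w, u * c.r1 w * u⁻¹ = c.r1 (conjGL M w)) → conjGL M a = a := by
    intro u hu M hM
    obtain ⟨N', hN'⟩ := c.act4 u (hUz u hu)
    have h1 : c.r1 (conjGL M a) * c.r4 (conjGL N' b) = c.r1 a * c.r4 b := by
      rw [← hM, ← hN']
      calc _ = u * (c.r1 a * c.r4 b) * u⁻¹ := by group
        _ = _ := by rw [hcomm u hu]; group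
    have h3 : c.r1 (a⁻¹ * conjGL M a) = c.r4 (b * (conjGL N' b)⁻¹) := by
      rw [map_mul, map_mul, map_inv, map_inv]
      calc (c.r1 a)⁻¹ * c.r1 (conjGL M a) = (c.r1 a)⁻¹ * (c.r1 (conjGL M a) * c.r4 (conjGL N' b)) * (c.r4 (conjGL N' b))⁻¹ := by group
        _ = _ := by rw [h1]; group
    rcases c.eq_of_inter h3 with h4 | h4
    · exact (inv_mul_eq_one.mp h4).symm
    · exfalso
      have h5 : conjGL M a = a * ng := by rw [← h4]; group
      have h6 : (conjGL M a) ^ m = 1 := by rw [← map_pow, ha, map_one]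
      have hcm : Commute a (ng : SL F1) := (ng_mul a).symm
      rw [h5, hcm.mul_pow, ha, one_mul, ng_pow hm] at h6
      exact ng_ne h2 h6
  let U0 : Subgroup L := U ⊓ c.r4.range
  have hU0 : Nat.card U0 ≤ N := hN U0 inf_le_right (hU2.to_le inf_le_left)
  by_cases hex : ∃ u0 ∈ U, u0 * u0 = 1 ∧ u0 ∉ c.r4.range
  · obtain ⟨u0, hu0, hu0s, hu0n⟩ := hex
    obtain ⟨M0, hM0⟩ := c.act1 u0 (hUz u0 hu0)
    have hu0i : u0⁻¹ = u0 := inv_eq_of_mul_eq_one_left hu0s
    have hzr : z ∈ c.r4.range := ⟨_, c.z4⟩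
    have n1 : ∀ u, u ∉ c.r4.range → u ≠ 1 := by
      rintro u hu rfl
      exact hu (one_mem _)
    have n2 : ∀ u, u ∉ c.r4.range → u ≠ z := by
      intro u hu h
      exact hu (h ▸ hzr)
    have hnorm : ∀ y ∈ c.r4.range, u0⁻¹ * y * u0 ∈ c.r4.range := by
      rintro _ ⟨y, rfl⟩
      obtain ⟨N', hN'⟩ := c.act4 u0⁻¹ (by
        have h3 := hUz u0 hu0
        rw [inv_mul_eq_iff_eq_mul, ← mul_assoc, h3, mul_assoc, mul_inv_cancel, mul_one])
      exact ⟨_, by rw [← hN' y, inv_inv]⟩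
    have key : ∀ u ∈ U, u ∈ c.r4.range ∨ u * u0 ∈ c.r4.range := by
      intro u hu
      refine closure_induction (p := fun u _ => u ∈ c.r4.range ∨ u * u0 ∈ c.r4.range) ?_ (Or.inl (one_mem _)) ?_ ?_
        (hgen hu)
      · rintro u ⟨hu, hus⟩
        by_cases hur : u ∈ c.r4.range
        · exact Or.inl hur
        right
        obtain ⟨M, hM⟩ := c.act1 u (hUz u hu)
        have i1 := c.inv_act h2' hus (n1 u hur) (n2 u hur) hM
        have i0 := c.inv_act h2' hu0s (n1 u0 hu0n) (n2 u0 hu0n) hM0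
        have h5 := eq_of_fix h2 i1.1 i1.2 i0.1 i0.2 ha1 hang (hfix u hu M hM) (hfix u0 hu0 M0 hM0)
        obtain ⟨y, hy⟩ := c.cen1 (u * u0) (fun x => by
          have h6 : (u * u0) * c.r1 x * (u * u0)⁻¹ = c.r1 x := by
            calc (u * u0) * c.r1 x * (u * u0)⁻¹ = u * (u0 * c.r1 x * u0⁻¹) * u⁻¹ := by group
              _ = c.r1 (conjGL M (conjGL M0 x)) := by rw [hM0, hM]
              _ = c.r1 ((conjGL M0 * conjGL M0) x) := by rw [h5]; rfl
              _ = c.r1 x := by rw [i0.2]; rfl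
          exact mul_inv_eq_iff_eq_mul.mp h6)
        exact ⟨y, hy⟩
      · rintro x y - - (hx | hx) (hy | hy)
        · exact Or.inl (mul_mem hx hy)
        · right
          rw [mul_assoc]
          exact mul_mem hx hy
        · right
          have : x * y * u0 = (x * u0) * (u0⁻¹ * y * u0) := by group
          rw [this]
          exact mul_mem hx (hnorm y hy)
        · left
          have : x * y = (x * u0) * (u0⁻¹ * (y * u0) * u0) := by
            calc x * y = x * y * (u0 * u0) := by rw [hu0s, mul_one]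
              _ = _ := by group
          rw [this]
          exact mul_mem hx (hnorm _ hy)
      · rintro x - (hx | hx)
        · exact Or.inl (inv_mem hx)
        · right
          have : x⁻¹ * u0 = u0⁻¹ * (x * u0)⁻¹ * u0 := by
            calc x⁻¹ * u0 = (u0⁻¹ * u0⁻¹) * x⁻¹ * u0 := by rw [hu0i, hu0s, one_mul]
              _ = _ := by group
          rw [this]
          exact hnorm _ (inv_mem hx)
    let f : U → U0 × Bool := fun u =>
      if h : (u : L) ∈ c.r4.range then (⟨u, u.2, h⟩, true) else (⟨u * u0, U.mul_mem u.2 hu0, (key u u.2).resolve_left h⟩, false)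
    have hf : Function.Injective f := by
      intro u v huv
      by_cases h1 : (u : L) ∈ c.r4.range <;> by_cases h3 : (v : L) ∈ c.r4.range
      · simp only [f, dif_pos h1, dif_pos h3] at huv
        exact Subtype.ext (congrArg (fun w => (w.1 : L)) huv)
      · simp only [f, dif_pos h1, dif_neg h3] at huv
        exact absurd (congrArg Prod.snd huv) (by simp)
      · simp only [f, dif_neg h1, dif_pos h3] at huv
        exact absurd (congrArg Prod.snd huv) (by simp)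
      · simp only [f, dif_neg h1, dif_neg h3] at huv
        have h5 : (u : L) * u0 = v * u0 := congrArg (fun w => (w.1 : L)) huv
        exact Subtype.ext (mul_right_cancel h5)
    have h5 := Nat.card_le_card_of_injective f hf
    rw [Nat.card_prod, Nat.card_eq_fintype_card (α := Bool), Fintype.card_bool] at h5
    omega
  · push Not at hex
    have hUle : U ≤ c.r4.range := by
      refine hgen.trans ((closure_le _).mpr ?_)
      rintro x ⟨hx, hxs⟩
      exact hex x hx hxs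
    have := hN U hUle hU2
    omega

/-- **The centraliser of a large `2`-subgroup generated by involutions is a `2`-group.** -/
theorem two_of_gen [Finite L] (h2 : (2 : F1) ≠ 0) (h2' : (2 : F4) ≠ 0) {U : Subgroup L} (hUz : ∀ u ∈ U, u * z = z * u)
    (hU2 : IsPGroup 2 U) (hgen : U ≤ closure {x | x ∈ U ∧ x * x = 1}) {N : ℕ}
    (hN : ∀ T : Subgroup L, T ≤ c.r4.range → IsPGroup 2 T → Nat.card T ≤ N)
    (hN' : ∀ T : Subgroup L, T ≤ c.r1.range → IsPGroup 2 T → Nat.card T ≤ N) (hzU : z ∈ U) (hcard : 2 * N < Nat.card U) :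
    IsPGroup 2 (centralizer (U : Set L)) := by
  by_contra hcon
  have h3 : ∃ g ∈ centralizer (U : Set L), g ≠ 1 ∧ Odd (orderOf g) := by
    by_contra h4
    push Not at h4
    apply hcon
    rw [IsPGroup.iff_orderOf]
    rintro ⟨g, hg⟩
    rw [Subgroup.orderOf_mk]
    obtain ⟨k, n, hn, hkn⟩ := Nat.exists_eq_pow_mul_and_not_dvd (orderOf_pos g).ne' 2 (by norm_num)
    have h5 : orderOf (g ^ 2 ^ k) = n := by
      rw [orderOf_pow_of_dvd (pow_ne_zero _ (by norm_num)) (hkn ▸ dvd_mul_right _ _), hkn]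
      exact Nat.mul_div_cancel_left _ (pow_pos (by norm_num) _)
    have hno : Odd n := Nat.not_even_iff_odd.mp (fun h => hn (even_iff_two_dvd.mp h))
    have h6 : g ^ 2 ^ k = 1 := by
      by_contra h7
      exact h4 (g ^ 2 ^ k) (pow_mem hg _) h7 (h5 ▸ hno)
    rw [h6, orderOf_one] at h5
    exact ⟨k, by rw [hkn, ← h5, mul_one]⟩
  obtain ⟨g, hg, hg1, hgo⟩ := h3
  rw [mem_centralizer_iff] at hg
  obtain ⟨a, b, rfl, ha, hb⟩ := c.exists_form_odd hgo (hg z hzU).symm (pow_orderOf_eq_one g)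
  by_cases ha1 : a = 1
  · have hb1 : b ≠ 1 := by
      rintro rfl
      rw [ha1, map_one, map_one, mul_one] at hg1
      exact hg1 rfl
    have h5 := c.symm.card_le_aux h2' h2 hUz hU2 hgen hN' hgo (a := b) (b := a) hb hb1 (by
      intro u hu
      have h6 := hg u hu
      show u * (c.r4 b * c.r1 a) = (c.r4 b * c.r1 a) * u
      rw [← c.comm]; exact h6)
    omega
  · have h5 := c.card_le_aux h2 h2' hUz hU2 hgen hN hgo ha ha1 (fun u hu => hg u hu)
    omega

end CenP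

end Cfsg.Agent.H165.RV.Hex
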