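import Cfsg.Agent.H165.RV.HexMain
import Cfsg.Agent.H418.NN.Wrap

/-!
# NRow for `G₂(q)` and `³D₄(q)`, `q` odd: the proof (helper165)
-/

set_option autoImplicit false
set_option linter.style.haveILetI false

namespace Cfsg.Agent.H165.RV.Hex

open Subgroup Cfsg Cfsg.Agent.Lib.SL2Mat Cfsg.Agent.H102.RV

universe u v

/-- a faithful self-dual representation of degree `8` in characteristic `p` -/
def Rep8 (p : ℕ) (S : Type u) [Group S] : Prop :=
  ∃ (k : Type) (_ : Field k) (_ : CharP k p) (B : Matrix (Fin 8) (Fin 8) k)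
    (ρ : S →* Matrix.GeneralLinearGroup (Fin 8) k),
    B.det ≠ 0 ∧ Function.Injective ρ ∧ ∀ g, (ρ g).1.transpose * B * (ρ g).1 = B

theorem two_dvd_sl {F : Type*} [Field F] [Finite F] (h2 : (2 : F) ≠ 0) : 2 ∣ Nat.card (SL F) := by
  have h : orderOf (ng : SL F) = 2 := orderOf_eq_two_of_sq ng_sq (ng_ne h2)
  rw [← h]
  exact orderOf_dvd_natCard _

theorem eight_dvd_sl {S : Type u} [Group S] [Finite S] {z : S} {F1 F4 : Type*} [Field F1] [Field F4] [Finite F1]
    (c : CenP z F1 F4) (h2 : (2 : F1) ≠ 0) : 8 ∣ Nat.card (SL F1) := by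
  obtain ⟨Q, hQ, -⟩ := exists_isSyl c.r1.range ⊥ bot_le IsPGroup.of_bot
  obtain ⟨n, ⟨e⟩⟩ := c.quat1 h2 hQ
  have h1 : Nat.card Q = 4 * 2 ^ (n + 1) := by
    haveI : NeZero (2 ^ (n + 1)) := ⟨by positivity⟩
    rw [Nat.card_congr e.toEquiv, Cfsg.Agent.Lib.DihedralRecog.nat_card_quaternion]
  have h3 : Nat.card Q ∣ Nat.card (SL F1) := by
    rw [← Nat.card_congr c.e1.toEquiv]
    exact Subgroup.card_dvd_of_le hQ.le
  refine Dvd.dvd.trans ?_ h3
  rw [h1, pow_succ]
  exact ⟨2 ^ n, by ring⟩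

/-- a power of two dividing `a b`, `b` odd, divides `a` -/
theorem two_pow_dvd {n a b : ℕ} (hb : ¬ 2 ∣ b) (h : 2 ^ n ∣ a * b) : 2 ^ n ∣ a := by
  refine Nat.Coprime.dvd_of_dvd_mul_right ?_ h
  exact Nat.Coprime.pow_left _ ((Nat.Prime.coprime_iff_not_dvd Nat.prime_two).mpr hb)

section main

variable {S : Type u} [Group S] [Finite S] {F1 F4 : Type} [Field F1] [Field F4] [Finite F1] [Finite F4]

theorem cen_case (hL : HexLike S F1 F4) (hd : Nat.card (SL F1) * Nat.card (SL F4) ∣ Nat.card S) {P : Sylow 2 S}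
    (hP : Nat.card P = 64) {W : Subgroup S} (hWP : W ≤ P) (hWn : ∀ x ∈ P, ∀ u ∈ W, x * u * x⁻¹ ∈ W)
    (hWc : Nat.card W = 32) (hWg : W ≤ closure {x | x ∈ W ∧ x * x = 1}) : IsPGroup 2 (centralizer (W : Set S)) := by
  -- an involution of `W ∩ Z(P)`
  obtain ⟨t, htW, htP, hto⟩ : ∃ t ∈ W, (∀ x ∈ P, t * x = x * t) ∧ orderOf t = 2 := by
    haveI : Group.IsNilpotent (P : Subgroup S) := P.isPGroup'.isNilpotent
    let W' : Subgroup (P : Subgroup S) := W.subgroupOf P
    haveI : W'.Normal := ⟨fun n hn g => by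
      rw [mem_subgroupOf] at hn ⊢
      exact hWn g g.2 _ hn⟩
    have hW'ne : W' ≠ ⊥ := by
      intro h
      have h1 : Nat.card W' = Nat.card W := Nat.card_congr (Subgroup.subgroupOfEquivOfLe hWP).toEquiv
      rw [h, card_bot, hWc] at h1
      omega
    have h1 := Cfsg.Agent.Lib.NormalAbelian.normal_inf_center_ne_bot W' hW'ne
    have h3 : IsPGroup 2 (W' ⊓ center (P : Subgroup S) : Subgroup (P : Subgroup S)) := P.isPGroup'.to_subgroup _
    have h4 : 2 ∣ Nat.card (W' ⊓ center (P : Subgroup S) : Subgroup (P : Subgroup S)) := by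
      obtain ⟨n, hn⟩ := IsPGroup.iff_card.mp h3
      rcases Nat.eq_zero_or_pos n with h5 | h5
      · exfalso
        apply h1
        rw [h5, pow_zero] at hn
        exact (Subgroup.eq_bot_of_card_eq _ hn)
      · rw [hn]
        exact dvd_pow_self 2 (by omega)
    obtain ⟨t, ht⟩ := exists_prime_orderOf_dvd_card' (G := (W' ⊓ center (P : Subgroup S) : Subgroup (P : Subgroup S))) 2 h4
    refine ⟨(t : (P : Subgroup S)), mem_subgroupOf.mp t.2.1, fun x hx => ?_, ?_⟩
    · have h5 := mem_center_iff.mp t.2.2 ⟨x, hx⟩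
      exact (congrArg Subtype.val h5).symm
    · rw [Subgroup.orderOf_coe, Subgroup.orderOf_coe, ht]
  obtain ⟨c⟩ := hL.all t (sq_of_orderOf hto) (by
    rintro rfl
    rw [orderOf_one] at hto
    omega)
  have h81 := eight_dvd_sl c hL.two1
  have h84 := eight_dvd_sl c.symm hL.two4
  have hidx : ¬ 2 ∣ (P : Subgroup S).index := P.not_dvd_index
  have hcS : Nat.card S = 64 * (P : Subgroup S).index := by
    rw [← (P : Subgroup S).card_mul_index]
    congr 1
  have hbound : ∀ (T : Subgroup S) (m : ℕ), IsPGroup 2 T → Nat.card T ∣ m → m * 8 ∣ Nat.card S → Nat.card T ≤ 8 := by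
    intro T m hT hTm hm
    obtain ⟨n, hn⟩ := IsPGroup.iff_card.mp hT
    have h1 : 2 ^ (n + 3) ∣ 64 * (P : Subgroup S).index := by
      rw [← hcS]
      refine Dvd.dvd.trans ?_ hm
      rw [pow_add, ← hn]
      exact Nat.mul_dvd_mul hTm (by norm_num)
    have h3 := two_pow_dvd hidx h1
    have h4 := Nat.le_of_dvd (by norm_num) h3
    rw [pow_add, ← hn] at h4
    omega
  have hc1 : Nat.card c.r1.range = Nat.card (SL F1) := Nat.card_congr c.e1.toEquiv
  have hc4 : Nat.card c.r4.range = Nat.card (SL F4) := Nat.card_congr c.symm.e1.toEquiv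
  refine c.two_of_gen hL.two1 hL.two4 (N := 8) (fun u hu => (htP u (hWP hu)).symm) (P.isPGroup'.to_le hWP) hWg ?_ ?_ htW
    (by rw [hWc]; norm_num)
  · intro T hT hT2
    refine hbound T (Nat.card (SL F4)) hT2 (hc4 ▸ Subgroup.card_dvd_of_le hT) (Dvd.dvd.trans ?_ hd)
    rw [mul_comm]
    exact Nat.mul_dvd_mul_right h81 _
  · intro T hT hT2
    refine hbound T (Nat.card (SL F1)) hT2 (hc1 ▸ Subgroup.card_dvd_of_le hT) (Dvd.dvd.trans ?_ hd)
    exact Nat.mul_dvd_mul_left _ h84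

/-- **NRow for `G₂(q)`, `³D₄(q)`, `q` odd.** -/
theorem nAt_hex (hT2 : ∀ (X : Type u) [Group X] [Finite X], Nonempty (X ≃* ↥(Cfsg.Lie.chevG2.group (ZMod 2))) → TwoPar X)
    (hL : HexLike S F1 F4) (hd : Nat.card (SL F1) * Nat.card (SL F4) ∣ Nat.card S)
    {p : ℕ} (hp : p.Prime) [CharP F1 p] [CharP F4 p] (hrep : Rep8 p S) {π : Set ℕ} (h2 : 2 ∈ π) (hpπ : p ∉ π)
    {H : Subgroup S} (hH : IsPiHall π H) : NAt H := by
  by_cases h2c : pCore 2 H = ⊥
  swap
  · refine NAt.of_isPGroup (N := (pCore 2 H).map H.subtype) ?_ (map_subtype_le _) ?_ ?_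
    · rw [ne_eq, Subgroup.map_eq_bot_iff_of_injective _ H.subtype_injective]
      exact h2c
    · exact (Cfsg.Agent.Lib.Cores.pCore_isPGroup (G := H) 2).map _
    · rintro h hh _ ⟨n, hn, rfl⟩
      exact ⟨_, (Cfsg.Agent.Lib.Cores.pCore_normal (G := H) 2).conj_mem n hn ⟨h, hh⟩, rfl⟩
  intro P hPH φ hφ hfix
  -- the frame
  have h2S : 2 ∣ Nat.card S := (two_dvd_sl hL.two1).trans ((dvd_mul_right _ _).trans hd)
  obtain ⟨t0, ht0⟩ := exists_prime_orderOf_dvd_card' (G := S) 2 h2S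
  obtain ⟨c0⟩ := hL.all t0 (sq_of_orderOf ht0) (by
    rintro rfl
    rw [orderOf_one] at ht0
    omega)
  obtain ⟨g, hfr⟩ := c0.exists_fr hL.two1 hL.two4 P
  obtain ⟨z, c, hfr⟩ : ∃ (z : S) (c : CenP z F1 F4), c.Fr (P : Subgroup S) := ⟨_, _, hfr⟩
  have hpH : ¬ p ∣ Nat.card H := fun h => hpπ (hH.1 p hp h)
  -- Lemma A
  have hA : ∀ x ∈ pPrimeCore 2 H, z * (x : S) = x * z := by
    let R : Subgroup S := (pPrimeCore 2 H).map H.subtype
    have hRc : Nat.card R = Nat.card (pPrimeCore 2 H) :=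
      (Nat.card_congr ((pPrimeCore 2 H).equivMapOfInjective _ H.subtype_injective).toEquiv).symm
    have hRodd : Odd (Nat.card R) := by
      rw [hRc]
      have h6 := Cfsg.Agent.Lib.Cores.pPrimeCore_coprime (G := H) 2
      rw [Nat.coprime_comm, Nat.Prime.coprime_iff_not_dvd Nat.prime_two] at h6
      exact Nat.not_even_iff_odd.mp (fun h => h6 (even_iff_two_dvd.mp h))
    have hRp : ¬ p ∣ Nat.card R := by
      intro h
      apply hpH
      rw [hRc] at h
      exact h.trans (Subgroup.card_subgroup_dvd_card _)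
    have hn : ∀ y ∈ H, ∀ x ∈ R, y * x * y⁻¹ ∈ R := by
      rintro y hy _ ⟨x, hx, rfl⟩
      exact ⟨_, (Cfsg.Agent.Lib.Cores.pPrimeCore_normal (G := H) 2).conj_mem x hx ⟨y, hy⟩, rfl⟩
    obtain ⟨y1, hy1, hy1z⟩ := hfr.sq true
    obtain ⟨y4, hy4, hy4z⟩ := hfr.sq false
    have h3 := c.lemA hL.all hL.two1 hL.two4 hRodd (fun h => hRp ((CharP.cast_eq_zero_iff F1 p _).mp h))
      (fun h => hRp ((CharP.cast_eq_zero_iff F4 p _).mp h)) hy1.2 hy1z hy4.2 hy4z (hn y1 (hPH hy1.1))
      (hn y4 (hPH hy4.1))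
    intro x hx
    exact h3 x ⟨x, hx, rfl⟩
  -- the component
  obtain ⟨C, hCn, hq, hzodd, hcodd, Y, _, ⟨eY⟩, hYt⟩ := (CenP.Fr.frameS hL.two4 hfr).core P.isPGroup' hPH
    (by
      intro 𝒦 hC K hK hz i j
      by_contra hne
      have h3 := hC.odd_of_mem (hK i) (hK j) hne (hz i) (hz j)
      rw [c.ord hL.two1] at h3
      exact absurd h3 (by decide))
    (fun _ x hx => hA x hx) h2c cit
  haveI := hCn
  have hQs : H418.NN.Qs (↥C ⧸ center ↥C) := H418.NN.Qs.congr (Y := Y) hYt eY.symm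
  -- orders
  have h81 := eight_dvd_sl c hL.two1
  have h84 := eight_dvd_sl c.symm hL.two4
  have h64S : 2 ^ 6 ∣ Nat.card S := (Nat.mul_dvd_mul h81 h84).trans hd
  have h64P : 2 ^ 6 ∣ Nat.card P := by
    refine two_pow_dvd (b := (P : Subgroup S).index) P.not_dvd_index ?_
    have : Nat.card P * (P : Subgroup S).index = Nat.card S := (P : Subgroup S).card_mul_index
    rw [this]
    exact h64S
  have h64H : 2 ^ 6 ∣ Nat.card H := h64P.trans (Subgroup.card_dvd_of_le hPH)
  have hcodd' : ¬ 2 ∣ Nat.card (centralizer (C : Set H)) := fun h =>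
    (Nat.not_even_iff_odd.mpr hcodd) (even_iff_two_dvd.mpr h)
  have h64i : 2 ^ 6 ∣ (centralizer (C : Set H)).index := by
    refine two_pow_dvd hcodd' ?_
    rw [mul_comm, card_mul_index]
    exact h64H
  -- the representation
  obtain ⟨k, _, _, B, ρ, hB, hρ, hform⟩ := hrep
  have hleft : H418.NN.Left (↥C ⧸ center ↥C) := by
    have hpC : ¬ p ∣ Nat.card C := fun h => hpH (h.trans (Subgroup.card_subgroup_dvd_card _))
    haveI : Finite ρ.range := Set.finite_range ρ |>.to_subtype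
    let f1 : C →* ρ.range := (ρ.rangeRestrict.comp H.subtype).comp C.subtype
    have hf1 : Function.Injective f1 := by
      refine Function.Injective.comp (g := ρ.rangeRestrict.comp H.subtype) ?_ C.subtype_injective
      refine Function.Injective.comp (g := ρ.rangeRestrict) ?_ H.subtype_injective
      exact (MonoidHom.rangeRestrict_injective_iff).mpr hρ
    refine H418.NN.eight_quo OrdDiv.table hq hQs (p := p) hpC (k := k) (n := 8) le_rfl ρ.range.subtype
      ρ.range.subtype_injective ?_ (Z := ⊥) bot_le ((QuotientGroup.mk' ⊥).comp f1) ?_ (h64i.trans (H418.NN.index_dvd C hq))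
    · rintro ⟨_, g, rfl⟩
      exact H418.NN.charpoly_inv_of_form hB (hform g)
    · refine Function.Injective.comp (g := QuotientGroup.mk' (⊥ : Subgroup ρ.range)) ?_ hf1
      rw [← MonoidHom.ker_eq_bot_iff, QuotientGroup.ker_mk']
  have hE16 : H340.RV.Rank4.HasE16 (↥C ⧸ center ↥C) → False := by
    intro h
    obtain ⟨E, hE, hEE⟩ := H340.RV.Rank4.HasE16.lift hzodd h
    let E' : Subgroup S := (E.map C.subtype).map H.subtype
    have hE' : Nat.card E' = 16 := by
      rw [← hE]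
      have e1 := Nat.card_congr (E.equivMapOfInjective _ C.subtype_injective).toEquiv
      have e2 := Nat.card_congr ((E.map C.subtype).equivMapOfInjective _ H.subtype_injective).toEquiv
      rw [e1, e2]
    refine CenP.no_sixteen hL.all hL.two1 hL.two4 (E := E') ?_ hE'.ge
    rintro _ ⟨_, ⟨x, hx, rfl⟩, rfl⟩
    have := hEE x hx
    exact congrArg (fun y : C => ((y : H) : S)) this
  cases hleft with
  | psp4 F hF e => exact (hE16 (H340.RV.Rank4.psp4_three (by rw [Nat.card_eq_fintype_card, hF]) e)).elim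
  | psu4 F hF e => exact (hE16 (H340.RV.Rank4.psu4 (q := 3) (by rw [Nat.card_eq_fintype_card, hF]; norm_num)
      (by decide) e)).elim
  | o7 F hF e => exact (hE16 (H340.RV.Rank4.oOdd le_rfl (by rw [Nat.card_eq_fintype_card, hF]; decide) e)).elim
  | sp6 F hF e => exact (hE16 (H340.RV.Rank4.psp6_two (by rw [Nat.card_eq_fintype_card, hF]) e)).elim
  | o8 F hF e => exact (hE16 (H340.RV.Rank4.o8_two (by rw [Nat.card_eq_fintype_card, hF]) e)).elim
  | psu3 F hF e =>
    obtain ⟨hcY, ⟨eC⟩⟩ := quo_data hq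
    let D : Subgroup H := centralizer (C : Set H)
    have hindex : D.index = Nat.card (H ⧸ D) := rfl
    have h64X : 64 ∣ Nat.card (H ⧸ D) := h64i
    haveI : Fact (Nat.Prime 2) := ⟨Nat.prime_two⟩
    obtain ⟨eX⟩ := H412.G2.iso_G2_two (X := H ⧸ D) (K := C.map (QuotientGroup.mk' D))
      (hCn.map _ (QuotientGroup.mk'_surjective D)) hcY hF ⟨eC.trans e⟩ h64X (ZMod 2) (ZMod.card 2)
    have hcX : Nat.card (H ⧸ D) = 64 * 189 := by
      rw [Nat.card_congr eX.toEquiv, S1059.result (F := ZMod 2) (ZMod.card 2)]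
      norm_num
    have hcP : Nat.card P = 64 := by
      obtain ⟨n, hn⟩ := IsPGroup.iff_card.mp P.isPGroup'
      have h3 : 2 ^ n ∣ Nat.card H := by rw [← hn]; exact Subgroup.card_dvd_of_le hPH
      rw [← D.card_mul_index, mul_comm] at h3
      have h4 := two_pow_dvd hcodd' h3
      rw [hindex, hcX] at h4
      have h5 := two_pow_dvd (by norm_num) h4
      have h6 : Nat.card P = 2 ^ n := hn
      rw [← h6] at h5
      exact Nat.dvd_antisymm h5 h64P
    have hcT := hT2 (H ⧸ D) ⟨eX⟩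
    have hkerD : (QuotientGroup.mk' D).ker = D := QuotientGroup.ker_mk' D
    have hzP : z ∈ P := by
      obtain ⟨y, hy, hyz⟩ := hfr.sq true
      rw [← hyz]
      exact mul_mem hy.1 hy.1
    refine fin_case hPH hcT (QuotientGroup.mk'_surjective D) (by rw [hkerD]; exact hcodd)
      (fun W h3 h4 h5 h6 => cen_case hL hd hcP h3 h4 h5 h6) hzP (c.z_ne hL.two1) ?_ hφ hfix
    intro x hx
    rw [hkerD] at hx
    -- `D` lies in `O(H)`
    refine hA x (Cfsg.Agent.Lib.Cores.le_pPrimeCore (p := 2) (inferInstance : D.Normal) ?_ hx)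
    exact (Nat.coprime_two_right).mpr hcodd

end main

end Cfsg.Agent.H165.RV.Hex
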