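import Cfsg.Agent.H165.RV.HexCrit
import Cfsg.Agent.H808.RV.FSL
import Cfsg.Agent.H102.RV.Main
import Cfsg.Agent.H102.RV.Cit
import Cfsg.Agent.Cit.HexType
import Cfsg.Agent.Cit.AutAct

/-!
# `G₂(q)`, `³D₄(q)`, `q` odd: frames and components (helper165)
-/

set_option autoImplicit false
set_option linter.style.haveILetI false

namespace Cfsg.Agent.H165.RV.Hex

open Subgroup Cfsg Cfsg.Agent.Lib.SL2Mat Cfsg.Agent.Cit.HexBase Cfsg.Agent.H102.RV
open Cfsg.Agent.Cit.AutFacts

universe u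

namespace CenP

variable {L : Type u} [Group L] {z : L} {F1 F4 : Type*} [Field F1] [Field F4] (c : CenP z F1 F4)

/-- the first factor is `SL₂` -/
noncomputable def e1 : c.r1.range ≃* SL F1 := (MonoidHom.ofInjective c.inj1).symm

include c in
theorem ord [Finite L] (h2 : (2 : F1) ≠ 0) : orderOf z = 2 := orderOf_eq_two_of_sq c.z_sq (c.z_ne h2)

theorem fund1 [Finite L] [Finite F1] (h2 : (2 : F1) ≠ 0) : Fund c.r1.range z := by
  refine ⟨c.ord h2, ⟨_, c.z1⟩, ?_, ?_, ?_⟩
  · rintro _ ⟨x, rfl⟩ ho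
    have h1 := sq_of_orderOf ho
    rw [← map_mul] at h1
    have h3 : x * x = 1 := c.inj1 (by rw [h1, map_one])
    rcases sl_sq_one h2 h3 with h4 | h4
    · exfalso
      rw [h4, map_one, orderOf_one] at ho
      omega
    · rw [h4]; exact c.z1
  · intro N hN hn hodd
    exact HexGrp.core_of_isTy (isTy_sl h2 c.e1) N hN (le_normalizer_of hn) hodd
  · rintro g hg _ ⟨x, rfl⟩
    obtain ⟨M, hM⟩ := c.act1 g hg
    exact ⟨_, (hM x).symm⟩

theorem fund4 [Finite L] [Finite F4] (h2 : (2 : F4) ≠ 0) : Fund c.r4.range z := c.symm.fund1 h2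

theorem quat1 [Finite L] [Finite F1] (h2 : (2 : F1) ≠ 0) {Q : Subgroup L} (hQ : IsSyl Q c.r1.range) :
    ∃ n : ℕ, Nonempty (Q ≃* QuaternionGroup (2 ^ (n + 1))) :=
  Cfsg.Agent.Cit.AutAct.isQ (isType_of_equiv h2 c.e1) ⟨hQ.le, hQ.pg, hQ.idx⟩

theorem quat4 [Finite L] [Finite F4] (h2 : (2 : F4) ≠ 0) {Q : Subgroup L} (hQ : IsSyl Q c.r4.range) :
    ∃ n : ℕ, Nonempty (Q ≃* QuaternionGroup (2 ^ (n + 1))) := c.symm.quat1 h2 hQ

/-- the two factors -/
def fam : Bool → Subgroup L := fun b => if b then c.r1.range else c.r4.range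

theorem fam_conj (g : L) (b : Bool) : (c.conj g).fam b = (c.fam b).map (MulAut.conj g).toMonoidHom := by
  cases b
  · show ((MulAut.conj g).toMonoidHom.comp c.r4).range = c.r4.range.map _
    rw [MonoidHom.range_comp]
  · show ((MulAut.conj g).toMonoidHom.comp c.r1).range = c.r1.range.map _
    rw [MonoidHom.range_comp]

theorem inv_fam (h2 : (2 : F4) ≠ 0) {t : L} (ht : orderOf t = 2) (h : ∀ b, ∀ l ∈ c.fam b, t * l = l * t) : t = z := by
  obtain ⟨y, rfl⟩ := c.cen1 t (fun x => h true _ ⟨x, rfl⟩)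
  have h1 := sq_of_orderOf ht
  rw [← map_mul] at h1
  have h3 : y * y = 1 := c.inj4 (by rw [h1, map_one])
  rcases sl_sq_one h2 h3 with h4 | h4
  · exfalso
    rw [h4, map_one, orderOf_one] at ht
    omega
  · rw [h4]; exact c.z4

/-- the frame data for a `2`-group -/
structure Fr (P : Subgroup L) : Prop where
  fund : ∀ b, Fund (c.fam b) z
  syl : ∀ b, IsSyl (P ⊓ c.fam b) (c.fam b)
  sq : ∀ b, ∃ y ∈ P ⊓ c.fam b, y * y = z
  quat : ∀ b, ∃ n : ℕ, Nonempty ((P ⊓ c.fam b : Subgroup L) ≃* QuaternionGroup (2 ^ (n + 1)))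

theorem Fr.frameS {P : Subgroup L} {c : CenP z F1 F4} (h2 : (2 : F4) ≠ 0) (h : Fr c P) :
    FrameS P c.fam (fun b => P ⊓ c.fam b) (fun _ => z) where
  fund := h.fund
  syl := h.syl
  leP := fun _ => inf_le_left
  quat := h.quat
  inv := fun t ht h1 => by
    rw [c.inv_fam h2 ht h1]
    exact subset_closure ⟨true, rfl⟩

/-- **frames exist** -/
theorem exists_fr [Finite L] [Finite F1] [Finite F4] (h2 : (2 : F1) ≠ 0) (h2' : (2 : F4) ≠ 0) (P : Sylow 2 L) :
    ∃ g : L, Fr (c.conj g) (P : Subgroup L) := by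
  have hf : ∀ b, Fund (c.fam b) z := by
    intro b
    cases b
    · exact c.fund4 h2'
    · exact c.fund1 h2
  have hq : ∀ b, ∀ Q, IsSyl Q (c.fam b) → ∃ n : ℕ, Nonempty (Q ≃* QuaternionGroup (2 ^ (n + 1))) := by
    intro b Q hQ
    cases b
    · exact c.quat4 h2' hQ
    · exact c.quat1 h2 hQ
  have hsq : ∀ b, ∀ Q, IsSyl Q (c.fam b) → (∃ y ∈ Q, y * y = z) ∧ ∃ a ∈ Q, ∃ b ∈ Q, a * b ≠ b * a := by
    intro b Q hQ
    obtain ⟨n, ⟨e⟩⟩ := hq b Q hQ
    constructor
    · obtain ⟨y, hy1, hy2⟩ := quat_sq n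
      refine ⟨e.symm y, (e.symm y).2, ?_⟩
      apply (hf b).uniq
      · exact (c.fam b).mul_mem (hQ.le (e.symm y).2) (hQ.le (e.symm y).2)
      · apply orderOf_eq_two_of_sq
        · have h1 : e.symm y * e.symm y * (e.symm y * e.symm y) = 1 := by
            rw [← map_mul, ← map_mul, hy2, map_one]
          exact congrArg Subtype.val h1
        · intro h1
          apply hy1
          have h2 : e.symm y * e.symm y = 1 := Subtype.ext h1
          rw [← map_mul, ← map_one e.symm] at h2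
          exact e.symm.injective h2
    · refine ⟨e.symm (QuaternionGroup.a 1), (e.symm _).2, e.symm (QuaternionGroup.xa 0), (e.symm _).2, fun h => ?_⟩
      have h1 : e.symm (QuaternionGroup.a 1) * e.symm (QuaternionGroup.xa 0) =
          e.symm (QuaternionGroup.xa 0) * e.symm (QuaternionGroup.a 1) := Subtype.ext h
      rw [← map_mul, ← map_mul] at h1
      exact quat_nonab n (e.symm.injective h1)
  have hcomm : ∀ i i' : Bool, i ≠ i' → ∀ a ∈ c.fam i, ∀ b ∈ c.fam i', a * b = b * a := by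
    intro i i' hne a ha b hb
    cases i <;> cases i'
    · exact absurd rfl hne
    · obtain ⟨y, rfl⟩ := ha
      obtain ⟨x, rfl⟩ := hb
      exact (c.comm x y).symm
    · obtain ⟨x, rfl⟩ := ha
      obtain ⟨y, rfl⟩ := hb
      exact c.comm x y
    · exact absurd rfl hne
  obtain ⟨g, hg⟩ := Cfsg.Agent.H808.RV.exists_frame (L := c.fam) (z := fun _ => z) hf hsq hcomm (fun t ht h1 => by
    rw [c.inv_fam h2' ht h1]
    exact subset_closure ⟨true, rfl⟩) P
  refine ⟨g, ?_, ?_, ?_, ?_⟩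
  · intro b
    rw [fam_conj]
    exact hg.fund b
  · intro b
    rw [fam_conj]
    exact hg.syl b
  · intro b
    rw [fam_conj]
    exact hg.sq b
  · intro b
    have h1 := hg.syl b
    rw [← fam_conj] at h1
    cases b
    · exact (c.conj g).quat4 h2' h1
    · exact (c.conj g).quat1 h2 h1

end CenP

/-- the standing hypotheses on `S` -/
structure HexLike (S : Type u) [Group S] (F1 F4 : Type) [Field F1] [Field F4] : Prop where
  all : ∀ t : S, t * t = 1 → t ≠ 1 → Nonempty (CenP t F1 F4)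
  two1 : (2 : F1) ≠ 0
  two4 : (2 : F4) ≠ 0

variable {S : Type u} [Group S] {F1 F4 : Type} [Field F1] [Field F4]

theorem hexLike_of {E : Type} [Field E] [Finite E] {σ : E ≃+* E} {L : Type*} [Group L] [Finite L] (c : HexGrp σ L)
    (h2 : (2 : E) ≠ 0) : HexLike L E ↥(fx σ) where
  all := by
    intro t ht ht1
    obtain ⟨g, hg⟩ := isConj_iff.mp (c.isConj_z h2 ht ht1).symm
    rw [← hg]
    exact ⟨(ofHex c h2).conj g⟩
  two1 := h2
  two4 := HexGrp.two_ne h2

end Cfsg.Agent.H165.RV.Hex
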