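import Cfsg.Agent.Cit.HexInv

/-!
# `SL₂` and `PGL₂` in odd characteristic: coprime subgroups and their normalisers (helper165)
-/

set_option autoImplicit false

namespace Cfsg.Agent.H165.RV.Hex

open Matrix Cfsg.Agent.Lib.SL2Mat Cfsg.Agent.Cit.HexBase

section lin

variable {K : Type*} [Field K]

/-- `SL₂` -/
abbrev SL (K : Type*) [Field K] := Matrix.SpecialLinearGroup (Fin 2) K

/-- `-1` -/
def ng : SL K := dg (-1) (neg_ne_zero.2 one_ne_zero)

theorem ent_ng_00 : ent (ng : SL K) 0 0 = -1 := rfl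
theorem ent_ng_01 : ent (ng : SL K) 0 1 = 0 := rfl
theorem ent_ng_10 : ent (ng : SL K) 1 0 = 0 := rfl
theorem ent_ng_11 : ent (ng : SL K) 1 1 = -1 := by
  show (-1 : K)⁻¹ = -1
  rw [inv_neg, inv_one]

theorem ng_mul (x : SL K) : ng * x = x * ng := by
  refine ext_ent ?_ ?_ ?_ ?_ <;>
    simp only [ent_mul, ent_ng_00, ent_ng_01, ent_ng_10, ent_ng_11] <;> ring

theorem ng_sq : (ng : SL K) * ng = 1 := by
  refine ext_ent ?_ ?_ ?_ ?_ <;>
    simp only [ent_mul, ent_ng_00, ent_ng_01, ent_ng_10, ent_ng_11, ent_one_00, ent_one_01, ent_one_10, ent_one_11] <;>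
      ring

theorem ng_ne (h2 : (2 : K) ≠ 0) : (ng : SL K) ≠ 1 := by
  intro h
  apply h2
  have h1 := congrArg (fun x => ent x 0 0) h
  simp only [ent_ng_00, ent_one_00] at h1
  linear_combination -h1

/-- trace -/
def tr (x : SL K) : K := ent x 0 0 + ent x 1 1

theorem tr_conjGL (g : GL (Fin 2) K) (x : SL K) : tr (conjGL g x) = tr x := by
  have h : (conjGL g x).1.trace = x.1.trace := by
    rw [conjGL_val, Matrix.trace_mul_comm, ← Matrix.mul_assoc, inv_val_mul_val, Matrix.one_mul]
  rw [Matrix.trace_fin_two, Matrix.trace_fin_two] at h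
  exact h

theorem tr_conj (g x : SL K) : tr (g * x * g⁻¹) = tr x := by
  rw [← conjGL_toGL, tr_conjGL]

/-- commuting entries -/
theorem comm_ents {x y : SL K} (h : x * y = y * x) :
    ent x 0 1 * ent y 1 0 = ent x 1 0 * ent y 0 1 ∧
      ent x 0 1 * (ent y 0 0 - ent y 1 1) = ent y 0 1 * (ent x 0 0 - ent x 1 1) ∧
      ent x 1 0 * (ent y 0 0 - ent y 1 1) = ent y 1 0 * (ent x 0 0 - ent x 1 1) := by
  have h00 := congrArg (fun z => ent z 0 0) h
  have h01 := congrArg (fun z => ent z 0 1) h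
  have h10 := congrArg (fun z => ent z 1 0) h
  simp only [ent_mul] at h00 h01 h10
  refine ⟨?_, ?_, ?_⟩
  · linear_combination h00
  · linear_combination -h01
  · linear_combination h10

/-- commuting elements of `SL₂` with the same trace `≠ ±2` -/
theorem eq_or_inv (h2 : (2 : K) ≠ 0) {x y : SL K} (h : x * y = y * x) (ht : tr y = tr x) (hx : tr x ^ 2 ≠ 4) :
    y = x ∨ y = x⁻¹ := by
  obtain ⟨h1, h3, h4⟩ := comm_ents h
  have dx := det_eq x
  have dy := det_eq y
  unfold tr at ht hx
  obtain ⟨a, ha⟩ : ∃ a, ent x 0 0 = a := ⟨_, rfl⟩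
  obtain ⟨b, hb⟩ : ∃ b, ent x 0 1 = b := ⟨_, rfl⟩
  obtain ⟨c, hc⟩ : ∃ c, ent x 1 0 = c := ⟨_, rfl⟩
  obtain ⟨d, hd⟩ : ∃ d, ent x 1 1 = d := ⟨_, rfl⟩
  obtain ⟨e, he⟩ : ∃ e, ent y 0 0 = e := ⟨_, rfl⟩
  obtain ⟨f, hf⟩ : ∃ f, ent y 0 1 = f := ⟨_, rfl⟩
  obtain ⟨g, hg⟩ : ∃ g, ent y 1 0 = g := ⟨_, rfl⟩
  obtain ⟨k, hk⟩ : ∃ k, ent y 1 1 = k := ⟨_, rfl⟩
  rw [ha, hb, hc, hd] at dx
  rw [he, hf, hg, hk] at dy
  rw [ha, hd, he, hk] at ht
  rw [ha, hd] at hx
  rw [hb, hg, hc, hf] at h1
  rw [hb, he, hk, hf, ha, hd] at h3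
  rw [hc, he, hk, hg, ha, hd] at h4
  obtain ⟨D, hD⟩ : ∃ D, D = (a - d) ^ 2 + 4 * (b * c) := ⟨_, rfl⟩
  have hD0 : D ≠ 0 := by
    intro h0
    apply hx
    linear_combination h0 - hD + 4 * dx
  obtain ⟨β, hβ⟩ : ∃ β, β * D = (e - k) * (a - d) + 2 * (f * c + g * b) :=
    ⟨((e - k) * (a - d) + 2 * (f * c + g * b)) / D, div_mul_cancel₀ _ hD0⟩
  have e1 : e - k = β * (a - d) := by
    have : D * (e - k) = D * (β * (a - d)) := by
      linear_combination (e - k) * hD - (a - d) * hβ + 2 * c * h3 + 2 * b * h4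
    exact mul_left_cancel₀ hD0 this
  have e2 : f = β * b := by
    have : D * f = D * (β * b) := by
      linear_combination f * hD - b * hβ - (a - d) * h3 - 2 * b * h1
    exact mul_left_cancel₀ hD0 this
  have e3 : g = β * c := by
    have : D * g = D * (β * c) := by
      linear_combination g * hD - c * hβ - (a - d) * h4 + 2 * c * h1
    exact mul_left_cancel₀ hD0 this
  have hβ2 : (β - 1) * (β + 1) = 0 := by
    have : D * ((β - 1) * (β + 1)) = D * 0 := by
      have h5 : (e + k) ^ 2 = (a + d) ^ 2 := by rw [ht]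
      have h6 : (e - k) ^ 2 + 4 * (f * g) = β ^ 2 * D := by
        rw [e1, e2, e3, hD]; ring
      have h7 : (e - k) ^ 2 + 4 * (f * g) = D := by
        linear_combination h5 - 4 * dy + 4 * dx - hD
      linear_combination h7 - h6
    exact mul_left_cancel₀ hD0 this
  rcases mul_eq_zero.mp hβ2 with h5 | h5
  · left
    have hb1 : β = 1 := sub_eq_zero.mp h5
    rw [hb1, one_mul] at e1 e2 e3
    refine ext_ent ?_ ?_ ?_ ?_
    · rw [he, ha]
      exact mul_left_cancel₀ h2 (by linear_combination e1 + ht)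
    · rw [hf, hb]; exact e2
    · rw [hg, hc]; exact e3
    · rw [hk, hd]
      exact mul_left_cancel₀ h2 (by linear_combination -e1 + ht)
  · right
    have hb1 : β = -1 := eq_neg_of_add_eq_zero_left h5
    rw [hb1] at e1 e2 e3
    rw [ent_inv]
    refine ext_ent ?_ ?_ ?_ ?_
    · rw [he, mk_00, hd]
      exact mul_left_cancel₀ h2 (by linear_combination e1 + ht)
    · rw [hf, mk_01, hb, e2]; ring
    · rw [hg, mk_10, hc, e3]; ring
    · rw [hk, mk_11, ha]
      exact mul_left_cancel₀ h2 (by linear_combination -e1 + ht)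

/-- the centraliser of a noncentral element is commutative -/
theorem comm_of_comm {a x y : SL K} (ha : a ≠ 1) (ha' : a ≠ ng) (hx : a * x = x * a) (hy : a * y = y * a) :
    x * y = y * x := by
  obtain ⟨x1, x2, x3⟩ := comm_ents hx
  obtain ⟨y1, y2, y3⟩ := comm_ents hy
  have key : ent x 0 1 * ent y 1 0 = ent x 1 0 * ent y 0 1 ∧
      ent x 0 1 * (ent y 0 0 - ent y 1 1) = ent y 0 1 * (ent x 0 0 - ent x 1 1) ∧
      ent x 1 0 * (ent y 0 0 - ent y 1 1) = ent y 1 0 * (ent x 0 0 - ent x 1 1) := by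
    by_cases hb : ent a 0 1 = 0
    · by_cases hc : ent a 1 0 = 0
      · have hd : ent a 0 0 - ent a 1 1 ≠ 0 := by
          intro h
          have hda := det_eq a
          rw [hb, zero_mul, sub_zero] at hda
          have h1 : ent a 0 0 = ent a 1 1 := sub_eq_zero.mp h
          rw [← h1] at hda
          have h3 : (ent a 0 0 - 1) * (ent a 0 0 + 1) = 0 := by linear_combination hda
          rcases mul_eq_zero.mp h3 with h4 | h4
          · apply ha
            have h5 : ent a 0 0 = 1 := sub_eq_zero.mp h4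
            exact ext_ent h5 hb hc (h1.symm.trans h5)
          · apply ha'
            have h5 : ent a 0 0 = -1 := eq_neg_of_add_eq_zero_left h4
            exact ext_ent h5 hb hc ((h1.symm.trans h5).trans ent_ng_11.symm)
        rw [hb, zero_mul] at x2 y2
        rw [hc, zero_mul] at x3 y3
        have hx01 : ent x 0 1 = 0 := (mul_eq_zero.mp x2.symm).resolve_right hd
        have hx10 : ent x 1 0 = 0 := (mul_eq_zero.mp x3.symm).resolve_right hd
        have hy01 : ent y 0 1 = 0 := (mul_eq_zero.mp y2.symm).resolve_right hd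
        have hy10 : ent y 1 0 = 0 := (mul_eq_zero.mp y3.symm).resolve_right hd
        rw [hx01, hx10, hy01, hy10]
        simp
      · -- `c ≠ 0`
        refine ⟨mul_left_cancel₀ hc ?_, mul_left_cancel₀ hc ?_, mul_left_cancel₀ hc ?_⟩
        · linear_combination -ent y 1 0 * x1 + ent x 1 0 * y1
        · rw [hb] at x1 y1
          have hx01 : ent x 0 1 = 0 := by
            rw [zero_mul] at x1
            exact (mul_eq_zero.mp x1.symm).resolve_left hc
          have hy01 : ent y 0 1 = 0 := by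
            rw [zero_mul] at y1
            exact (mul_eq_zero.mp y1.symm).resolve_left hc
          rw [hx01, hy01]; ring
        · linear_combination ent x 1 0 * y3 - ent y 1 0 * x3
    · have k2 : ent x 0 1 * (ent y 0 0 - ent y 1 1) = ent y 0 1 * (ent x 0 0 - ent x 1 1) :=
        mul_left_cancel₀ hb (by linear_combination ent x 0 1 * y2 - ent y 0 1 * x2)
      refine ⟨mul_left_cancel₀ hb ?_, k2, mul_left_cancel₀ hb ?_⟩
      · linear_combination ent x 0 1 * y1 - ent y 0 1 * x1
      · linear_combination (ent y 0 0 - ent y 1 1) * x1 - (ent x 0 0 - ent x 1 1) * y1 + ent a 1 0 * k2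
  obtain ⟨k1, k2, k3⟩ := key
  refine ext_ent ?_ ?_ ?_ ?_ <;> simp only [ent_mul]
  · linear_combination k1
  · linear_combination -k2
  · linear_combination k3
  · linear_combination -k1

/-! ### powers -/

theorem pow_of_sq_zero {R : Type*} [CommRing R] {A : Type*} [Ring A] [Algebra R A] (ε : R) {N : A} (hN : N * N = 0) :
    ∀ n : ℕ, (algebraMap R A ε + N) ^ (n + 1) = algebraMap R A (ε ^ (n + 1)) + ((n + 1 : ℕ) : A) * (algebraMap R A (ε ^ n) * N) := by
  intro n
  induction n with
  | zero => simp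
  | succ n ih =>
    rw [pow_succ, ih]
    have hc : N * algebraMap R A ε = algebraMap R A ε * N := (Algebra.commutes ε N).symm
    have h1 : ((n + 1 : ℕ) : A) * (algebraMap R A (ε ^ n) * N) * (algebraMap R A ε + N) =
        ((n + 1 : ℕ) : A) * (algebraMap R A (ε ^ (n + 1)) * N) := by
      rw [mul_add, mul_assoc _ _ N, mul_assoc _ N N, hN, mul_zero, mul_zero, add_zero, mul_assoc, mul_assoc _ N, hc,
        ← mul_assoc (algebraMap R A (ε ^ n)), ← map_mul, ← pow_succ]
    rw [add_mul, h1, mul_add, ← map_mul, ← pow_succ]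
    push_cast
    rw [add_mul ((n : A) + 1) 1, one_mul]
    rw [add_assoc]
    congr 1
    exact add_comm _ _

/-- an element of trace `± 2` of even order prime to the characteristic is `± 1` -/
theorem central_of_pow {x : SL K} (ht : tr x ^ 2 = 4) {m : ℕ} (hm : ((2 * m : ℕ) : K) ≠ 0) (hx : x ^ (2 * m) = 1) :
    x = 1 ∨ x = ng := by
  have h2 : (2 : K) ≠ 0 := by
    intro h
    apply hm
    push_cast
    rw [h, zero_mul]
  obtain ⟨ε, hε⟩ : ∃ ε : K, 2 * ε = tr x := ⟨tr x / 2, mul_div_cancel₀ _ h2⟩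
  have hε2 : ε ^ 2 = 1 := by
    have : (2 : K) * 2 * ε ^ 2 = 2 * 2 * 1 := by
      calc (2 : K) * 2 * ε ^ 2 = (2 * ε) ^ 2 := by ring
        _ = 2 * 2 * 1 := by rw [hε, ht]; norm_num
    exact mul_left_cancel₀ (mul_ne_zero h2 h2) this
  let A := Matrix (Fin 2) (Fin 2) K
  obtain ⟨N, hN⟩ : ∃ N : A, N = x.1 - algebraMap K A ε := ⟨_, rfl⟩
  have hdx := det_eq x
  have hNN : N * N = 0 := by
    rw [hN]
    have h5 : ∀ i j, (algebraMap K A ε) i j = if i = j then ε else 0 := by
      intro i j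
      rw [Matrix.algebraMap_matrix_apply]
      rfl
    have ht' : x.1 0 0 + x.1 1 1 = 2 * ε := hε.symm
    have hd' : x.1 0 0 * x.1 1 1 - x.1 0 1 * x.1 1 0 = 1 := hdx
    have e1 : ∀ i j, (x.1 - algebraMap K A ε) i j = x.1 i j - if i = j then ε else 0 := by
      intro i j
      rw [Matrix.sub_apply, h5]
    ext i j
    rw [Matrix.mul_apply, Fin.sum_univ_two, e1, e1, e1, e1, Matrix.zero_apply]
    fin_cases i <;> fin_cases j <;> simp
    · linear_combination (x.1 0 0) * ht' - hd' + hε2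
    · linear_combination (x.1 0 1) * ht'
    · linear_combination (x.1 1 0) * ht'
    · linear_combination (x.1 1 1) * ht' - hd' + hε2
  have hx1 : x.1 = algebraMap K A ε + N := by rw [hN]; abel
  have hm0 : m ≠ 0 := by
    rintro rfl
    simp at hm
  obtain ⟨n, hn⟩ : ∃ n, 2 * m = n + 1 := ⟨2 * m - 1, by omega⟩
  have h6 : x.1 ^ (2 * m) = 1 := by
    have := congrArg Subtype.val hx
    simpa using this
  rw [hx1, hn, pow_of_sq_zero ε hNN n, ← hn, pow_mul, hε2, one_pow, map_one] at h6
  have h7 : ((2 * m : ℕ) : A) * (algebraMap K A (ε ^ n) * N) = 0 := by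
    exact add_eq_left.mp h6
  have h8 : N = 0 := by
    have hu : ((2 * m : ℕ) : A) = algebraMap K A ((2 * m : ℕ) : K) := (map_natCast (algebraMap K A) (2 * m)).symm
    rw [hu, ← mul_assoc, ← map_mul] at h7
    have hne : ((2 * m : ℕ) : K) * ε ^ n ≠ 0 := by
      refine mul_ne_zero hm (pow_ne_zero _ ?_)
      rintro rfl
      norm_num at hε2
    have h9 := congrArg (fun y => algebraMap K A (((2 * m : ℕ) : K) * ε ^ n)⁻¹ * y) h7
    simp only [mul_zero] at h9
    rw [← mul_assoc, ← map_mul, inv_mul_cancel₀ hne, map_one, one_mul] at h9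
    exact h9
  rw [h8, add_zero] at hx1
  have hent : ∀ i j, x.1 i j = if i = j then ε else 0 := by
    intro i j
    rw [hx1, Matrix.algebraMap_matrix_apply]
    rfl
  have h10 : (ε - 1) * (ε + 1) = 0 := by linear_combination hε2
  rcases mul_eq_zero.mp h10 with h11 | h11
  · left
    have h12 : ε = 1 := sub_eq_zero.mp h11
    exact ext_ent ((hent 0 0).trans (by simp [h12])) ((hent 0 1).trans (by simp)) ((hent 1 0).trans (by simp))
      ((hent 1 1).trans (by simp [h12]))
  · right
    have h12 : ε = -1 := eq_neg_of_add_eq_zero_left h11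
    exact ext_ent ((hent 0 0).trans (by simp [h12, ent_ng_00])) ((hent 0 1).trans (by simp [ent_ng_01]))
      ((hent 1 0).trans (by simp [ent_ng_10])) ((hent 1 1).trans (by simp [h12, ent_ng_11]))

/-! ### coprime subgroups -/

/-- if `[H, H]` is commutative then so is `H` -/
theorem comm_step (h2 : (2 : K) ≠ 0) {G : Type*} [Group G] (f : G →* SL K) (hf : Function.Injective f) {m : ℕ}
    (hm : Odd m) (hm' : ((2 * m : ℕ) : K) ≠ 0) (hG : ∀ x, f x ^ (2 * m) = 1) (H : Subgroup G)
    (hc : ∀ x ∈ ⁅H, H⁆, ∀ y ∈ ⁅H, H⁆, x * y = y * x) : ∀ x ∈ H, ∀ y ∈ H, x * y = y * x := by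
  have hpm : ∀ x, f x ^ m = 1 ∨ f x ^ m = ng := by
    intro x
    apply sl_sq_one h2
    rw [← pow_add, ← two_mul, hG]
  have hcen : ∀ x : G, ∀ y : SL K, f x ^ m * y = y * f x ^ m := by
    intro x y
    rcases hpm x with h | h
    · rw [h, one_mul, mul_one]
    · rw [h, ng_mul]
  by_cases hex : ∃ a ∈ ⁅H, H⁆, f a ≠ 1 ∧ f a ≠ ng
  · obtain ⟨a, ha, ha1, ha2⟩ := hex
    have htr : tr (f a) ^ 2 ≠ 4 := by
      intro h4
      rcases central_of_pow h4 hm' (hG a) with h | h
      · exact ha1 h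
      · exact ha2 h
    have key : ∀ g ∈ H, f g * f a = f a * f g := by
      intro g hg
      have h1 : g * a * g⁻¹ ∈ ⁅H, H⁆ := by
        have : g * a * g⁻¹ = (g * a * g⁻¹ * a⁻¹) * a := by group
        rw [this]
        refine mul_mem ?_ ha
        have haH : a ∈ H := Subgroup.commutator_le_self H ha
        exact Subgroup.commutator_mem_commutator hg haH
      have h3 : f g * f a * (f g)⁻¹ = f a ∨ f g * f a * (f g)⁻¹ = (f a)⁻¹ := by
        apply eq_or_inv h2 ?_ (tr_conj _ _) htr
        have := congrArg f (hc a ha _ h1)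
        simpa only [map_mul, map_inv] using this
      have h4 : (f g * f g) * f a = f a * (f g * f g) := by
        rcases h3 with h5 | h5
        · have h6 : f g * f a = f a * f g := mul_inv_eq_iff_eq_mul.mp h5
          rw [mul_assoc, h6, ← mul_assoc, h6, mul_assoc]
        · have h6 : f g * f a = (f a)⁻¹ * f g := mul_inv_eq_iff_eq_mul.mp h5
          have h7 : f g * (f a)⁻¹ = f a * f g := by
            have : f g * (f a)⁻¹ * (f g)⁻¹ = f a := by
              have := congrArg (fun x => x⁻¹) h5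
              simp only [_root_.mul_inv_rev, inv_inv] at this
              rw [mul_assoc]
              exact this
            exact mul_inv_eq_iff_eq_mul.mp this
          rw [mul_assoc, h6, ← mul_assoc, h7, mul_assoc]
      -- `g = (g ^ (m+1)) g ^ (-m)`
      obtain ⟨k, hk⟩ := hm
      have h5 : Commute (f g * f g) (f a) := h4
      have h6 : Commute (f g ^ m) (f a) := hcen g (f a)
      have h7 : Commute (f g) (f a) := by
        have h8 : f g = (f g * f g) ^ (k + 1) * (f g ^ m)⁻¹ := by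
          rw [← pow_two, ← pow_mul, hk, eq_mul_inv_iff_mul_eq, ← pow_succ']
          congr 1
        rw [h8]
        exact (h5.pow_left _).mul_left h6.inv_left
      exact h7
    intro x hx y hy
    apply hf
    rw [map_mul, map_mul]
    exact comm_of_comm ha1 ha2 (key x hx).symm (key y hy).symm
  · push Not at hex
    intro x hx y hy
    have h1 : x * y * x⁻¹ * y⁻¹ ∈ ⁅H, H⁆ := Subgroup.commutator_mem_commutator hx hy
    by_cases h3 : f (x * y * x⁻¹ * y⁻¹) = 1
    · have h4 : x * y * x⁻¹ * y⁻¹ = 1 := hf (h3.trans (map_one f).symm)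
      rwa [mul_inv_eq_one, mul_inv_eq_iff_eq_mul] at h4
    · exfalso
      have h4 := hex _ h1 h3
      simp only [map_mul, map_inv] at h4
      have h5 : f x * f y * (f x)⁻¹ = ng * f y := by
        rw [← h4]; group
      have h6 : f x * f y ^ m * (f x)⁻¹ = f y ^ m := by
        rw [← hcen y (f x)]; group
      have h7 : f x * f y ^ m * (f x)⁻¹ = ng * f y ^ m := by
        have h8 : f x * f y ^ m * (f x)⁻¹ = (f x * f y * (f x)⁻¹) ^ m := by rw [conj_pow]
        rw [h8, h5]
        have hcm : Commute (ng : SL K) (f y) := ng_mul _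
        rw [hcm.mul_pow]
        congr 1
        obtain ⟨k, rfl⟩ := hm
        rw [pow_succ, pow_mul, pow_two, ng_sq, one_pow, one_mul]
      rw [h6] at h7
      exact ng_ne h2 (mul_eq_right.mp h7.symm)

/-- **solvable coprime subgroups of order `2·odd` are commutative** -/
theorem comm_of_solvable (h2 : (2 : K) ≠ 0) {G : Type*} [Group G] (f : G →* SL K) (hf : Function.Injective f) {m : ℕ}
    (hm : Odd m) (hm' : ((2 * m : ℕ) : K) ≠ 0) (hG : ∀ x, f x ^ (2 * m) = 1) (hs : Group.IsSolvable G) :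
    ∀ x y : G, x * y = y * x := by
  obtain ⟨n, hn⟩ := hs.solvable
  have key : ∀ k ≤ n, ∀ x ∈ derivedSeries G (n - k), ∀ y ∈ derivedSeries G (n - k), x * y = y * x := by
    intro k
    induction k with
    | zero =>
      intro _ x hx y hy
      rw [Nat.sub_zero, hn, Subgroup.mem_bot] at hx hy
      rw [hx, hy]
    | succ k ih =>
      intro hk
      apply comm_step h2 f hf hm hm' hG
      have h3 := ih (by omega)
      have h4 : n - k = (n - (k + 1)) + 1 := by omega
      rw [h4, derivedSeries_succ] at h3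
      exact h3
  intro x y
  have h3 := key n le_rfl
  rw [Nat.sub_self, derivedSeries_zero] at h3
  exact h3 x (Subgroup.mem_top x) y (Subgroup.mem_top y)

/-- the square of a normalising element centralises -/
theorem conjGL_sq (h2 : (2 : K) ≠ 0) {B : Subgroup (SL K)} {m : ℕ} (hm' : ((2 * m : ℕ) : K) ≠ 0)
    (hB : ∀ x ∈ B, x ^ (2 * m) = 1) (hc : ∀ x ∈ B, ∀ y ∈ B, x * y = y * x) {M : GL (Fin 2) K}
    (hM : ∀ x ∈ B, conjGL M x ∈ B) : ∀ x ∈ B, conjGL M (conjGL M x) = x := by
  intro x hx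
  by_cases h4 : tr x ^ 2 = 4
  · have h5 : conjGL M x = x := by
      rcases central_of_pow h4 hm' (hB x hx) with h | h
      · rw [h, map_one]
      · rw [h]
        apply Subtype.ext
        rw [conjGL_val]
        have h6 : (ng : SL K).1 = -1 := by
          ext i j
          fin_cases i <;> fin_cases j <;> simp
          · exact ent_ng_00
          · exact ent_ng_01
          · exact ent_ng_10
          · exact ent_ng_11
        rw [h6, Matrix.mul_neg, Matrix.mul_one, Matrix.neg_mul]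
        congr 1
        rw [← Units.val_mul, mul_inv_cancel, Units.val_one]
    rw [h5, h5]
  · rcases eq_or_inv h2 (hc x hx _ (hM x hx)) (tr_conjGL M x) h4 with h5 | h5
    · rw [h5, h5]
    · rw [h5, map_inv, h5, inv_inv]

/-! ### traceless matrices -/

theorem conjGL_eq_one_iff {M : GL (Fin 2) K} : conjGL M = 1 ↔ M.1 0 1 = 0 ∧ M.1 1 0 = 0 ∧ M.1 0 0 = M.1 1 1 := by
  have hiff : conjGL M = 1 ↔ ∀ x : SL K, M.1 * x.1 = x.1 * M.1 := by
    constructor
    · intro h x
      have h1 : (conjGL M x).1 = x.1 := by rw [h]; rfl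
      rw [conjGL_val] at h1
      calc M.1 * x.1 = M.1 * x.1 * (M⁻¹.1 * M.1) := by rw [inv_val_mul_val, Matrix.mul_one]
        _ = (M.1 * x.1 * M⁻¹.1) * M.1 := by simp only [Matrix.mul_assoc]
        _ = x.1 * M.1 := by rw [h1]
    · intro h
      ext1 x
      apply Subtype.ext
      rw [conjGL_val, h x, Matrix.mul_assoc, ← Units.val_mul, mul_inv_cancel, Units.val_one, Matrix.mul_one]
      rfl
  rw [hiff]
  constructor
  · intro h
    have h1 := h (up 1)
    have h2 := h (lo 1)
    have a1 : (up (1 : K)).1 = !![1, 1; 0, 1] := rfl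
    have a2 : (lo (1 : K)).1 = !![1, 0; 1, 1] := rfl
    rw [a1] at h1
    rw [a2] at h2
    have e1 := congrFun (congrFun h1 0) 0
    have e2 := congrFun (congrFun h1 0) 1
    have e3 := congrFun (congrFun h2 0) 0
    simp [Matrix.mul_apply, Fin.sum_univ_two] at e1 e2 e3
    refine ⟨e3, e1, ?_⟩
    linear_combination e2
  · rintro ⟨h1, h2, h3⟩ x
    ext i j
    rw [Matrix.mul_apply, Matrix.mul_apply, Fin.sum_univ_two, Fin.sum_univ_two]
    fin_cases i <;> fin_cases j <;> simp [h1, h2, h3, mul_comm]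

theorem det_ne (M : GL (Fin 2) K) : M.1.det ≠ 0 := by
  have := M.isUnit.map (Matrix.detMonoidHom (n := Fin 2) (R := K))
  exact this.ne_zero

/-- an involution of `PGL₂` has trace `0` -/
theorem trace_zero {M : GL (Fin 2) K} (h1 : conjGL M ≠ 1) (hM : conjGL M * conjGL M = 1) :
    M.1.trace = 0 := by
  rw [← map_mul, conjGL_eq_one_iff] at hM
  rw [ne_eq, conjGL_eq_one_iff] at h1
  obtain ⟨e1, e2, e3⟩ := hM
  rw [Units.val_mul, Matrix.mul_apply, Fin.sum_univ_two] at e1 e2
  rw [Units.val_mul, Matrix.mul_apply, Fin.sum_univ_two, Matrix.mul_apply, Fin.sum_univ_two] at e3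
  rw [Matrix.trace_fin_two]
  by_contra h
  apply h1
  refine ⟨?_, ?_, ?_⟩
  · have : M.1 0 1 * (M.1 0 0 + M.1 1 1) = 0 := by linear_combination e1
    exact (mul_eq_zero.mp this).resolve_right h
  · have : M.1 1 0 * (M.1 0 0 + M.1 1 1) = 0 := by linear_combination e2
    exact (mul_eq_zero.mp this).resolve_right h
  · have : (M.1 0 0 - M.1 1 1) * (M.1 0 0 + M.1 1 1) = 0 := by linear_combination e3
    exact sub_eq_zero.mp ((mul_eq_zero.mp this).resolve_right h)

theorem anti_of_trace {A B : Matrix (Fin 2) (Fin 2) K} (hA : A.trace = 0) (hB : B.trace = 0) (hAB : (A * B).trace = 0) :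
    A * B = -(B * A) := by
  rw [Matrix.trace_fin_two] at hA hB hAB
  rw [Matrix.mul_apply, Matrix.mul_apply, Fin.sum_univ_two, Fin.sum_univ_two] at hAB
  ext i j
  rw [Matrix.neg_apply, Matrix.mul_apply, Matrix.mul_apply, Fin.sum_univ_two, Fin.sum_univ_two]
  have hA' : A 1 1 = -A 0 0 := by linear_combination hA
  have hB' : B 1 1 = -B 0 0 := by linear_combination hB
  rw [hA', hB'] at hAB
  fin_cases i <;> fin_cases j <;> simp [hA', hB']
  · linear_combination hAB
  · ring
  · ring
  · linear_combination hAB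

/-- `PGL₂` has no elementary abelian subgroup of order `8` -/
theorem no_eight (h2 : (2 : K) ≠ 0) {A B C : GL (Fin 2) K}
    (h : ∀ D ∈ ({A, B, C, A * B, A * C, B * C, A * B * C} : Set (GL (Fin 2) K)),
      conjGL D ≠ 1 ∧ conjGL D * conjGL D = 1) : False := by
  have ht : ∀ D ∈ ({A, B, C, A * B, A * C, B * C, A * B * C} : Set (GL (Fin 2) K)), D.1.trace = 0 :=
    fun D hD => trace_zero (h D hD).1 (h D hD).2
  have tA := ht A (by simp)
  have tB := ht B (by simp)
  have tC := ht C (by simp)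
  have tAB := ht (A * B) (by simp)
  have tAC := ht (A * C) (by simp)
  have tBC := ht (B * C) (by simp)
  have tABC := ht (A * B * C) (by simp)
  rw [Units.val_mul] at tAB tAC tBC tABC
  rw [Units.val_mul] at tABC
  have e2 := anti_of_trace tA tC tAC
  have e3 := anti_of_trace tB tC tBC
  have e4 := anti_of_trace tAB tC tABC
  have e5 : A.1 * B.1 * C.1 = C.1 * (A.1 * B.1) := by
    rw [Matrix.mul_assoc, e3, Matrix.mul_neg, ← Matrix.mul_assoc, e2, Matrix.neg_mul, neg_neg, Matrix.mul_assoc]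
  have e6 : (2 : K) • (C.1 * (A.1 * B.1)) = 0 := by
    rw [two_smul]
    nth_rewrite 1 [← e5]
    rw [e4, neg_add_cancel]
  have e7 : C.1 * (A.1 * B.1) = 0 := (smul_eq_zero.mp e6).resolve_left h2
  have e8 := congrArg Matrix.det e7
  rw [Matrix.det_mul, Matrix.det_mul, Matrix.det_zero] at e8
  exact mul_ne_zero (det_ne C) (mul_ne_zero (det_ne A) (det_ne B)) e8

/-- two involutions of `PGL₂` centralising the same noncentral element of `SL₂` are equal -/
theorem eq_of_fix (h2 : (2 : K) ≠ 0) {M N : GL (Fin 2) K} (hM1 : conjGL M ≠ 1) (hM : conjGL M * conjGL M = 1)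
    (hN1 : conjGL N ≠ 1) (hN : conjGL N * conjGL N = 1) {x : SL K} (hx1 : x ≠ 1) (hx2 : x ≠ ng)
    (hMx : conjGL M x = x) (hNx : conjGL N x = x) : conjGL M = conjGL N := by
  have tM := trace_zero hM1 hM
  have tN := trace_zero hN1 hN
  rw [Matrix.trace_fin_two] at tM tN
  have hcomm : ∀ P : GL (Fin 2) K, conjGL P x = x → P.1 * x.1 = x.1 * P.1 := by
    intro P hP
    have h1 : (conjGL P x).1 = x.1 := by rw [hP]
    rw [conjGL_val] at h1
    calc P.1 * x.1 = P.1 * x.1 * (P⁻¹.1 * P.1) := by rw [inv_val_mul_val, Matrix.mul_one]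
      _ = (P.1 * x.1 * P⁻¹.1) * P.1 := by simp only [Matrix.mul_assoc]
      _ = x.1 * P.1 := by rw [h1]
  have cM := hcomm M hMx
  have cN := hcomm N hNx
  obtain ⟨a, ha⟩ : ∃ a, x.1 0 0 = a := ⟨_, rfl⟩
  obtain ⟨b, hb⟩ : ∃ b, x.1 0 1 = b := ⟨_, rfl⟩
  obtain ⟨c, hc⟩ : ∃ c, x.1 1 0 = c := ⟨_, rfl⟩
  obtain ⟨d, hd⟩ : ∃ d, x.1 1 1 = d := ⟨_, rfl⟩
  have hents : ∀ P : GL (Fin 2) K, P.1 * x.1 = x.1 * P.1 → P.1 0 0 + P.1 1 1 = 0 →
      P.1 0 1 * c = b * P.1 1 0 ∧ 2 * P.1 0 0 * b = P.1 0 1 * (a - d) ∧ 2 * P.1 0 0 * c = P.1 1 0 * (a - d) := by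
    intro P hP tP
    have e00 := congrFun (congrFun hP 0) 0
    have e01 := congrFun (congrFun hP 0) 1
    have e10 := congrFun (congrFun hP 1) 0
    rw [Matrix.mul_apply, Matrix.mul_apply, Fin.sum_univ_two, Fin.sum_univ_two, ha, hb, hc] at e00
    rw [Matrix.mul_apply, Matrix.mul_apply, Fin.sum_univ_two, Fin.sum_univ_two, ha, hb, hd] at e01
    rw [Matrix.mul_apply, Matrix.mul_apply, Fin.sum_univ_two, Fin.sum_univ_two, ha, hc, hd] at e10
    refine ⟨?_, ?_, ?_⟩
    · linear_combination e00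
    · linear_combination e01 + b * tP
    · linear_combination -e10 + c * tP
  obtain ⟨m1, m2, m3⟩ := hents M cM tM
  obtain ⟨n1, n2, n3⟩ := hents N cN tN
  -- proportionality
  have prop : M.1 0 1 * N.1 1 0 = M.1 1 0 * N.1 0 1 ∧ M.1 0 0 * N.1 0 1 = N.1 0 0 * M.1 0 1 ∧
      M.1 0 0 * N.1 1 0 = N.1 0 0 * M.1 1 0 := by
    by_cases hb0 : b = 0
    · by_cases hc0 : c = 0
      · have had : a - d ≠ 0 := by
          intro h
          have hda : a * d = 1 := by
            have := det_eq x
            have h5 : ent x 0 0 = a := ha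
            have h6 : ent x 0 1 = b := hb
            have h7 : ent x 1 0 = c := hc
            have h8 : ent x 1 1 = d := hd
            rw [h5, h6, h7, h8, hb0, zero_mul, sub_zero] at this
            exact this
          have had : a = d := sub_eq_zero.mp h
          have h3 : (a - 1) * (a + 1) = 0 := by
            rw [← had] at hda
            linear_combination hda
          rcases mul_eq_zero.mp h3 with h4 | h4
          · apply hx1
            have h5 : a = 1 := sub_eq_zero.mp h4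
            exact ext_ent (ha.trans h5) (hb.trans hb0) (hc.trans hc0) (hd.trans (had.symm.trans h5))
          · apply hx2
            have h5 : a = -1 := eq_neg_of_add_eq_zero_left h4
            exact ext_ent (ha.trans h5) (hb.trans hb0) (hc.trans hc0)
              ((hd.trans (had.symm.trans h5)).trans ent_ng_11.symm)
        rw [hb0, mul_zero] at m2 n2
        rw [hc0, mul_zero] at m3 n3
        have z1 := (mul_eq_zero.mp m2.symm).resolve_right had
        have z2 := (mul_eq_zero.mp n2.symm).resolve_right had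
        have z3 := (mul_eq_zero.mp m3.symm).resolve_right had
        have z4 := (mul_eq_zero.mp n3.symm).resolve_right had
        rw [z1, z2, z3, z4]
        simp
      · have k1 : M.1 0 0 * N.1 1 0 = N.1 0 0 * M.1 1 0 :=
          mul_left_cancel₀ (mul_ne_zero h2 hc0) (by linear_combination N.1 1 0 * m3 - M.1 1 0 * n3)
        refine ⟨mul_left_cancel₀ hc0 ?_, mul_left_cancel₀ hc0 ?_, k1⟩
        · linear_combination N.1 1 0 * m1 - M.1 1 0 * n1
        · linear_combination M.1 0 0 * n1 - N.1 0 0 * m1 + b * k1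
    · have k1 : M.1 0 0 * N.1 0 1 = N.1 0 0 * M.1 0 1 :=
        mul_left_cancel₀ (mul_ne_zero h2 hb0) (by linear_combination N.1 0 1 * m2 - M.1 0 1 * n2)
      refine ⟨mul_left_cancel₀ hb0 ?_, k1, mul_left_cancel₀ hb0 ?_⟩
      · linear_combination N.1 0 1 * m1 - M.1 0 1 * n1
      · linear_combination N.1 0 0 * m1 - M.1 0 0 * n1 + c * k1
  obtain ⟨p1, p2, p3⟩ := prop
  have h3 : conjGL (M * N) = 1 := by
    rw [conjGL_eq_one_iff, Units.val_mul, Matrix.mul_apply, Fin.sum_univ_two, Matrix.mul_apply, Fin.sum_univ_two,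
      Matrix.mul_apply, Fin.sum_univ_two, Matrix.mul_apply, Fin.sum_univ_two]
    refine ⟨?_, ?_, ?_⟩
    · linear_combination p2 + M.1 0 1 * tN
    · linear_combination -p3 + N.1 1 0 * tM
    · linear_combination p1 + M.1 0 0 * tN - N.1 1 1 * tM
  rw [map_mul] at h3
  have h4 : conjGL M = (conjGL N)⁻¹ := eq_inv_of_mul_eq_one_left h3
  rw [h4]
  exact inv_eq_of_mul_eq_one_left hN

end lin

end Cfsg.Agent.H165.RV.Hex
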