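import Cfsg.Agent.H165.RV.HexFrame
import Cfsg.Agent.H165.RV.Defs
import Cfsg.Agent.H418.NN.Eight
import Cfsg.Agent.H340.RV.Rank4All
import Cfsg.Agent.H412.G2.U33
import Cfsg.Agent.OrdDiv.Table
import Cfsg.Agent.H934.OutB

/-!
# NRow for `G₂(q)` and `³D₄(q)`, `q` odd (helper165)
-/

set_option autoImplicit false
set_option linter.style.haveILetI false

namespace Cfsg.Agent.H165.RV.Hex

open Subgroup Cfsg Cfsg.Agent.Lib.SL2Mat Cfsg.Agent.H102.RV

universe u v

/-! ### the centraliser of a component -/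

/-- the quotient by the centraliser of a quasisimple normal subgroup -/
theorem quo_data {G : Type u} [Group G] [Finite G] {C : Subgroup G} [C.Normal] (hq : IsQuasisimple C) :
    centralizer (C.map (QuotientGroup.mk' (centralizer (C : Set G))) : Set (G ⧸ centralizer (C : Set G))) = ⊥ ∧
      Nonempty (C.map (QuotientGroup.mk' (centralizer (C : Set G))) ≃* ↥C ⧸ center ↥C) := by
  let R : Subgroup G := centralizer (C : Set G)
  let f : G →* G ⧸ R := QuotientGroup.mk' R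
  have hfs : Function.Surjective f := QuotientGroup.mk'_surjective R
  have hker : f.ker = R := QuotientGroup.ker_mk' R
  have hperf : ⁅C, C⁆ = C := by
    have h4 : ⁅(⊤ : Subgroup C), ⊤⁆ = ⊤ :=
      (Cfsg.Agent.SignalizersComponents.Components.quasisimple_isPerfect hq).commutator_eq_top
    have := congrArg (fun X : Subgroup C => X.map C.subtype) h4
    simp only [Subgroup.map_commutator] at this
    rwa [← MonoidHom.range_eq_map, range_subtype] at this
  have hRm : ∀ x : G, x ∈ R ↔ ∀ c ∈ C, x * c = c * x := by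
    intro x
    show x ∈ centralizer (C : Set G) ↔ _
    rw [mem_centralizer_iff]
    exact ⟨fun h c hc => (h c hc).symm, fun h c hc => (h c hc).symm⟩
  let Y : Subgroup (G ⧸ R) := C.map f
  let g : C →* Y := (f.comp C.subtype).codRestrict Y (fun c => ⟨c, c.2, rfl⟩)
  have hgs : Function.Surjective g := by
    rintro ⟨_, c, hc, rfl⟩
    exact ⟨⟨c, hc⟩, rfl⟩
  have hgk : g.ker = center C := by
    ext c
    rw [MonoidHom.mem_ker, mem_center_iff]
    constructor
    · intro hc d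
      have h1 : f c = 1 := congrArg Subtype.val hc
      have h2 : (c : G) ∈ f.ker := h1
      rw [hker, hRm] at h2
      apply Subtype.ext
      exact (h2 d d.2).symm
    · intro hc
      apply Subtype.ext
      show f c = 1
      have h2 : (c : G) ∈ f.ker := by
        rw [hker, hRm]
        intro d hd
        exact (congrArg Subtype.val (hc ⟨d, hd⟩)).symm
      exact h2
  refine ⟨?_, ⟨((QuotientGroup.quotientMulEquivOfEq hgk.symm).trans
    (QuotientGroup.quotientKerEquivOfSurjective g hgs)).symm⟩⟩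
  rw [eq_bot_iff]
  intro x' hx'
  obtain ⟨x, rfl⟩ := hfs x'
  have h1 : ∀ c ∈ C, x * c * x⁻¹ * c⁻¹ ∈ R := by
    intro c hc
    have h2 := (mem_centralizer_iff.mp hx') (f c) ⟨c, hc, rfl⟩
    have h3 : f (x * c * x⁻¹ * c⁻¹) = 1 := by
      simp only [map_mul, map_inv]
      rw [← h2]; group
    rw [← hker]
    exact h3
  have h2 : x ∈ R := by
    rw [hRm]
    exact comm_of_perfect hperf (fun k hk l hl => (hRm _).mp (h1 k hk) l hl) fun k hk =>
      (inferInstance : C.Normal).conj_mem k hk x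
  rw [mem_bot]
  have h3 : x ∈ f.ker := by rw [hker]; exact h2
  exact h3

/-! ### automorphisms of odd order centralising a Sylow `2`-subgroup -/

/-- `φ` centralises the normalisers of the centric normal subgroups of `P` -/
theorem fix_of_centric {S : Type u} [Group S] [Finite S] {P : Sylow 2 S} {φ : MulAut S} (hφ : Odd (orderOf φ))
    (hP : ∀ x ∈ P, φ x = x) {U : Subgroup S} (hUP : U ≤ P) (hn : ∀ x ∈ P, ∀ u ∈ U, x * u * x⁻¹ ∈ U)
    (hC : IsPGroup 2 (centralizer (U : Set S))) {x : S} (hx : ∀ u ∈ U, x * u * x⁻¹ ∈ U) : φ x = x := by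
  have hCP : centralizer (U : Set S) ≤ P := by
    have hnorm : ∀ g ∈ (P : Subgroup S), ∀ c ∈ centralizer (U : Set S), g * c * g⁻¹ ∈ centralizer (U : Set S) := by
      intro g hg c hc
      rw [mem_centralizer_iff] at hc ⊢
      intro u hu
      have h1 := hc _ (hn g⁻¹ (inv_mem hg) u hu)
      rw [inv_inv] at h1
      calc u * (g * c * g⁻¹) = g * ((g⁻¹ * u * g) * c) * g⁻¹ := by group
        _ = g * c * g⁻¹ * u := by rw [h1]; group
    have h1 : IsPGroup 2 (centralizer (U : Set S) ⊔ (P : Subgroup S) : Subgroup S) :=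
      isPGroup_sup hC P.isPGroup' hnorm
    exact le_sup_left.trans (le_of_eq (P.is_maximal' h1 le_sup_right))
  obtain ⟨k, hk⟩ : ∃ k, k = x⁻¹ * φ x := ⟨_, rfl⟩
  have hkC : k ∈ centralizer (U : Set S) := by
    rw [mem_centralizer_iff]
    intro u hu
    have h1 : φ (x * u * x⁻¹) = x * u * x⁻¹ := hP _ (hUP (hx u hu))
    rw [map_mul, map_mul, map_inv, hP u (hUP hu)] at h1
    rw [hk]
    calc u * (x⁻¹ * φ x) = x⁻¹ * (x * u * x⁻¹) * φ x := by group
      _ = x⁻¹ * (φ x * u * (φ x)⁻¹) * φ x := by rw [h1]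
      _ = x⁻¹ * φ x * u := by group
  have hφx : φ x = x * k := by rw [hk]; group
  have hφk : φ k = k := hP k (hCP hkC)
  have hpow : ∀ n : ℕ, (φ ^ n) x = x * k ^ n := by
    intro n
    induction n with
    | zero => simp
    | succ n ih =>
      rw [pow_succ', MulAut.mul_apply, ih, map_mul, map_pow, hφk, hφx, pow_succ', mul_assoc]
  have h1 := hpow (orderOf φ)
  rw [pow_orderOf_eq_one, MulAut.one_apply] at h1
  have h2 : k ^ orderOf φ = 1 := (mul_eq_left.mp h1.symm)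
  obtain ⟨m, hm⟩ := hC ⟨k, hkC⟩
  have hm' : k ^ 2 ^ m = 1 := congrArg Subtype.val hm
  have h3 : orderOf k ∣ Nat.gcd (2 ^ m) (orderOf φ) :=
    Nat.dvd_gcd (orderOf_dvd_of_pow_eq_one hm') (orderOf_dvd_of_pow_eq_one h2)
  have h4 : Nat.Coprime (2 ^ m) (orderOf φ) := Nat.Coprime.pow_left _ (Nat.coprime_two_left.mpr hφ)
  rw [h4, Nat.dvd_one, orderOf_eq_one_iff] at h3
  rw [hφx, h3, mul_one]

/-- the data on `G₂(2)` -/
def TwoPar (X : Type u) [Group X] : Prop :=
  ∀ P : Sylow 2 X, ∃ U₁ U₂ : Subgroup X, (U₁ ≤ P ∧ (∀ x ∈ P, ∀ u ∈ U₁, x * u * x⁻¹ ∈ U₁) ∧ Nat.card U₁ = 32 ∧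
    U₁ = closure {x | x ∈ U₁ ∧ x * x = 1}) ∧ (U₂ ≤ P ∧ (∀ x ∈ P, ∀ u ∈ U₂, x * u * x⁻¹ ∈ U₂) ∧ Nat.card U₂ = 32 ∧
    U₂ = closure {x | x ∈ U₂ ∧ x * x = 1}) ∧ normalizer (U₁ : Set X) ⊔ normalizer (U₂ : Set X) = ⊤

/-- **the case `X = H / O(H) ≅ G₂(2)`** -/
theorem fin_case {S : Type u} [Group S] [Finite S] {H : Subgroup S} {P : Sylow 2 S} (hPH : (P : Subgroup S) ≤ H)
    {X : Type v} [Group X] [Finite X] (hT : TwoPar X) {f : H →* X} (hf : Function.Surjective f)
    (hker : Odd (Nat.card f.ker))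
    (hcen : ∀ W : Subgroup S, W ≤ P → (∀ x ∈ P, ∀ u ∈ W, x * u * x⁻¹ ∈ W) → Nat.card W = 32 →
      W ≤ closure {x | x ∈ W ∧ x * x = 1} → IsPGroup 2 (centralizer (W : Set S)))
    {z : S} (hzP : z ∈ P) (hz1 : z ≠ 1) (hzD : ∀ x ∈ f.ker, z * (x : S) = x * z)
    {φ : MulAut S} (hφ : Odd (orderOf φ)) (hfix : ∀ x ∈ P, φ x = x) :
    ∃ N : Subgroup S, N ≠ ⊥ ∧ N ≤ H ∧ (∀ h ∈ H, ∀ n ∈ N, h * n * h⁻¹ ∈ N) ∧
      N.map (φ : S ≃* S).toMonoidHom = N := by
  let PH : Sylow 2 H := P.subtype hPH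
  have hPHm : ∀ x : H, x ∈ PH ↔ (x : S) ∈ P := fun x => Iff.rfl
  let Pb : Sylow 2 X := PH.mapSurjective hf
  have hPb : ∀ x, x ∈ Pb ↔ ∃ y ∈ PH, f y = x := by
    intro x
    have h1 : (Pb : Subgroup X) = (PH : Subgroup H).map f := rfl
    constructor
    · intro hx
      have h2 : x ∈ (PH : Subgroup H).map f := hx
      obtain ⟨y, hy, rfl⟩ := h2
      exact ⟨y, hy, rfl⟩
    · rintro ⟨y, hy, rfl⟩
      exact Subgroup.mem_map_of_mem f hy
  have hinj : ∀ x ∈ PH, f x = 1 → x = 1 := by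
    intro x hx h1
    apply Subtype.ext
    have h3 : IsPGroup 2 (P : Subgroup S) := P.isPGroup'
    have h4 : Odd (Nat.card (f.ker.map H.subtype)) := by
      rwa [← Nat.card_congr (f.ker.equivMapOfInjective _ H.subtype_injective).toEquiv]
    exact eq_one_of_odd h4 h3 ⟨x, h1, rfl⟩ hx
  have hinj' : ∀ x ∈ PH, ∀ y ∈ PH, f x = f y → x = y := by
    intro x hx y hy h
    have h1 : x * y⁻¹ = 1 := hinj _ (mul_mem hx (inv_mem hy)) (by rw [map_mul, map_inv, h, mul_inv_cancel])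
    exact mul_inv_eq_one.mp h1
  -- the fixed points
  let M : Subgroup H :=
    { carrier := {x | φ (x : S) = x}
      mul_mem' := by
        intro a b ha hb
        show φ ((a : S) * b) = a * b
        have ha' : φ (a : S) = a := ha
        have hb' : φ (b : S) = b := hb
        rw [map_mul, ha', hb']
      one_mem' := map_one φ
      inv_mem' := by
        intro a ha
        show φ (a : S)⁻¹ = (a : S)⁻¹
        have ha' : φ (a : S) = a := ha
        rw [map_inv, ha'] }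
  have hMm : ∀ x : H, x ∈ M ↔ φ (x : S) = x := fun _ => Iff.rfl
  have hPM : ∀ x ∈ PH, x ∈ M := fun x hx => hfix x hx
  -- the key step
  have key : ∀ U : Subgroup X, U ≤ Pb → (∀ x ∈ Pb, ∀ u ∈ U, x * u * x⁻¹ ∈ U) → Nat.card U = 32 →
      U = closure {x | x ∈ U ∧ x * x = 1} → normalizer (U : Set X) ≤ M.map f := by
    intro U hUP hUn hUc hUg
    let V : Subgroup H := (PH : Subgroup H) ⊓ U.comap f
    have hVm : ∀ x, x ∈ V ↔ x ∈ PH ∧ f x ∈ U := fun _ => Iff.rfl
    have hVf : ∀ u ∈ U, ∃ x ∈ V, f x = u := by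
      intro u hu
      obtain ⟨y, hy, rfl⟩ := (hPb u).mp (hUP hu)
      exact ⟨y, (hVm y).mpr ⟨hy, hu⟩, rfl⟩
    let W : Subgroup S := V.map H.subtype
    have hWm : ∀ x : H, (x : S) ∈ W ↔ x ∈ V := by
      intro x
      constructor
      · rintro ⟨y, hy, hyx⟩
        have : y = x := H.subtype_injective hyx
        rwa [← this]
      · intro h; exact ⟨x, h, rfl⟩
    have hWH : W ≤ H := map_subtype_le V
    have hWP : W ≤ P := by
      rintro _ ⟨x, hx, rfl⟩
      exact ((hVm x).mp hx).1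
    have hVn : ∀ x ∈ PH, ∀ u ∈ V, x * u * x⁻¹ ∈ V := by
      intro x hx u hu
      have h1 := (hVm u).mp hu
      refine (hVm _).mpr ⟨mul_mem (mul_mem hx h1.1) (inv_mem hx), ?_⟩
      rw [map_mul, map_mul, map_inv]
      exact hUn _ ((hPb _).mpr ⟨x, hx, rfl⟩) _ h1.2
    have hWn : ∀ x ∈ P, ∀ u ∈ W, x * u * x⁻¹ ∈ W := by
      rintro x hx _ ⟨u, hu, rfl⟩
      have h1 := hVn ⟨x, hPH hx⟩ hx u hu
      exact ⟨_, h1, rfl⟩
    have hWc : Nat.card W = 32 := by
      rw [← Nat.card_congr (V.equivMapOfInjective H.subtype H.subtype_injective).toEquiv, ← hUc]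
      let g : V → U := fun x => ⟨f x, ((hVm x).mp x.2).2⟩
      refine Nat.card_congr (Equiv.ofBijective g ⟨?_, ?_⟩)
      · intro x y hxy
        apply Subtype.ext
        exact hinj' x ((hVm x).mp x.2).1 y ((hVm y).mp y.2).1 (congrArg Subtype.val hxy)
      · rintro ⟨u, hu⟩
        obtain ⟨x, hx, hxu⟩ := hVf u hu
        exact ⟨⟨x, hx⟩, Subtype.ext hxu⟩
    have hWg : W ≤ closure {x | x ∈ W ∧ x * x = 1} := by
      -- for each `u ∈ U` some `x ∈ V` in the closure lies over `u`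
      have h1 : ∀ u ∈ U, ∃ x ∈ V, f x = u ∧ (x : S) ∈ closure {x | x ∈ W ∧ x * x = 1} := by
        intro u hu
        rw [hUg] at hu
        refine closure_induction (p := fun u _ => ∃ x ∈ V, f x = u ∧ (x : S) ∈ closure {x | x ∈ W ∧ x * x = 1})
          ?_ ?_ ?_ ?_ hu
        · rintro u ⟨hu, huu⟩
          obtain ⟨x, hx, hxu⟩ := hVf u hu
          refine ⟨x, hx, hxu, subset_closure ⟨(hWm x).mpr hx, ?_⟩⟩
          have h3 : x * x = 1 := by
            apply hinj
            · exact mul_mem ((hVm x).mp hx).1 ((hVm x).mp hx).1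
            · rw [map_mul, hxu, huu]
          exact congrArg Subtype.val h3
        · exact ⟨1, one_mem _, map_one f, one_mem _⟩
        · rintro u v - - ⟨x, hx, hxu, hxc⟩ ⟨y, hy, hyv, hyc⟩
          exact ⟨x * y, mul_mem hx hy, by rw [map_mul, hxu, hyv], mul_mem hxc hyc⟩
        · rintro u - ⟨x, hx, hxu, hxc⟩
          exact ⟨x⁻¹, inv_mem hx, by rw [map_inv, hxu], inv_mem hxc⟩
      rintro _ ⟨x, hx, rfl⟩
      have h3 := (hVm x).mp hx
      obtain ⟨y, hy, hyx, hyc⟩ := h1 _ h3.2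
      have h4 : y = x := hinj' y ((hVm y).mp hy).1 x h3.1 hyx
      rw [h4] at hyc
      exact hyc
    have hC := hcen W hWP hWn hWc hWg
    intro xb hxb
    obtain ⟨x, rfl⟩ := hf xb
    rw [mem_normalizer_iff] at hxb
    -- `V` is a Sylow subgroup of `V D`
    have hD2 : IsSyl V (f.ker ⊔ V) := by
      have hV2 : IsPGroup 2 V := PH.isPGroup'.to_le inf_le_left
      refine ⟨le_sup_right, hV2, ?_⟩
      obtain ⟨T, hT1, hT2⟩ := exists_isSyl (f.ker ⊔ V) V le_sup_right hV2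
      have hTV : T = V := by
        refine le_antisymm ?_ hT2
        intro t ht
        obtain ⟨d, hd, v, hv, rfl⟩ := (mem_sup_iff' (x := t) (fun b _ a ha => by
          rw [MonoidHom.mem_ker] at ha ⊢
          rw [map_mul, map_mul, map_inv, ha, mul_one, mul_inv_cancel])).mp (hT1.le ht)
        have h1 : d ∈ T := by
          have : d = d * v * v⁻¹ := by group
          rw [this]
          exact T.mul_mem ht (T.inv_mem (hT2 hv))
        have h3 : d = 1 := eq_one_of_odd hker hT1.pg hd h1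
        rw [h3, one_mul]
        exact hv
      rw [hTV] at hT1
      exact hT1.idx
    have hconj : V.map (MulAut.conj x).toMonoidHom ≤ f.ker ⊔ V := by
      rintro _ ⟨v, hv, rfl⟩
      show x * v * x⁻¹ ∈ f.ker ⊔ V
      have h1 : f (x * v * x⁻¹) ∈ U := by
        rw [map_mul, map_mul, map_inv]
        exact (hxb _).mp ((hVm v).mp hv).2
      obtain ⟨w, hw, hwf⟩ := hVf _ h1
      have h3 : x * v * x⁻¹ = (x * v * x⁻¹ * w⁻¹) * w := by group
      rw [h3]
      refine mul_mem (mem_sup_left ?_) (mem_sup_right hw)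
      rw [MonoidHom.mem_ker, map_mul, map_inv, hwf, mul_inv_cancel]
    obtain ⟨a, haM, ha⟩ := hD2.conj_le hconj (IsPGroup.map hD2.pg _)
    obtain ⟨d, hd, v, hv, rfl⟩ := (mem_sup_iff' (x := a) (fun b _ a ha => by
          rw [MonoidHom.mem_ker] at ha ⊢
          rw [map_mul, map_mul, map_inv, ha, mul_one, mul_inv_cancel])).mp haM
    have hy : ∀ u ∈ W, (((d * v)⁻¹ * x : H) : S) * u * (((d * v)⁻¹ * x : H) : S)⁻¹ ∈ W := by
      rintro _ ⟨w, hw, rfl⟩
      have h1 := ha (x * w * x⁻¹) ⟨w, hw, rfl⟩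
      have h3 : (d * v)⁻¹ * (x * w * x⁻¹) * (d * v) = ((d * v)⁻¹ * x) * w * ((d * v)⁻¹ * x)⁻¹ := by group
      rw [h3] at h1
      exact ⟨_, h1, rfl⟩
    have hyfix := fix_of_centric hφ hfix hWP hWn hC hy
    refine ⟨v * ((d * v)⁻¹ * x), mul_mem (hPM v ((hVm v).mp hv).1) hyfix, ?_⟩
    have hfd : f d = 1 := hd
    simp only [map_mul, map_inv, hfd, one_mul]
    group
  obtain ⟨U₁, U₂, ⟨a1, a2, a3, a4⟩, ⟨b1, b2, b3, b4⟩, htop⟩ := hT Pb
  have hMtop : M.map f = ⊤ := by
    rw [eq_top_iff, ← htop]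
    exact sup_le (key U₁ a1 a2 a3 a4) (key U₂ b1 b2 b3 b4)
  have hfac : ∀ h : H, ∃ m ∈ M, ∃ d ∈ f.ker, h = m * d := by
    intro h
    have h1 : f h ∈ M.map f := by rw [hMtop]; exact mem_top _
    obtain ⟨m, hm, hmf⟩ := h1
    refine ⟨m, hm, m⁻¹ * h, ?_, by group⟩
    rw [MonoidHom.mem_ker, map_mul, map_inv, hmf, inv_mul_cancel]
  -- the normal closure of `z`
  have hzH : z ∈ H := hPH hzP
  let N : Subgroup S := closure {x | ∃ h ∈ H, x = h * z * h⁻¹}
  have hNfix : ∀ x ∈ N, φ x = x := by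
    intro x hx
    refine closure_induction (p := fun x _ => φ x = x) ?_ (map_one φ) ?_ ?_ hx
    · rintro x ⟨h, hh, rfl⟩
      obtain ⟨m, hm, d, hd, hmd⟩ := hfac ⟨h, hh⟩
      have h1 : h = (m : S) * d := congrArg Subtype.val hmd
      have h3 : h * z * h⁻¹ = m * z * (m : S)⁻¹ := by
        have h4 := hzD d hd
        rw [h1]
        calc (m : S) * (d : S) * z * ((m : S) * (d : S))⁻¹ = m * ((d : S) * z) * (d : S)⁻¹ * (m : S)⁻¹ := by group
          _ = m * z * (m : S)⁻¹ := by rw [← h4]; group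
      have hm' : φ (m : S) = m := hm
      rw [h3, map_mul, map_mul, map_inv, hm', hfix z hzP]
    · intro x y _ _ hx hy
      rw [map_mul, hx, hy]
    · intro x _ hx
      rw [map_inv, hx]
  refine ⟨N, ?_, ?_, ?_, ?_⟩
  · intro h
    apply hz1
    have h1 : z ∈ N := subset_closure ⟨1, one_mem _, by group⟩
    rw [h, mem_bot] at h1
    exact h1
  · rw [closure_le]
    rintro _ ⟨h, hh, rfl⟩
    exact mul_mem (mul_mem hh hzH) (inv_mem hh)
  · intro h hh n hn
    refine closure_induction (p := fun n _ => h * n * h⁻¹ ∈ N) ?_ ?_ ?_ ?_ hn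
    · rintro _ ⟨k, hk, rfl⟩
      exact subset_closure ⟨h * k, mul_mem hh hk, by group⟩
    · rw [mul_one, mul_inv_cancel]; exact one_mem _
    · intro x y _ _ hx hy
      have : h * (x * y) * h⁻¹ = (h * x * h⁻¹) * (h * y * h⁻¹) := by group
      rw [this]; exact mul_mem hx hy
    · intro x _ hx
      have : h * x⁻¹ * h⁻¹ = (h * x * h⁻¹)⁻¹ := by group
      rw [this]; exact inv_mem hx
  · ext x
    constructor
    · rintro ⟨y, hy, rfl⟩
      have : (φ : S ≃* S).toMonoidHom y = y := hNfix y hy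
      rw [this]; exact hy
    · intro hx
      exact ⟨x, hx, hNfix x hx⟩

end Cfsg.Agent.H165.RV.Hex
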