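import Cfsg.Agent.H165.RV.HexFin
import Cfsg.Agent.H485.RV.Eight
import Cfsg.Agent.OddHalf.LongSL.Tw
import Cfsg.Agent.Cit.HexG2
import Cfsg.Agent.Cit.HexD4
import Cfsg.Agent.S1067
import Cfsg.Agent.S1059
import Cfsg.Agent.S0242

/-!
# NRow for `G₂(q)` and `³D₄(q)`, `q` odd: rows (helper165)
-/

set_option autoImplicit false
set_option linter.style.haveILetI false

namespace Cfsg.Agent.H165.RV.Hex

open Subgroup Cfsg Cfsg.Agent.Lib.SL2Mat Cfsg.Agent.H102.RV Cfsg.Agent.Cit.HexBase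

universe u v

theorem card_sl (K : Type*) [Field K] [Finite K] : Nat.card (SL K) = Nat.card K * (Nat.card K ^ 2 - 1) := by
  haveI := Fintype.ofFinite K
  have h := Cfsg.Agent.S0242.result (F := K) rfl 2 (by norm_num)
  have hq : 2 ≤ Fintype.card K := Fintype.one_lt_card
  rw [Fin.prod_univ_two] at h
  rw [Nat.card_eq_fintype_card (α := K)]
  obtain ⟨k, hk⟩ : ∃ k, Fintype.card K = k + 2 := ⟨Fintype.card K - 2, by omega⟩
  rw [hk] at h ⊢
  have e1 : (k + 2) ^ 2 - (k + 2) ^ ((0 : Fin 2) : ℕ) = (k + 1) * (k + 3) := by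
    rw [Fin.val_zero, pow_zero]
    apply Nat.sub_eq_of_eq_add
    ring
  have e2 : (k + 2) ^ 2 - (k + 2) ^ ((1 : Fin 2) : ℕ) = (k + 2) * (k + 1) := by
    rw [Fin.val_one, pow_one]
    apply Nat.sub_eq_of_eq_add
    ring
  have e3 : (k + 2) ^ 2 - 1 = (k + 1) * (k + 3) := by
    apply Nat.sub_eq_of_eq_add
    ring
  rw [e1, e2] at h
  rw [e3]
  have h4 : (k + 2 - 1) * Nat.card (SL K) = (k + 2 - 1) * ((k + 2) * ((k + 1) * (k + 3))) := by
    have e4 : k + 2 - 1 = k + 1 := by omega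
    rw [e4] at h ⊢
    linear_combination h
  exact Nat.eq_of_mul_eq_mul_left (by omega) h4

/-- transport along an isomorphism -/
def CenP.map {L : Type u} [Group L] {z : L} {F1 F4 : Type*} [Field F1] [Field F4] (c : CenP z F1 F4)
    {L' : Type v} [Group L'] (e : L ≃* L') : CenP (e z) F1 F4 where
  r1 := e.toMonoidHom.comp c.r1
  r4 := e.toMonoidHom.comp c.r4
  inj1 := e.injective.comp c.inj1
  inj4 := e.injective.comp c.inj4
  comm := by
    intro x y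
    show e (c.r1 x) * e (c.r4 y) = e (c.r4 y) * e (c.r1 x)
    rw [← map_mul, c.comm, map_mul]
  z1 := congrArg e c.z1
  z4 := congrArg e c.z4
  act1 := by
    intro a ha
    obtain ⟨b, rfl⟩ := e.surjective a
    rw [← map_mul, ← map_mul] at ha
    obtain ⟨M, hM⟩ := c.act1 b (e.injective ha)
    refine ⟨M, fun w => ?_⟩
    show e b * e (c.r1 w) * (e b)⁻¹ = e (c.r1 (conjGL M w))
    rw [← hM w, map_mul, map_mul, map_inv]
  act4 := by
    intro a ha
    obtain ⟨b, rfl⟩ := e.surjective a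
    rw [← map_mul, ← map_mul] at ha
    obtain ⟨M, hM⟩ := c.act4 b (e.injective ha)
    refine ⟨M, fun w => ?_⟩
    show e b * e (c.r4 w) * (e b)⁻¹ = e (c.r4 (conjGL M w))
    rw [← hM w, map_mul, map_mul, map_inv]
  sq := by
    intro a ha
    obtain ⟨b, rfl⟩ := e.surjective a
    rw [← map_mul, ← map_mul] at ha
    obtain ⟨x, y, h⟩ := c.sq b (e.injective ha)
    refine ⟨x, y, ?_⟩
    show e b * e b = e (c.r1 x) * e (c.r4 y)
    rw [← map_mul, ← map_mul, h]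
  cen1 := by
    intro a ha
    obtain ⟨b, rfl⟩ := e.surjective a
    obtain ⟨y, hy⟩ := c.cen1 b (fun x => e.injective (by
      have h : e b * e (c.r1 x) = e (c.r1 x) * e b := ha x
      rw [map_mul, map_mul, h]))
    exact ⟨y, congrArg e hy⟩
  cen4 := by
    intro a ha
    obtain ⟨b, rfl⟩ := e.surjective a
    obtain ⟨y, hy⟩ := c.cen4 b (fun x => e.injective (by
      have h : e b * e (c.r4 x) = e (c.r4 x) * e b := ha x
      rw [map_mul, map_mul, h]))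
    exact ⟨y, congrArg e hy⟩

theorem HexLike.map {L : Type u} [Group L] {L' : Type v} [Group L'] (e : L ≃* L') {F1 F4 : Type} [Field F1] [Field F4]
    (h : HexLike L F1 F4) : HexLike L' F1 F4 where
  all := by
    intro t ht ht1
    obtain ⟨s, rfl⟩ := e.surjective t
    rw [← map_mul, ← map_one e] at ht
    obtain ⟨c⟩ := h.all s (e.injective ht) (by
      rintro rfl
      exact ht1 (map_one e))
    exact ⟨c.map e⟩
  two1 := h.two1
  two4 := h.two4

theorem Rep8.map {p : ℕ} {L : Type u} [Group L] {L' : Type v} [Group L'] (e : L' ≃* L) (h : Rep8 p L) : Rep8 p L' := by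
  obtain ⟨k, i1, i2, B, ρ, hB, hρ, hf⟩ := h
  exact ⟨k, i1, i2, B, ρ.comp e.toMonoidHom, hB, hρ.comp e.injective, fun g => hf (e g)⟩

theorem card_fx_refl {F : Type*} [Field F] : Nat.card ↥(fx (RingEquiv.refl F)) = Nat.card F :=
  Nat.card_congr ⟨fun x => x, fun x => ⟨x, rfl⟩, fun _ => rfl, fun _ => rfl⟩

theorem sub_one_dvd (q k : ℕ) : q - 1 ∣ q ^ k - 1 := Nat.sub_one_dvd_pow_sub_one q k

/-- data of the rows -/
theorem dvd_g2 {F : Type} [Field F] [Fintype F] :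
    Nat.card (SL F) * Nat.card (SL ↥(fx (RingEquiv.refl F))) ∣ Nat.card ↥(Cfsg.Lie.chevG2.group F) := by
  rw [card_sl, card_sl, card_fx_refl, Nat.card_eq_fintype_card, S1059.result (F := F) rfl]
  obtain ⟨q, hq⟩ : ∃ q, q = Fintype.card F := ⟨_, rfl⟩
  rw [← hq]
  have h3 : q ^ 2 - 1 ∣ q ^ 6 - 1 := by
    have := sub_one_dvd (q ^ 2) 3
    rwa [← pow_mul] at this
  obtain ⟨m, hm⟩ := h3
  rw [hm]
  exact ⟨q ^ 4 * m, by ring⟩

theorem dvd_d4 {K : Type} [Field K] [Fintype K] {q : ℕ} (hq : IsPrimePow q) (hK : Fintype.card K = q ^ 3)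
    {σ : K ≃+* K} (hσ : ∀ x, σ x = x ^ q) :
    Nat.card (SL K) * Nat.card (SL ↥(fx σ)) ∣ Nat.card ↥(Cfsg.Lie.twistedD4 K q) := by
  have hf : Nat.card ↥(fx σ) = q := by
    have h1 := OddHalf.LongSL.Tw.card_fixed hq.two_le hK
    have e : Nat.card ↥(fx σ) = Nat.card {x : K // x ^ q = x} :=
      Nat.card_congr (Equiv.subtypeEquivRight fun x => by
        rw [← hσ]
        exact Iff.rfl)
    rw [e]
    exact h1
  rw [card_sl, card_sl, hf, Nat.card_eq_fintype_card, hK, S1067.result hq hK]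
  have h6 : (q ^ 3) ^ 2 = q ^ 6 := by ring
  rw [h6]
  exact ⟨q ^ 8 * (q ^ 8 + q ^ 4 + 1), by ring⟩

section rows

variable {S : Type u} [Group S] [Finite S] {π : Set ℕ}

/-- **`G₂(q)`, `q` odd, `p ∉ π`** -/
theorem nRow_g2' (hT2 : ∀ (X : Type u) [Group X] [Finite X], Nonempty (X ≃* ↥(Cfsg.Lie.chevG2.group (ZMod 2))) → TwoPar X)
    {F : Type} [Field F] [Fintype F] {p : ℕ} (hp : p.Prime) (hp2 : p ≠ 2) [CharP F p] (e : S ≃* ↥(Cfsg.Lie.chevG2.group F))
    (h2 : 2 ∈ π) (hpπ : p ∉ π) : NRow π S := by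
  have h2F : (2 : F) ≠ 0 := by
    intro h
    have h1 : p ∣ 2 := (CharP.cast_eq_zero_iff F p 2).mp (by exact_mod_cast h)
    exact hp2 ((Nat.prime_dvd_prime_iff_eq hp Nat.prime_two).mp h1)
  haveI : Finite ↥(Cfsg.Lie.chevG2.group F) := Finite.of_equiv _ e.toEquiv
  have hL : HexLike ↥(Cfsg.Lie.chevG2.group F) F ↥(fx (RingEquiv.refl F)) :=
    hexLike_of (Cfsg.Agent.Cit.HexG2.g2 F h2F) h2F
  haveI : CharP ↥(fx (RingEquiv.refl F)) p := RingHom.charP (fx (RingEquiv.refl F)).subtype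
    Subtype.val_injective p
  have hrep : Rep8 p ↥(Cfsg.Lie.chevG2.group F) := by
    obtain ⟨B, ρ, hB, hρ, hf⟩ := H485.RV.v8_g2 (F := F)
    exact ⟨F, inferInstance, inferInstance, B, ρ, hB, hρ, hf⟩
  intro H hH
  refine nAt_hex hT2 (hL.map e.symm) ?_ hp (hrep.map e) h2 hpπ hH
  rw [Nat.card_congr e.toEquiv]
  exact dvd_g2

/-- **`³D₄(q)`, `q` odd, `p ∉ π`** -/
theorem nRow_d4' (hT2 : ∀ (X : Type u) [Group X] [Finite X], Nonempty (X ≃* ↥(Cfsg.Lie.chevG2.group (ZMod 2))) → TwoPar X)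
    {K : Type} [Field K] [Fintype K] {q : ℕ} (hq : IsPrimePow q) (hK : Fintype.card K = q ^ 3)
    {p : ℕ} (hp : p.Prime) (hp2 : p ≠ 2) [CharP K p] (e : S ≃* ↥(Cfsg.Lie.twistedD4 K q))
    (h2 : 2 ∈ π) (hpπ : p ∉ π) : NRow π S := by
  have h2F : (2 : K) ≠ 0 := by
    intro h
    have h1 : p ∣ 2 := (CharP.cast_eq_zero_iff K p 2).mp (by exact_mod_cast h)
    exact hp2 ((Nat.prime_dvd_prime_iff_eq hp Nat.prime_two).mp h1)
  haveI : Finite ↥(Cfsg.Lie.twistedD4 K q) := Finite.of_equiv _ e.toEquiv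
  obtain ⟨σ, hσ, ⟨c⟩⟩ := Cfsg.Agent.Cit.HexD4.exists_d4 hK
  have hL : HexLike ↥(Cfsg.Lie.twistedD4 K q) K ↥(fx σ) := hexLike_of c h2F
  haveI : CharP ↥(fx σ) p := RingHom.charP (fx σ).subtype Subtype.val_injective p
  have hrep : Rep8 p ↥(Cfsg.Lie.twistedD4 K q) := by
    obtain ⟨B, ρ, hB, hρ, hf⟩ := H485.RV.v8_td4 hq hK
    exact ⟨K, inferInstance, inferInstance, B, ρ, hB, hρ, hf⟩
  intro H hH
  refine nAt_hex hT2 (hL.map e.symm) ?_ hp (hrep.map e) h2 hpπ hH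
  rw [Nat.card_congr e.toEquiv]
  exact dvd_d4 hq hK hσ

end rows

end Cfsg.Agent.H165.RV.Hex
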