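import Cfsg.Agent.H165.RV.NRowAll
import Cfsg.Agent.H728.RV.ROne
import Cfsg.Agent.H565.RV.OwnMain
import Cfsg.Agent.H305.RV.Ree

/-!
# TEAM RV: the `N`-row of all simple groups from the orthogonal and exceptional rows (helper165)
-/

set_option autoImplicit false

namespace Cfsg.Agent.H165.RV

open Subgroup Cfsg

universe u

/-- the remaining boxes of `NRow` -/
structure NRest (π : Set ℕ) : Prop where
  /-- orthogonal groups, `p ∉ π` -/
  oOdd : ∀ (S : Type u) [Group S] [Finite S] [IsSimpleGroup S], ∀ p : ℕ, p.Prime → p ≠ 2 → p ∉ π →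
    IsPOmegaOddChar p S → NRow π S
  oPlus : ∀ (S : Type u) [Group S] [Finite S] [IsSimpleGroup S], ∀ p : ℕ, p.Prime → p ≠ 2 → p ∉ π →
    IsPOmegaPlusChar p S → NRow π S
  oMinus : ∀ (S : Type u) [Group S] [Finite S] [IsSimpleGroup S], ∀ p : ℕ, p.Prime → p ≠ 2 → p ∉ π →
    IsPOmegaMinusChar p S → NRow π S
  /-- exceptional groups, `p ∉ π` -/
  exc : ∀ (S : Type u) [Group S] [Finite S] [IsSimpleGroup S], ∀ p : ℕ, p.Prime → p ≠ 2 → p ∉ π →
    IsExceptionalChevChar p S → NRow π S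
  tw : ∀ (S : Type u) [Group S] [Finite S] [IsSimpleGroup S], ∀ p : ℕ, p.Prime → p ≠ 2 → p ∉ π →
    IsTwistedE6D4Char p S → NRow π S

variable {π : Set ℕ} {S : Type u} [Group S] [Finite S] [IsSimpleGroup S]

/-- groups of Lie type, `p` odd, `p ∉ π` -/
theorem nrow_cross' (B : NRest.{u} π) (h2 : 2 ∈ π) {p : ℕ} (hp : p.Prime) (hpπ : p ∉ π) (h : IsLieTypeChar p S) :
    NRow π S := by
  have hp2 : p ≠ 2 := by rintro rfl; exact hpπ h2
  have : Fact p.Prime := ⟨hp⟩
  rcases h with h | h | h | h | h | h | h | h | ⟨h, -⟩ | ⟨h, -⟩ | ⟨rfl, h⟩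
  · obtain ⟨F, iF, iFin, iC, n, hn, hn4, ⟨e⟩⟩ := h
    rcases Nat.lt_or_ge n 3 with h3 | h3
    · obtain rfl : n = 2 := by omega
      exact H563.RV.nRow_psl2 e (p := p) h2 hpπ
    · have hodd : Odd (Fintype.card F) := by
        refine Nat.odd_iff.2 (FiniteField.odd_card_of_char_ne_two ?_)
        rw [ringChar.eq F p]; exact hp2
      exact H563.RV.nRow_lin (e := true) (n := n) (q := Fintype.card F) (F := F) ⟨e⟩ (by simp) h3 hodd (p := p) h2 hpπ
  · obtain ⟨F, iF, iFin, iC, m, hm, -, ⟨e⟩⟩ := h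
    exact H563.RV.nRow_sp e hm (p := p) h2 hpπ
  · obtain ⟨F, iF, iFin, iC, n, q, hq, hn, -, ⟨e⟩⟩ := h
    have hodd : Odd (Fintype.card F) := by
      refine Nat.odd_iff.2 (FiniteField.odd_card_of_char_ne_two ?_)
      rw [ringChar.eq F p]; exact hp2
    have hq' : Odd q := by
      rw [hq, pow_two] at hodd
      exact Nat.Odd.of_mul_left hodd
    exact H563.RV.nRow_lin (e := false) (n := n) (q := q) (F := F) ⟨e⟩ (by simpa using hq) hn hq' (p := p) h2 hpπ
  · exact B.oOdd S p hp hp2 hpπ h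
  · exact B.oPlus S p hp hp2 hpπ h
  · exact B.oMinus S p hp hp2 hpπ h
  · exact B.exc S p hp hp2 hpπ h
  · exact B.tw S p hp hp2 hpπ h
  · exact absurd h hp2
  · exact absurd h hp2
  · exact H305.RV.nRow_ree h h2 hpπ

/-- **The `N`-row of all known simple groups.** -/
theorem nrow_fin (B : NRest.{u} π) (h2 : 2 ∈ π) (hna : ¬ IsMulCommutative S) (hK : IsKnownSimple' S) : NRow π S := by
  rcases Cfsg.Agent.OddHalf.Known.classify hna hK with h | ⟨p, hp, hp2, h⟩ | (h | h) | h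
  · exact H728.RV.R1.nRow_one h2 hna (Or.inl h)
  · by_cases hpπ : p ∈ π
    · exact H565.RV.nRow_own hp2 h h2 hpπ
    · exact nrow_cross' B h2 hp hpπ h
  · exact H728.RV.R1.nRow_one h2 hna (Or.inr (Or.inr (Or.inr h)))
  · exact H728.RV.R1.nRow_one h2 hna (Or.inr (Or.inr (Or.inl h)))
  · exact H728.RV.R1.nRow_one h2 hna (Or.inr (Or.inl h))

end Cfsg.Agent.H165.RV
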