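import Cfsg.Agent.H165.RV.Coord
import Cfsg.Agent.H165.WielA
import Cfsg.Agent.S0205

/-!
# TEAM RV: pronormality of Hall subgroups, the reduction to simple groups (helper165)

`pr_of_cfg` : `K` a subgroup of the finite group `G`, `H` a Hall `π`-subgroup of `K` containing the Sylow `2`-subgroup `T`
of `K`, `g ∈ N(K) ∩ C(T)` of odd order: `H` and `g H g⁻¹` are conjugate in the subgroup they generate (from the rows `NRow`
and `BRow` of the simple groups).

`pronormal_simple` : Hall subgroups of even order of simple groups are pronormal.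
-/

set_option autoImplicit false

namespace Cfsg.Agent.H165.RV

open Subgroup Cfsg Cfsg.Agent.H988.CPi Cfsg.Agent.H571.DExt
open scoped Pointwise

universe u

/-- The configuration. -/
structure Conf (π : Set ℕ) {G : Type u} [Group G] (K H T : Subgroup G) (g : G) : Prop where
  gK : g ∈ normalizer (K : Set G)
  hK : H ≤ K
  h1 : PiN π (Nat.card H)
  h2 : PiN' π (H.relIndex K)
  tH : T ≤ H
  t1 : IsPGroup 2 T
  t2 : ¬ 2 ∣ T.relIndex K
  odd : Odd (orderOf g)
  cen : ∀ t ∈ T, g * t * g⁻¹ = t

variable {π : Set ℕ} {G : Type u} [Group G] [Finite G]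

theorem relIndex_dvd_of_le' {H M K : Subgroup G} (hHM : H ≤ M) (hMK : M ≤ K) : H.relIndex M ∣ H.relIndex K :=
  ⟨_, (relIndex_mul_relIndex H M K hHM hMK).symm⟩

omit [Finite G] in
theorem smul_eq_of_normalizer {K : Subgroup G} {g : G} (h : g ∈ normalizer (K : Set G)) : MulAut.conj g • K = K := by
  ext x
  rw [← cj_eq]
  constructor
  · rintro ⟨k, hk, rfl⟩
    exact (mem_normalizer_iff.mp h k).mp hk
  · intro hx
    refine ⟨g⁻¹ * x * g, ?_, by simp [mul_assoc]⟩
    have h1 := mem_normalizer_iff.mp h (g⁻¹ * x * g)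
    have h2 : g * (g⁻¹ * x * g) * g⁻¹ = x := by group
    rw [h2] at h1
    exact h1.mpr hx

theorem normalizer_of_smul_eq {K : Subgroup G} {g : G} (h : MulAut.conj g • K = K) : g ∈ normalizer (K : Set G) := by
  rw [mem_normalizer_iff]
  intro x
  constructor
  · intro hx
    have : g * x * g⁻¹ ∈ MulAut.conj g • K := by rw [← cj_eq]; exact ⟨x, hx, rfl⟩
    rwa [h] at this
  · intro hx
    rw [← h, ← cj_eq] at hx
    obtain ⟨k, hk, hke⟩ := hx
    have : k = x := by
      have h1 : g * k * g⁻¹ = g * x * g⁻¹ := hke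
      exact mul_left_cancel (mul_right_cancel h1)
    rwa [← this]

theorem relIndex_map_dvd {H K A : Subgroup G} [A.Normal] (hHK : H ≤ K) (hAK : A ≤ K) :
    (H.map (QuotientGroup.mk' A)).relIndex (K.map (QuotientGroup.mk' A)) ∣ H.relIndex K := by
  rw [relIndex_map_map, QuotientGroup.ker_mk', sup_of_le_left hAK]
  exact ⟨_, ((mul_comm _ _).trans (relIndex_mul_relIndex H (H ⊔ A) K le_sup_left (sup_le hHK hAK))).symm⟩

/-- the induction hypothesis / the claim -/
def Claim (π : Set ℕ) (n : ℕ) : Prop :=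
  ∀ (G : Type u) [Group G] [Finite G] (K H T : Subgroup G) (g : G), Nat.card K = n → Conf π K H T g → Pr H g

/-- pass to a smaller `K` -/
theorem Conf.of_le {K H T : Subgroup G} {g : G} (c : Conf π K H T g) {M : Subgroup G} (hMK : M ≤ K) (hHM : H ≤ M)
    (hg : g ∈ normalizer (M : Set G)) : Conf π M H T g where
  gK := hg
  hK := hHM
  h1 := c.h1
  h2 := c.h2.of_dvd (relIndex_dvd_of_le' hHM hMK)
  tH := c.tH
  t1 := c.t1
  t2 h := c.t2 (h.trans (relIndex_dvd_of_le' (c.tH.trans hHM) hMK))
  odd := c.odd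
  cen := c.cen

/-- pass to a subnormal factor `L` (normal in `A`, `A` normal in `K`) -/
theorem Conf.inter {K H T : Subgroup G} {g : G} (c : Conf π K H T g) {A L : Subgroup G} (hAK : A ≤ K)
    (hKA : K ≤ normalizer (A : Set G)) (hLA : L ≤ A) (hAL : A ≤ normalizer (L : Set G))
    (hg : g ∈ normalizer (L : Set G)) : Conf π L (H ⊓ L) (T ⊓ L) g where
  gK := hg
  hK := inf_le_right
  h1 := c.h1.of_dvd (card_dvd_of_le inf_le_left)
  h2 := by
    rw [inf_relIndex_right]
    exact c.h2.of_dvd ((relIndex_dvd' hLA hAL).trans (relIndex_dvd' hAK hKA))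
  tH := inf_le_inf_right L c.tH
  t1 := c.t1.to_le inf_le_left
  t2 := by
    rw [inf_relIndex_right]
    exact fun h => c.t2 (h.trans ((relIndex_dvd' hLA hAL).trans (relIndex_dvd' hAK hKA)))
  odd := c.odd
  cen t ht := c.cen t ht.1

/-- pass to a subgroup of `G` containing `K` and `g` -/
theorem Conf.subgroupOf {K H T M : Subgroup G} {g : G} (c : Conf π K H T g) (hKM : K ≤ M) (hg : g ∈ M) :
    Conf π (K.subgroupOf M) (H.subgroupOf M) (T.subgroupOf M) (⟨g, hg⟩ : M) where
  gK := by
    rw [mem_normalizer_iff]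
    intro x
    exact mem_normalizer_iff.mp c.gK x
  hK := fun x hx => c.hK hx
  h1 := by
    have : Nat.card (H.subgroupOf M) = Nat.card H := by
      rw [← card_map_of_injective M.subtype_injective, subgroupOf_map_subtype, inf_of_le_left (c.hK.trans hKM)]
    rw [this]; exact c.h1
  h2 := by rw [relIndex_subgroupOf hKM]; exact c.h2
  tH := fun x hx => c.tH hx
  t1 := c.t1.comap_subtype
  t2 := by rw [relIndex_subgroupOf hKM]; exact c.t2
  odd := by
    rw [← orderOf_injective M.subtype M.subtype_injective]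
    exact c.odd
  cen t ht := Subtype.ext (c.cen t ht)

/-- pass to a quotient by a normal subgroup contained in `K` -/
theorem Conf.quot {K H T : Subgroup G} {g : G} (c : Conf π K H T g) (A : Subgroup G) [A.Normal] (hAK : A ≤ K) :
    Conf π (K.map (QuotientGroup.mk' A)) (H.map (QuotientGroup.mk' A)) (T.map (QuotientGroup.mk' A))
      (QuotientGroup.mk' A g) where
  gK := by
    apply normalizer_of_smul_eq
    rw [← map_smul', smul_eq_of_normalizer c.gK]
  hK := map_mono c.hK
  h1 := c.h1.of_dvd (card_map_dvd _ _)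
  h2 := c.h2.of_dvd (relIndex_map_dvd c.hK hAK)
  tH := map_mono c.tH
  t1 := c.t1.map _
  t2 h := c.t2 (h.trans (relIndex_map_dvd (c.tH.trans c.hK) hAK))
  odd := c.odd.of_dvd_nat (orderOf_map_dvd _ _)
  cen := by
    rintro _ ⟨t, ht, rfl⟩
    rw [← map_inv, ← map_mul, ← map_mul, c.cen t ht]

end Cfsg.Agent.H165.RV
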